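import Mathlib

/-! Index bounds from orbits, relative to a subgroup. -/

set_option autoImplicit false

namespace CfsgLib.OmegaMin

variable {G : Type*} [Group G] [Finite G]

theorem relIndex_pos (H X : Subgroup G) : 0 < H.relIndex X := Nat.pos_of_ne_zero Subgroup.index_ne_zero_of_finite

theorem relIndex_mono (H : Subgroup G) {X Y : Subgroup G} (h : X ≤ Y) : H.relIndex X ≤ H.relIndex Y :=
  Subgroup.relIndex_le_of_le_right h Subgroup.index_ne_zero_of_finite

/-- A set meets every translate of the part supported on an invariant set. -/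
theorem card_le_relIndex_mul {α : Type*} (act : G → α → α) (X K : Subgroup G) (hK : K ≤ X) (a0 : α)
    (hmul : ∀ g ∈ X, ∀ h ∈ X, act (g * h) a0 = act g (act h a0)) (S T : Set α) [Finite T]
    (hT : ∀ h ∈ K, act h a0 ∈ T) (htr : ∀ a ∈ S, ∃ g ∈ X, act g a0 = a) :
    S.ncard ≤ K.relIndex X * T.ncard := by
  classical
  rw [← Nat.card_coe_set_eq T, Subgroup.relIndex, Subgroup.index, ← Nat.card_prod]
  have hsub : S ⊆ Set.range (fun x : (X ⧸ K.subgroupOf X) × T => act (x.1.out : X).1 x.2.1) := by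
    intro a ha
    obtain ⟨g, hg, rfl⟩ := htr a ha
    obtain ⟨h, hh⟩ := QuotientGroup.mk_out_eq_mul (K.subgroupOf X) ⟨g, hg⟩
    have hk : ((h⁻¹ : K.subgroupOf X).1 : G) ∈ K := Subgroup.mem_subgroupOf.1 (h⁻¹).2
    refine ⟨((⟨g, hg⟩ : X), ⟨act ((h⁻¹ : K.subgroupOf X).1 : G) a0, hT _ hk⟩), ?_⟩
    show act _ (act _ a0) = act g a0
    rw [hh, ← hmul _ (SetLike.coe_mem _) _ (hK hk)]
    simp [mul_assoc]
  refine (Set.ncard_le_ncard hsub (Set.finite_range _)).trans ?_
  rw [← Set.image_univ]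
  exact (Set.ncard_image_le).trans (by rw [Set.ncard_univ])

/-- The index splits along a subgroup fixing the point. -/
theorem relIndex_orbit {α : Type*} (act : G → α → α) (H X U : Subgroup G) (hU : U ≤ X) (a0 : α)
    (hmul : ∀ g ∈ X, ∀ h ∈ X, act (g * h) a0 = act g (act h a0)) (S T : Set α) [Finite T]
    (hT : ∀ h ∈ (H ⊓ X) ⊔ U, act h a0 ∈ T) (htr : ∀ a ∈ S, ∃ g ∈ X, act g a0 = a) :
    H.relIndex U * S.ncard ≤ H.relIndex X * T.ncard := by
  have hK : (H ⊓ X) ⊔ U ≤ X := sup_le inf_le_right hU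
  have h1 := card_le_relIndex_mul act X _ hK a0 hmul S T hT htr
  have h2 : H.relIndex U * ((H ⊓ X) ⊔ U).relIndex X ≤ H.relIndex X := by
    rw [← Subgroup.inf_relIndex_right H X, ← Subgroup.relIndex_mul_relIndex (H ⊓ X) ((H ⊓ X) ⊔ U) X le_sup_left hK]
    refine Nat.mul_le_mul_right _ ?_
    rw [show H.relIndex U = (H ⊓ X).relIndex U by
      rw [← Subgroup.inf_relIndex_right H U, ← Subgroup.inf_relIndex_right (H ⊓ X) U, inf_assoc, inf_eq_right.2 hU]]
    exact relIndex_mono _ le_sup_right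
  calc H.relIndex U * S.ncard ≤ H.relIndex U * (((H ⊓ X) ⊔ U).relIndex X * T.ncard) := Nat.mul_le_mul_left _ h1
    _ = H.relIndex U * ((H ⊓ X) ⊔ U).relIndex X * T.ncard := by rw [mul_assoc]
    _ ≤ _ := Nat.mul_le_mul_right _ h2

/-- A family with pairwise inequivalent cosets bounds the index. -/
theorem relIndex_family {ι : Type*} (H X U : Subgroup G) (hU : U ≤ X) (P : G → Prop)
    (hP : ∀ g ∈ (H ⊓ X) ⊔ U, P g) (gs : ι → G) (hgs : ∀ i, gs i ∈ X)
    (hinj : ∀ i j, P ((gs i)⁻¹ * gs j) → i = j) :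
    H.relIndex U * Nat.card ι ≤ H.relIndex X := by
  classical
  have hK : (H ⊓ X) ⊔ U ≤ X := sup_le inf_le_right hU
  have h1 : Nat.card ι ≤ ((H ⊓ X) ⊔ U).relIndex X := by
    refine Nat.card_le_card_of_injective
      (fun i => ((⟨gs i, hgs i⟩ : X) : X ⧸ ((H ⊓ X) ⊔ U).subgroupOf X)) fun i j h => hinj i j (hP _ ?_)
    have := QuotientGroup.eq.1 h
    rw [Subgroup.mem_subgroupOf] at this
    simpa using this
  rw [← Subgroup.inf_relIndex_right H X, ← Subgroup.relIndex_mul_relIndex (H ⊓ X) ((H ⊓ X) ⊔ U) X le_sup_left hK]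
  refine Nat.mul_le_mul ?_ h1
  rw [show H.relIndex U = (H ⊓ X).relIndex U by
    rw [← Subgroup.inf_relIndex_right H U, ← Subgroup.inf_relIndex_right (H ⊓ X) U, inf_assoc, inf_eq_right.2 hU]]
  exact relIndex_mono _ le_sup_right

/-- The index splits along an intermediate subgroup. -/
theorem relIndex_split (H X U : Subgroup G) (hU : U ≤ X) :
    H.relIndex U * ((H ⊓ X) ⊔ U).relIndex X ≤ H.relIndex X := by
  have hK : (H ⊓ X) ⊔ U ≤ X := sup_le inf_le_right hU
  rw [← Subgroup.inf_relIndex_right H X, ← Subgroup.relIndex_mul_relIndex (H ⊓ X) ((H ⊓ X) ⊔ U) X le_sup_left hK]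
  refine Nat.mul_le_mul_right _ ?_
  rw [show H.relIndex U = (H ⊓ X).relIndex U by
    rw [← Subgroup.inf_relIndex_right H U, ← Subgroup.inf_relIndex_right (H ⊓ X) U, inf_assoc, inf_eq_right.2 hU]]
  exact relIndex_mono _ le_sup_right

/-- The index of `H` times an orbit is the index of the stabiliser of `H` in the point stabiliser. -/
theorem orbit_count {α : Type*} [MulAction G α] (H O : Subgroup G) (hH : H ≤ O) (a : α) :
    H.relIndex O * Nat.card (MulAction.orbit H a) =
      Nat.card (MulAction.orbit O a) * H.relIndex (MulAction.stabilizer G a ⊓ O) := by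
  have key : ∀ K : Subgroup G, (MulAction.stabilizer G a).relIndex K = Nat.card (MulAction.orbit K a) := fun K => by
    have h := Subgroup.index_eq_card (MulAction.stabilizer K a)
    rw [← Nat.card_congr (MulAction.orbitEquivQuotientStabilizer K a)] at h
    rw [← h]
    rfl
  set P := MulAction.stabilizer G a ⊓ O with hP
  rw [← key H, ← key O]
  have e1 : (MulAction.stabilizer G a).relIndex H = P.relIndex H := by
    rw [← Subgroup.inf_relIndex_right _ H, ← Subgroup.inf_relIndex_right P H, hP, inf_assoc, inf_eq_right.2 hH]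
  have e2 : (MulAction.stabilizer G a).relIndex O = P.relIndex O := by
    rw [hP, Subgroup.inf_relIndex_right]
  rw [e1, e2, ← Subgroup.inf_relIndex_right P H, ← Subgroup.inf_relIndex_right H P, mul_comm,
    mul_comm (P.relIndex O), inf_comm P H]
  rw [Subgroup.relIndex_mul_relIndex (H ⊓ P) H O inf_le_left hH,
    Subgroup.relIndex_mul_relIndex (H ⊓ P) P O inf_le_right inf_le_right]

theorem stab_le {α : Type*} [MulAction G α] (H O : Subgroup G) (a : α) :
    H.relIndex (MulAction.stabilizer G a ⊓ O) ≤ H.relIndex O := relIndex_mono _ inf_le_right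

/-- Two orbits. -/
theorem two_orbits {α : Type*} [MulAction G α] [Finite α] (H O : Subgroup G) (hH : H ≤ O) (a b : α)
    (htr : ∀ x : α, x ∈ MulAction.orbit O a) (hb : b ∉ MulAction.orbit H a) :
    H.relIndex (MulAction.stabilizer G a ⊓ O) + H.relIndex (MulAction.stabilizer G b ⊓ O) ≤ H.relIndex O := by
  classical
  have h1 := orbit_count H O hH a
  have h2 := orbit_count H O hH b
  have hO : ∀ c, Nat.card (MulAction.orbit O c) = Nat.card α := fun c => by
    refine Nat.card_congr (Equiv.subtypeUnivEquiv fun x => ?_)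
    obtain ⟨g, hg⟩ := htr c
    rw [← hg, MulAction.orbit_smul]
    exact htr x
  rw [hO] at h1 h2
  have hd : Disjoint (MulAction.orbit H a) (MulAction.orbit H b) := by
    rw [Set.disjoint_left]
    intro x hxa hxb
    exact hb ((MulAction.orbit_eq_iff.2 hxa) ▸ (MulAction.orbit_eq_iff.2 hxb).symm ▸ MulAction.mem_orbit_self b)
  have hle : Nat.card (MulAction.orbit H a) + Nat.card (MulAction.orbit H b) ≤ Nat.card α := by
    rw [Nat.card_coe_set_eq, Nat.card_coe_set_eq, ← Set.ncard_union_eq hd, ← Set.ncard_univ]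
    exact Set.ncard_le_ncard (Set.subset_univ _) Set.finite_univ
  haveI : Nonempty α := ⟨a⟩
  have hpos : 0 < Nat.card α := Nat.card_pos
  refine Nat.le_of_mul_le_mul_left ?_ hpos
  rw [mul_add, ← h1, ← h2, ← mul_add, mul_comm (Nat.card α)]
  exact Nat.mul_le_mul_left _ hle

end CfsgLib.OmegaMin
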