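import Mathlib
import Cfsg.Agent.Lib.OmegaSimple
import Cfsg.Agent.Lib.OmegaMin.Generic

/-! Eichler elements as a total function. -/

set_option autoImplicit false

namespace CfsgLib.OmegaMin

open QuadraticMap CfsgLib.WittExtension Module CfsgLib.SpinorNorm CfsgLib.Eichler CfsgLib.OmegaSimple

variable {F V : Type*} [Field F] [AddCommGroup V] [Module F V] (Q : QuadraticForm F V)

theorem mul_app (g h : quadIso Q) (x : V) : (g * h).1 x = g.1 (h.1 x) := rfl

theorem one_app (x : V) : (1 : quadIso Q).1 x = x := rfl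

theorem inv_app_app (g : quadIso Q) (x : V) : g⁻¹.1 (g.1 x) = x := g.1.symm_apply_apply x

theorem app_inv_app (g : quadIso Q) (x : V) : g.1 (g⁻¹.1 x) = x := g.1.apply_symm_apply x

theorem iso_ext {g h : quadIso Q} (e : ∀ x, g.1 x = h.1 x) : g = h := Subtype.ext (LinearEquiv.ext e)

theorem polar_iso (g : quadIso Q) (x y : V) : polar Q (g.1 x) (g.1 y) = polar Q x y := OrthOrder.polar_map g.2 x y

theorem pol_symm (x y : V) : polar Q x y = polar Q y x := polar_comm Q x y

theorem pol_sing {x : V} (h : Q x = 0) : polar Q x x = 0 := by rw [ReflectionGen.pol_self, h]; ring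

open Classical in
/-- The Eichler element of `e` and `w`. -/
noncomputable def eg (e w : V) : quadIso Q :=
  if h : Q e = 0 ∧ polar Q e w = 0 then (exists_eich Q h.1 h.2).choose else 1

variable {Q}

theorem eg_spec {e w : V} (he : Q e = 0) (hw : polar Q e w = 0) : IsEich Q e w (eg Q e w) := by
  rw [eg, dif_pos ⟨he, hw⟩]
  exact (exists_eich Q he hw).choose_spec

theorem eg_eq {e w : V} (he : Q e = 0) (hw : polar Q e w = 0) {g : quadIso Q} (hg : IsEich Q e w g) :
    eg Q e w = g := eich_unique Q (eg_spec he hw) hg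

theorem eg_app {e w : V} (he : Q e = 0) (hw : polar Q e w = 0) (x : V) :
    (eg Q e w).1 x = x + (polar Q e x • w + (-(polar Q w x) - Q w * polar Q e x) • e) := eg_spec he hw x

theorem eg_fix {e w x : V} (he : Q e = 0) (hw : polar Q e w = 0) (h1 : polar Q e x = 0) (h2 : polar Q w x = 0) :
    (eg Q e w).1 x = x := by rw [eg_app he hw, h1, h2]; simp

theorem eg_self {e w : V} (he : Q e = 0) (hw : polar Q e w = 0) : (eg Q e w).1 e = e :=
  eg_fix he hw (pol_sing Q he) (by rw [pol_symm, hw])

theorem eg_add {e a b : V} (he : Q e = 0) (ha : polar Q e a = 0) (hb : polar Q e b = 0) :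
    eg Q e (a + b) = eg Q e a * eg Q e b :=
  eg_eq he (by rw [polar_add_right, ha, hb, add_zero]) (eich_add Q he ha hb (eg_spec he ha) (eg_spec he hb))

theorem eg_zero {e : V} (he : Q e = 0) : eg Q e 0 = 1 := eg_eq he (polar_zero_right Q e) (eich_zero Q e)

theorem eg_inv {e w : V} (he : Q e = 0) (hw : polar Q e w = 0) : (eg Q e w)⁻¹ = eg Q e (-w) := by
  refine inv_eq_of_mul_eq_one_right ?_
  rw [← eg_add he hw (by rw [polar_neg_right, hw, neg_zero]), add_neg_cancel, eg_zero he]

theorem eg_pow {e w : V} (he : Q e = 0) (hw : polar Q e w = 0) (n : ℕ) : eg Q e w ^ n = eg Q e ((n : F) • w) := by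
  induction n with
  | zero => simp [eg_zero he]
  | succ n ih =>
    rw [pow_succ, ih, ← eg_add he (by rw [polar_smul_right, hw, smul_zero]) hw, Nat.cast_succ, add_smul, one_smul]

theorem eg_shift {e w : V} (he : Q e = 0) (hw : polar Q e w = 0) (t : F) : eg Q e (w + t • e) = eg Q e w :=
  eg_eq he (by rw [polar_add_right, hw, polar_smul_right, pol_sing Q he, smul_zero, add_zero])
    (eich_shift Q he hw t (eg_spec he hw))

theorem eg_line {e : V} (he : Q e = 0) (t : F) : eg Q e (t • e) = 1 := by
  have := eg_shift he (polar_zero_right Q e) t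
  rwa [zero_add, eg_zero he] at this

theorem eg_conj {e w : V} (he : Q e = 0) (hw : polar Q e w = 0) (g : quadIso Q) :
    g * eg Q e w * g⁻¹ = eg Q (g.1 e) (g.1 w) :=
  (eg_eq (by rw [g.2, he]) (by rw [polar_iso, hw]) (eich_conj Q (eg_spec he hw) g)).symm

theorem eg_smul_left {e w : V} (he : Q e = 0) (hw : polar Q e w = 0) (c : F) :
    eg Q (c • e) w = eg Q e (c • w) :=
  (eg_eq he (by rw [polar_smul_right, hw, smul_zero]) (eich_scale Q c (eg_spec
    (by rw [QuadraticMap.map_smul, he, smul_zero]) (by rw [polar_smul_left, hw, smul_zero])))).symm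

theorem eg_zero_left (w : V) : eg Q 0 w = 1 := iso_ext Q fun x => by
  rw [eg_app (QuadraticMap.map_zero Q) (polar_zero_left Q w), one_app, polar_zero_left]; simp

/-- Swapping a totally singular pair. -/
theorem eg_swap {e f : V} (he : Q e = 0) (hf : Q f = 0) (hef : polar Q e f = 0) :
    eg Q f (-e) = eg Q e f := iso_ext Q fun x => by
  rw [eg_app he hef, eg_app hf (by rw [polar_neg_right, pol_symm, hef, neg_zero]), QuadraticMap.map_neg,
    he, hf, polar_neg_left]
  match_scalars <;> ring

/-- Adding in the first argument. -/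
theorem eg_add_left {e f w : V} (he : Q e = 0) (hf : Q f = 0) (hef : polar Q e f = 0)
    (hew : polar Q e w = 0) (hfw : polar Q f w = 0) :
    eg Q (e + f) w = eg Q e (-(Q w) • f) * (eg Q e w * eg Q f w) := iso_ext Q fun x => by
  have h1 : Q (e + f) = 0 := by rw [QuadraticMap.map_add Q e, he, hf, hef]; simp
  have h2 : polar Q (e + f) w = 0 := by rw [polar_add_left, hew, hfw, add_zero]
  have h3 : polar Q e (-(Q w) • f) = 0 := by rw [polar_smul_right, hef, smul_zero]
  rw [mul_app, mul_app, eg_app h1 h2, eg_app he h3, eg_app hf hfw, eg_app he hew]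
  simp only [polar_add_left, polar_add_right, polar_smul_left, polar_smul_right, QuadraticMap.map_smul, hef, hew,
    pol_sing Q he, hf, ReflectionGen.pol_self, pol_symm Q w e, pol_symm Q w f, pol_symm Q f e, hfw, he, smul_eq_mul]
  match_scalars <;> ring

theorem eg_injective {e f a b : V} (he : Q e = 0) (hef : polar Q e f = 1) (ha : polar Q e a = 0)
    (hb : polar Q e b = 0) (hfa : polar Q f a = 0) (hfb : polar Q f b = 0) (h : eg Q e a = eg Q e b) : a = b := by
  have h1 := congrArg (fun g : quadIso Q => g.1 f) h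
  simp only [eg_app he ha, eg_app he hb, hef, pol_symm Q a f, pol_symm Q b f, hfa, hfb, one_smul, mul_one,
    neg_zero, zero_sub, add_right_inj] at h1
  have h2 := congrArg (polar Q f) h1
  rw [polar_add_right, polar_add_right, hfa, hfb, polar_smul_right, polar_smul_right, pol_symm Q f e, hef] at h2
  simp only [smul_eq_mul, mul_one, zero_add, neg_inj] at h2
  rw [h2] at h1
  exact add_right_cancel h1

variable (Q)

/-- The derived group. -/
abbrev Om : Subgroup (quadIso Q) := commutator (quadIso Q)

theorem conj_mem_om (g : quadIso Q) {x : quadIso Q} (h : x ∈ Om Q) : g * x * g⁻¹ ∈ Om Q :=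
  Subgroup.Normal.conj_mem inferInstance x h g

variable [FiniteDimensional F V] [Finite F]

theorem eg_mem (hQ : (polarBilin Q).Nondegenerate) (hn : 5 ≤ finrank F V) {e w : V} (he : Q e = 0)
    (hw : polar Q e w = 0) : eg Q e w ∈ Om Q := by
  by_cases h : e = 0
  · rw [h, eg_zero_left]; exact one_mem _
  rw [Om, commutator_eq Q hQ hn]
  exact eich_mem Q hQ hn h he hw (eg_spec he hw)

theorem le_om_of_eg (hQ : (polarBilin Q).Nondegenerate) (hn : 5 ≤ finrank F V) (Y : Subgroup (quadIso Q))
    (h : ∀ u w, Q u = 0 → polar Q u w = 0 → Q w = 0 → eg Q u w ∈ Y) : Om Q ≤ Y := by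
  rw [Om, commutator_eq Q hQ hn, Subgroup.closure_le]
  rintro g ⟨u, v, c, hu, hv, huv, hg⟩
  have h1 : polar Q u (c • v) = 0 := by rw [polar_smul_right, huv, smul_zero]
  rw [← eg_eq hu h1 ((sieg_eich Q hv g).mp hg)]
  exact h _ _ hu h1 (by rw [QuadraticMap.map_smul, hv, smul_zero])

/-- Move a vector to one of equal norm and equal value against a singular vector. -/
theorem eg_step {e a x : V} (he : Q e = 0) (hA : polar Q e a ≠ 0) (hQx : Q x = Q a)
    (hex : polar Q e x = polar Q e a) :
    polar Q e ((polar Q e a)⁻¹ • (x - a)) = 0 ∧ (eg Q e ((polar Q e a)⁻¹ • (x - a))).1 a = x := by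
  set w := (polar Q e a)⁻¹ • (x - a) with hw
  have hew : polar Q e w = 0 := by
    simp [hw, polar_smul_right, sub_eq_add_neg, polar_add_right, polar_neg_right, hex]
  refine ⟨hew, ?_⟩
  set κ := -(polar Q w a) - Q w * polar Q e a
  have hga : (eg Q e w).1 a = x + κ • e := by
    rw [eg_app he hew, hw, smul_smul, mul_inv_cancel₀ hA, one_smul]
    abel
  have hq := (eg Q e w).2 a
  rw [hga, QuadraticMap.map_add Q x, QuadraticMap.map_smul, he, polar_smul_right, polar_comm Q x e,
    hex, hQx] at hq
  simp at hq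
  rw [hga, hq.resolve_right hA, zero_smul, add_zero]

end CfsgLib.OmegaMin
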