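import Mathlib
import Cfsg.Agent.Lib.OmegaMin.Basic
import Cfsg.Agent.Lib.QuadCount

/-! Counting in a quadratic space with a hyperbolic pair. -/

set_option autoImplicit false

namespace CfsgLib.OmegaMin

open QuadraticMap CfsgLib.WittExtension Module CfsgLib.SpinorNorm CfsgLib.Eichler CfsgLib.OmegaSimple

variable {F V : Type*} [Field F] [AddCommGroup V] [Module F V] (Q : QuadraticForm F V)

/-- A hyperbolic pair. -/
structure Hyp (v w : V) : Prop where
  qv : Q v = 0
  qw : Q w = 0
  vw : polar Q v w = 1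

/-- Projection to the orthogonal of a pair. -/
def proj (v w x : V) : V := x - polar Q w x • v - polar Q v x • w

/-- The number of vectors of a given norm. -/
noncomputable def cnt (c : F) : ℕ := Nat.card {x : V // Q x = c}

variable {Q}

theorem Hyp.wv {v w : V} (h : Hyp Q v w) : polar Q w v = 1 := by rw [polar_comm, h.vw]

theorem Hyp.symm {v w : V} (h : Hyp Q v w) : Hyp Q w v := ⟨h.qw, h.qv, h.wv⟩

theorem Hyp.ne_left {v w : V} (h : Hyp Q v w) : v ≠ 0 := fun e => by
  simpa [e] using h.vw

theorem Hyp.ne_right {v w : V} (h : Hyp Q v w) : w ≠ 0 := h.symm.ne_left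

theorem Hyp.proj_mem {v w : V} (h : Hyp Q v w) (x : V) : proj Q v w x ∈ perp Q v w :=
  Eichler.proj_mem Q h.qv h.qw h.vw x

theorem proj_add (v w x y : V) : proj Q v w (x + y) = proj Q v w x + proj Q v w y := by
  simp only [proj, polar_add_right]; module

theorem proj_smul (v w : V) (c : F) (x : V) : proj Q v w (c • x) = c • proj Q v w x := by
  simp only [proj, polar_smul_right, smul_eq_mul]; module

theorem proj_eq {v w : V} {x : V} (hx : x ∈ perp Q v w) : proj Q v w x = x := by
  obtain ⟨h1, h2⟩ := (mem_perp Q).1 hx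
  simp [proj, h1, h2]

theorem Hyp.decomp {v w : V} (_h : Hyp Q v w) (x : V) :
    x = proj Q v w x + polar Q w x • v + polar Q v x • w := by rw [proj]; abel

theorem Hyp.parts {v w : V} (h : Hyp Q v w) {y : V} (hy : y ∈ perp Q v w) (a b : F) :
    polar Q w (y + a • v + b • w) = a ∧ polar Q v (y + a • v + b • w) = b ∧
      Q (y + a • v + b • w) = Q y + a * b := by
  obtain ⟨h1, h2⟩ := (mem_perp Q).1 hy
  refine ⟨?_, ?_, ?_⟩
  · simp [polar_add_right, polar_smul_right, h2, h.wv, pol_sing Q h.qw, h.qw]
  · simp [polar_add_right, polar_smul_right, h1, h.vw, pol_sing Q h.qv, h.qv]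
  · rw [QuadraticMap.map_add Q (y + a • v), QuadraticMap.map_add Q y, QuadraticMap.map_smul,
      QuadraticMap.map_smul, h.qv, h.qw]
    simp [polar_add_left, polar_smul_left, polar_smul_right, pol_symm Q y v, pol_symm Q y w, h1, h2, h.vw]
    ring

/-- Coordinates along a pair. -/
def Hyp.coords {v w : V} (h : Hyp Q v w) : V ≃ (F × F) × perp Q v w where
  toFun x := ((polar Q w x, polar Q v x), ⟨proj Q v w x, h.proj_mem x⟩)
  invFun p := p.2.1 + p.1.1 • v + p.1.2 • w
  left_inv x := (h.decomp x).symm
  right_inv p := by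
    obtain ⟨⟨a, b⟩, y, hy⟩ := p
    obtain ⟨e1, e2, -⟩ := h.parts hy a b
    refine Prod.ext (Prod.ext e1 e2) (Subtype.ext ?_)
    simp only [proj, e1, e2]
    abel

theorem perp_comp_apply {v w : V} (y : perp Q v w) : (Q.comp (perp Q v w).subtype) y = Q y.1 := rfl

theorem sub_polar {U : Submodule F V} (a b : U) : polar (Q.comp U.subtype) a b = polar Q a.1 b.1 := by
  simp [polar]

variable [Fintype F] [FiniteDimensional F V]

theorem finite_space (F V : Type*) [Field F] [AddCommGroup V] [Module F V] [Finite F] [FiniteDimensional F V] :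
    Finite V := Module.finite_of_finite F

theorem Hyp.finrank_perp {v w : V} (h : Hyp Q v w) : finrank F (perp Q v w) + 2 = finrank F V := by
  haveI : Finite V := finite_space F V
  have e := Nat.card_congr h.coords
  rw [Nat.card_prod, Nat.card_prod, Module.natCard_eq_pow_finrank (K := F) (V := V),
    Module.natCard_eq_pow_finrank (K := F) (V := perp Q v w), ← pow_two, ← pow_add] at e
  have := Nat.pow_right_injective (Finite.one_lt_card (α := F)) e
  omega

theorem Hyp.cnt_split {v w : V} (h : Hyp Q v w) (c : F) :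
    cnt Q c = Fintype.card F * cnt (Q.comp (perp Q v w).subtype) c +
      (Fintype.card F - 1) * Fintype.card F ^ finrank F (perp Q v w) := by
  classical
  haveI : Finite V := finite_space F V
  haveI : Fintype (perp Q v w) := Fintype.ofFinite _
  rw [cnt, cnt, ← Module.card_eq_pow_finrank (K := F) (V := perp Q v w)]
  refine (Nat.card_congr (h.coords.subtypeEquiv fun x => ?_)).trans
    (QuadCount.card_hyp (fun y : perp Q v w => Q y.1) c)
  show Q x = c ↔ polar Q w x * polar Q v x + Q (proj Q v w x) = c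
  conv_lhs => rw [h.decomp x, (h.parts (h.proj_mem x) _ _).2.2, add_comm]

theorem cnt_zero_pos : 1 ≤ cnt Q (0 : F) := by
  haveI : Finite V := finite_space F V
  haveI : Nonempty {x : V // Q x = 0} := ⟨⟨0, QuadraticMap.map_zero Q⟩⟩
  exact Nat.card_pos

/-- The nonzero singular vectors. -/
def Sing (Q : QuadraticForm F V) : Set V := {x | x ≠ 0 ∧ Q x = 0}

theorem sing_card : (Sing Q).ncard + 1 = cnt Q (0 : F) := by
  haveI : Finite V := finite_space F V
  have : Sing Q = {x | Q x = 0} \ {0} := by ext x; simp [Sing, and_comm]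
  rw [this, Set.ncard_sdiff_singleton_add_one (show (0 : V) ∈ {x | Q x = 0} from QuadraticMap.map_zero Q),
    cnt, ← Nat.card_coe_set_eq]
  rfl

theorem exists_hyp (hQ : (polarBilin Q).Nondegenerate) (hn : 3 ≤ finrank F V) : ∃ v w, Hyp Q v w := by
  obtain ⟨v, hv0, hv⟩ := FiniteForms.exists_singular Q hn
  obtain ⟨w, hw, hvw⟩ := exists_partner Q hQ hv0 hv
  exact ⟨v, w, hv, hw, hvw⟩

theorem cnt_lower (hQ : (polarBilin Q).Nondegenerate) (hn : 3 ≤ finrank F V) (c : F) :
    (Fintype.card F - 1) * Fintype.card F ^ (finrank F V - 2) ≤ cnt Q c := by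
  obtain ⟨v, w, h⟩ := exists_hyp hQ hn
  rw [h.cnt_split c, show finrank F V - 2 = finrank F (perp Q v w) by have := h.finrank_perp; omega]
  exact Nat.le_add_left _ _

theorem sing_lower (hQ : (polarBilin Q).Nondegenerate) (hn : 3 ≤ finrank F V) :
    (Fintype.card F - 1) * (Fintype.card F ^ (finrank F V - 2) + 1) ≤ (Sing Q).ncard := by
  obtain ⟨v, w, h⟩ := exists_hyp hQ hn
  have h1 := sing_card (Q := Q)
  rw [h.cnt_split 0, show finrank F (perp Q v w) = finrank F V - 2 by have := h.finrank_perp; omega] at h1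
  have h2 := cnt_zero_pos (Q := Q.comp (perp Q v w).subtype)
  have hq : 2 ≤ Fintype.card F := Fintype.one_lt_card
  have h3 := Nat.mul_le_mul_left (Fintype.card F) h2
  rw [mul_one] at h3
  rw [mul_add, mul_one]
  omega

end CfsgLib.OmegaMin
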