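import Mathlib

/-! Numbers of singular points. -/

set_option autoImplicit false

namespace CfsgLib.OmegaMin

theorem geom_part {q : ℕ} (hq : 2 ≤ q) (k : ℕ) : ∃ G, (q - 1) * G + 1 = q ^ k := by
  induction k with
  | zero => exact ⟨0, by simp⟩
  | succ k ih =>
    obtain ⟨G, hG⟩ := ih
    obtain ⟨r, rfl⟩ : ∃ r, q = r + 1 := ⟨q - 1, by omega⟩
    rw [Nat.add_sub_cancel] at hG
    refine ⟨G * (r + 1) + 1, ?_⟩
    rw [Nat.add_sub_cancel, pow_succ, ← hG]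
    ring

theorem plus_points {q m : ℕ} (hq : 3 ≤ q) (hm : 2 ≤ m) :
    (q - 1) * ((q ^ m - 1) * (q ^ (m - 1) + 1) / (q - 1)) + 1 = q ^ (2 * m - 1) + q ^ m - q ^ (m - 1) ∧
      (q ^ m - 1) * (q ^ (m - 1) + 1) / (q - 1) ≤ 2 * q ^ (2 * m - 2) := by
  obtain ⟨G, hG⟩ := geom_part (show 2 ≤ q by omega) m
  have h1 : (q ^ m - 1) * (q ^ (m - 1) + 1) / (q - 1) = G * (q ^ (m - 1) + 1) := by
    rw [← hG, Nat.add_sub_cancel, mul_assoc, Nat.mul_div_cancel_left _ (show 0 < q - 1 by omega)]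
  rw [h1]
  have e : q ^ (2 * m - 1) = q ^ m * q ^ (m - 1) := by rw [← pow_add]; congr 1; omega
  have e2 : q ^ (2 * m - 1) = q * q ^ (2 * m - 2) := by rw [← pow_succ']; congr 1; omega
  have h2 : (q - 1) * (G * (q ^ (m - 1) + 1)) + (q ^ (m - 1) + 1) = q ^ (2 * m - 1) + q ^ m := by
    rw [e, ← hG]; ring
  refine ⟨by omega, Nat.le_of_mul_le_mul_left ?_ (show 0 < q - 1 by omega)⟩
  have h3 : q ^ m ≤ q ^ (2 * m - 2) := Nat.pow_le_pow_right (by omega) (by omega)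
  calc (q - 1) * (G * (q ^ (m - 1) + 1)) ≤ q ^ (2 * m - 1) + q ^ m := by omega
    _ ≤ q * q ^ (2 * m - 2) + q ^ (2 * m - 2) := by omega
    _ = (q + 1) * q ^ (2 * m - 2) := by ring
    _ ≤ ((q - 1) * 2) * q ^ (2 * m - 2) := Nat.mul_le_mul_right _ (by omega)
    _ = _ := by ring

theorem minus_points {q m : ℕ} (hq : 2 ≤ q) (hm : 2 ≤ m) :
    (q - 1) * ((q ^ m + 1) * (q ^ (m - 1) - 1) / (q - 1)) + 1 = q ^ (2 * m - 1) + q ^ (m - 1) - q ^ m ∧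
      (q ^ m + 1) * (q ^ (m - 1) - 1) / (q - 1) ≤ 2 * q ^ (2 * m - 2) := by
  obtain ⟨G, hG⟩ := geom_part hq (m - 1)
  have h1 : (q ^ m + 1) * (q ^ (m - 1) - 1) / (q - 1) = G * (q ^ m + 1) := by
    rw [← hG, Nat.add_sub_cancel, show (q ^ m + 1) * ((q - 1) * G) = (q - 1) * (G * (q ^ m + 1)) by ring,
      Nat.mul_div_cancel_left _ (show 0 < q - 1 by omega)]
  rw [h1]
  have e : q ^ (2 * m - 1) = q ^ (m - 1) * q ^ m := by rw [← pow_add]; congr 1; omega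
  have e2 : q ^ (2 * m - 1) = q * q ^ (2 * m - 2) := by rw [← pow_succ']; congr 1; omega
  have h2 : (q - 1) * (G * (q ^ m + 1)) + (q ^ m + 1) = q ^ (2 * m - 1) + q ^ (m - 1) := by
    rw [e, ← hG]; ring
  refine ⟨by omega, Nat.le_of_mul_le_mul_left ?_ (show 0 < q - 1 by omega)⟩
  have h3 : q ^ (m - 1) ≤ q ^ m := Nat.pow_le_pow_right (by omega) (by omega)
  calc (q - 1) * (G * (q ^ m + 1)) ≤ q * q ^ (2 * m - 2) := by omega
    _ ≤ ((q - 1) * 2) * q ^ (2 * m - 2) := Nat.mul_le_mul_right _ (by omega)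
    _ = _ := by ring

end CfsgLib.OmegaMin
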