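import Mathlib
import Cfsg.Agent.Lib.OmegaMin.Count

/-! The stabiliser of a singular point. -/

set_option autoImplicit false

namespace CfsgLib.OmegaMin

open QuadraticMap CfsgLib.WittExtension Module CfsgLib.SpinorNorm CfsgLib.Eichler CfsgLib.OmegaSimple

variable {F V : Type*} [Field F] [AddCommGroup V] [Module F V] (Q : QuadraticForm F V)

/-- The stabiliser of the line of `v`. -/
def Line (v : V) : Subgroup (quadIso Q) where
  carrier := {g | ∃ c : F, g.1 v = c • v}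
  mul_mem' := by
    rintro g h ⟨c, hc⟩ ⟨d, hd⟩
    exact ⟨d * c, by rw [mul_app, hd, map_smul, hc, smul_smul]⟩
  one_mem' := ⟨1, by rw [one_app, one_smul]⟩
  inv_mem' := by
    rintro g ⟨c, hc⟩
    have h1 := inv_app_app Q g v
    rw [hc, map_smul] at h1
    by_cases hc0 : c = 0
    · rw [hc0, zero_smul] at h1
      exact ⟨1, by rw [← h1, map_zero, smul_zero]⟩
    · refine ⟨c⁻¹, ?_⟩
      conv_rhs => rw [← h1]
      rw [smul_smul, inv_mul_cancel₀ hc0, one_smul]

/-- The point stabiliser in `Ω`. -/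
def Pst (v : V) : Subgroup (quadIso Q) := Line Q v ⊓ Om Q

/-- The unipotent radical of the stabiliser of `v`, with parameters orthogonal to `v` and `w`. -/
noncomputable def EG {v w : V} (h : Hyp Q v w) : Subgroup (quadIso Q) where
  carrier := {g | ∃ y ∈ perp Q v w, g = eg Q v y}
  mul_mem' := by
    rintro g g' ⟨a, ha, rfl⟩ ⟨b, hb, rfl⟩
    exact ⟨a + b, add_mem ha hb, (eg_add h.qv ha.1 hb.1).symm⟩
  one_mem' := ⟨0, zero_mem _, (eg_zero h.qv).symm⟩
  inv_mem' := by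
    rintro g ⟨a, ha, rfl⟩
    exact ⟨-a, neg_mem ha, eg_inv h.qv ha.1⟩

/-- The vectors whose Eichler element lies in `H`. -/
noncomputable def Wp {v w : V} (h : Hyp Q v w) (H : Subgroup (quadIso Q)) : AddSubgroup V where
  carrier := {y | y ∈ perp Q v w ∧ eg Q v y ∈ H}
  add_mem' := fun {a b} ha hb => ⟨add_mem ha.1 hb.1, by rw [eg_add h.qv ha.1.1 hb.1.1]; exact mul_mem ha.2 hb.2⟩
  zero_mem' := ⟨zero_mem _, by rw [eg_zero h.qv]; exact one_mem _⟩
  neg_mem' := fun {a} ha => ⟨neg_mem ha.1, by rw [← eg_inv h.qv ha.1.1]; exact inv_mem ha.2⟩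

/-- The action of the point stabiliser on the radical. -/
def act (v w : V) (g : quadIso Q) (y : V) : V := polar Q w (g.1 v) • proj Q v w (g.1 y)

variable {Q}

theorem line_scalar {v w : V} (h : Hyp Q v w) {g : quadIso Q} (hg : g ∈ Line Q v) :
    g.1 v = polar Q w (g.1 v) • v ∧ polar Q w (g.1 v) ≠ 0 := by
  obtain ⟨c, hc⟩ := hg
  have e : polar Q w (g.1 v) = c := by rw [hc, polar_smul_right, h.wv, smul_eq_mul, mul_one]
  refine ⟨by rw [e]; exact hc, fun h0 => h.ne_left (g.1.injective ?_)⟩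
  rw [hc, map_zero, ← e, h0, zero_smul]

theorem perp_map {v w : V} (h : Hyp Q v w) {g : quadIso Q} (hg : g ∈ Line Q v) {y : V} (hy : y ∈ perp Q v w) :
    polar Q v (g.1 y) = 0 := by
  obtain ⟨e, h0⟩ := line_scalar h hg
  have h1 := polar_iso Q g v y
  rw [e, polar_smul_left, ((mem_perp Q).1 hy).1, smul_eq_mul] at h1
  exact (mul_eq_zero.1 h1).resolve_left h0

theorem act_mem {v w : V} (h : Hyp Q v w) (g : quadIso Q) (y : V) : act Q v w g y ∈ perp Q v w :=
  Submodule.smul_mem _ _ (h.proj_mem _)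

theorem proj_line {v w : V} (h : Hyp Q v w) (c : F) : proj Q v w (c • v) = 0 := by
  simp [proj, polar_smul_right, h.wv, pol_sing Q h.qv, h.qv]

theorem act_mul {v w : V} (h : Hyp Q v w) {g k : quadIso Q} (hg : g ∈ Line Q v) (hk : k ∈ Line Q v) {y : V}
    (hy : y ∈ perp Q v w) : act Q v w (g * k) y = act Q v w g (act Q v w k y) := by
  obtain ⟨e1, -⟩ := line_scalar h hg
  obtain ⟨e2, -⟩ := line_scalar h hk
  have hlam : polar Q w ((g * k).1 v) = polar Q w (g.1 v) * polar Q w (k.1 v) := by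
    rw [mul_app]
    conv_lhs => rw [e2, map_smul, polar_smul_right, smul_eq_mul]
    rw [mul_comm]
  have hd : k.1 y = proj Q v w (k.1 y) + polar Q w (k.1 y) • v := by
    have := h.decomp (k.1 y)
    rwa [perp_map h hk hy, zero_smul, add_zero] at this
  have h3 : proj Q v w ((g * k).1 y) = proj Q v w (g.1 (proj Q v w (k.1 y))) := by
    rw [mul_app]
    conv_lhs => rw [hd, map_add, map_smul, e1, proj_add, smul_smul, proj_line h, add_zero]
  rw [act, act, act, h3, hlam, map_smul, proj_smul, smul_smul]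

theorem conj_eg {v w : V} (h : Hyp Q v w) {g : quadIso Q} (hg : g ∈ Line Q v) {y : V} (hy : y ∈ perp Q v w) :
    g * eg Q v y * g⁻¹ = eg Q v (act Q v w g y) := by
  obtain ⟨e1, h0⟩ := line_scalar h hg
  have h1 := perp_map h hg hy
  rw [eg_conj h.qv hy.1 g, e1, eg_smul_left h.qv h1, act]
  have hd := h.decomp (g.1 y)
  rw [h1, zero_smul, add_zero] at hd
  conv_lhs => rw [hd, smul_add, smul_smul]
  exact eg_shift h.qv (Submodule.smul_mem _ _ (h.proj_mem _)).1 _

theorem eg_mem_line {v w : V} (h : Hyp Q v w) {y : V} (hy : y ∈ perp Q v w) : eg Q v y ∈ Line Q v :=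
  ⟨1, by rw [eg_self h.qv hy.1, one_smul]⟩

theorem act_eg {v w : V} (h : Hyp Q v w) {y z : V} (hy : y ∈ perp Q v w) (hz : z ∈ perp Q v w) :
    act Q v w (eg Q v y) z = z := by
  rw [act, eg_self h.qv hy.1, h.wv, one_smul, eg_app h.qv hy.1, ((mem_perp Q).1 hz).1, zero_smul, zero_add, proj_add, proj_eq hz,
    proj_line h, add_zero]

/-- An element fixing the pair acts as itself. -/
theorem act_fix {v w : V} (h : Hyp Q v w) {g : quadIso Q} (hv : g.1 v = v) (hw : g.1 w = w) {y : V}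
    (hy : y ∈ perp Q v w) : act Q v w g y = g.1 y ∧ g.1 y ∈ perp Q v w := by
  have hm : g.1 y ∈ perp Q v w := by
    refine (mem_perp Q).2 ⟨?_, ?_⟩
    · conv_lhs => rw [← hv, polar_iso]
      exact hy.1
    · conv_lhs => rw [← hw, polar_iso]
      exact hy.2
  exact ⟨by rw [act, hv, h.wv, one_smul, proj_eq hm], hm⟩

section finite
variable [Fintype F] [FiniteDimensional F V]

instance finite_quadIso : Finite (quadIso Q) := by
  haveI : Finite V := finite_space F V
  exact Finite.of_injective (fun g : quadIso Q => (g.1 : V → V)) fun g k e =>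
    Subtype.ext (LinearEquiv.ext fun x => congrFun e x)

theorem relIndex_EG {v w : V} (h : Hyp Q v w) (H : Subgroup (quadIso Q)) :
    H.relIndex (EG Q h) * Nat.card (Wp Q h H) = Fintype.card F ^ finrank F (perp Q v w) := by
  haveI : Finite V := finite_space F V
  let e : perp Q v w → EG Q h := fun y => ⟨eg Q v y.1, y.1, y.2, rfl⟩
  have he : Function.Bijective e := by
    refine ⟨fun a b hab => Subtype.ext (eg_injective h.qv h.vw a.2.1 b.2.1 a.2.2 b.2.2
      (congrArg Subtype.val hab)), ?_⟩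
    rintro ⟨g, y, hy, rfl⟩
    exact ⟨⟨y, hy⟩, rfl⟩
  have h1 : Nat.card (H.subgroupOf (EG Q h)) = Nat.card (Wp Q h H) := by
    refine (Nat.card_congr (Equiv.ofBijective (fun y : Wp Q h H =>
      (⟨e ⟨y.1, y.2.1⟩, Subgroup.mem_subgroupOf.2 y.2.2⟩ : H.subgroupOf (EG Q h))) ?_)).symm
    refine ⟨fun a b hab => Subtype.ext (congrArg (fun x : perp Q v w => x.1) (he.1 (congrArg Subtype.val hab))), ?_⟩
    rintro ⟨g, hg⟩
    obtain ⟨⟨y, hy⟩, rfl⟩ := he.2 g
    exact ⟨⟨y, hy, hg⟩, rfl⟩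
  rw [← h1, Subgroup.relIndex, mul_comm, Subgroup.card_mul_index,
    ← Nat.card_congr (Equiv.ofBijective e he), Module.natCard_eq_pow_finrank (K := F),
    Nat.card_eq_fintype_card (α := F)]

variable (hQ : (polarBilin Q).Nondegenerate) (hn : 5 ≤ finrank F V)
include hQ hn

theorem EG_le {v w : V} (h : Hyp Q v w) : EG Q h ≤ Pst Q v := by
  rintro g ⟨y, hy, rfl⟩
  exact ⟨eg_mem_line h hy, eg_mem Q hQ hn h.qv hy.1⟩

theorem mem_pst_fix {v : V} {g : quadIso Q} (hg : g ∈ Om Q) (hv : g.1 v = v) : g ∈ Pst Q v :=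
  ⟨⟨1, by rw [hv, one_smul]⟩, hg⟩

theorem eg_fix_pair {v w u y : V} (hu : Q u = 0) (huy : polar Q u y = 0) (hu' : u ∈ perp Q v w)
    (hy : y ∈ perp Q v w) : eg Q u y ∈ Pst Q v ∧ (eg Q u y).1 v = v ∧ (eg Q u y).1 w = w := by
  have h1 : (eg Q u y).1 v = v := eg_fix hu huy (by rw [pol_symm]; exact hu'.1) (by rw [pol_symm]; exact hy.1)
  exact ⟨mem_pst_fix hQ hn (eg_mem Q hQ hn hu huy) h1, h1,
    eg_fix hu huy (by rw [pol_symm]; exact hu'.2) (by rw [pol_symm]; exact hy.2)⟩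

omit hn in
/-- Two Eichler elements move a nonzero vector to any other of the same norm. -/
theorem level_move (hd : 5 ≤ finrank F V) {a b : V} (ha : a ≠ 0) (hb : b ≠ 0) (hab : Q a = Q b) :
    ∃ e₁ w₁ e₂ w₂ : V, Q e₁ = 0 ∧ polar Q e₁ w₁ = 0 ∧ Q e₂ = 0 ∧ polar Q e₂ w₂ = 0 ∧
      (eg Q e₂ w₂).1 ((eg Q e₁ w₁).1 a) = b := by
  obtain ⟨e₀, he₀0, he₀⟩ := FiniteForms.exists_singular Q (by omega)
  obtain ⟨e, he, hee, hea⟩ := singular_avoid' Q hQ (by omega) he₀0 he₀ ha
  have he0 : e ≠ 0 := fun h => by simp [h] at hee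
  obtain ⟨f, hf, hef, hfb⟩ := singular_avoid' Q hQ (by omega) he0 he hb
  have hU := perp_finrank Q he hf hef
  obtain ⟨u, u', hu, hu', huu⟩ := exists_hyp (perp_nondeg Q hQ he hf hef) (show 3 ≤ finrank F (perp Q e f) by omega)
  set α := Q a - polar Q e a * polar Q f b with hα
  obtain ⟨hew, hfw⟩ := (mem_perp Q).1 (α • u + u').2
  set w : V := (α • u + u').1
  have hQw : Q w = α := by
    show (Q.comp (perp Q e f).subtype) (α • u + u') = α
    rw [QuadraticMap.map_add (Q.comp (perp Q e f).subtype), QuadraticMap.map_smul, hu, hu', polar_smul_left, huu]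
    simp
  clear_value w α
  set x := polar Q e a • f + polar Q f b • e + w with hx
  have hex : polar Q e x = polar Q e a := by
    simp [hx, polar_add_right, polar_smul_right, pol_sing Q he, hef, hew, he]
  have hfx : polar Q f x = polar Q f b := by
    simp [hx, polar_add_right, polar_smul_right, pol_sing Q hf, hf, polar_comm Q f e, hef, hfw]
  have hQx : Q x = Q a := by
    rw [hx, QuadraticMap.map_add Q (polar Q e a • f + polar Q f b • e),
      QuadraticMap.map_add Q (polar Q e a • f), QuadraticMap.map_smul, QuadraticMap.map_smul, he, hf,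
      hQw, hα]
    simp [polar_add_left, polar_smul_left, polar_smul_right, polar_comm Q f e, hef, hew, hfw]
    ring
  have hea' : polar Q e a ≠ 0 := hea
  obtain ⟨p1, h1⟩ := eg_step Q he hea' hQx hex
  obtain ⟨p2, h2⟩ := eg_step Q hf (show polar Q f x ≠ 0 by rw [hfx]; exact hfb) (by rw [hQx, hab]) hfx.symm
  exact ⟨_, _, _, _, he, p1, hf, p2, by rw [h1, h2]⟩

/-- The point stabiliser is transitive on each level of the radical. -/
theorem perp_move {v w : V} (h : Hyp Q v w) (hd : 5 ≤ finrank F (perp Q v w)) {a b : V}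
    (ha : a ∈ perp Q v w) (hb : b ∈ perp Q v w) (ha0 : a ≠ 0) (hb0 : b ≠ 0) (hab : Q a = Q b) :
    ∃ g ∈ Pst Q v, g.1 v = v ∧ g.1 w = w ∧ g.1 a = b ∧ act Q v w g a = b := by
  obtain ⟨e₁, w₁, e₂, w₂, q1, p1, q2, p2, e⟩ :=
    level_move (perp_nondeg Q hQ h.qv h.qw h.vw) hd (a := ⟨a, ha⟩) (b := ⟨b, hb⟩)
      (fun e => ha0 (congrArg Subtype.val e)) (fun e => hb0 (congrArg Subtype.val e)) hab
  rw [sub_polar] at p1 p2
  have key : ∀ {e w' : perp Q v w} (he : Q e.1 = 0) (hw : polar Q e.1 w'.1 = 0) (x : perp Q v w),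
      ((eg (Q.comp (perp Q v w).subtype) e w').1 x).1 = (eg Q e.1 w'.1).1 x.1 := fun {e w'} he hw x => by
    rw [eg_app (show (Q.comp (perp Q v w).subtype) e = 0 from he) (by rw [sub_polar]; exact hw), eg_app he hw,
      sub_polar, sub_polar]
    rfl
  have e' := congrArg Subtype.val e
  rw [key q2 p2, key q1 p1] at e'
  obtain ⟨m1, f1, g1⟩ := eg_fix_pair hQ hn (show Q e₁.1 = 0 from q1) p1 e₁.2 w₁.2
  obtain ⟨m2, f2, g2⟩ := eg_fix_pair hQ hn (show Q e₂.1 = 0 from q2) p2 e₂.2 w₂.2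
  refine ⟨eg Q e₂.1 w₂.1 * eg Q e₁.1 w₁.1, mul_mem m2 m1, by rw [mul_app, f1, f2], by rw [mul_app, g1, g2], e', ?_⟩
  rw [(act_fix h (by rw [mul_app, f1, f2]) (by rw [mul_app, g1, g2]) ha).1]
  exact e'

/-- An orbit bound for the index in a point stabiliser. -/
theorem point_bound {v w : V} (h : Hyp Q v w) (hd : 5 ≤ finrank F (perp Q v w)) (H : Subgroup (quadIso Q))
    (T : Set V) (hT : ∀ g ∈ H, g ∈ Pst Q v → ∀ y ∈ T, act Q v w g y ∈ T) (hTp : ∀ y ∈ T, y ∈ perp Q v w)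
    {a : V} (ha : a ∈ T) (ha0 : a ≠ 0) :
    H.relIndex (EG Q h) * {y : V | y ∈ perp Q v w ∧ y ≠ 0 ∧ Q y = Q a}.ncard ≤
      H.relIndex (Pst Q v) * T.ncard := by
  haveI : Finite V := finite_space F V
  haveI : Finite T := Finite.of_injective Subtype.val Subtype.val_injective
  refine relIndex_orbit (act Q v w) H (Pst Q v) (EG Q h) (EG_le hQ hn h) a
    (fun g hg k hk => act_mul h hg.1 hk.1 (hTp a ha)) _ T ?_ ?_
  · intro g hg
    have : ∀ y ∈ T, act Q v w g y ∈ T := by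
      suffices g ∈ Pst Q v ∧ ∀ y ∈ T, act Q v w g y ∈ T from this.2
      refine Subgroup.closure_induction (p := fun g _ => g ∈ Pst Q v ∧ ∀ y ∈ T, act Q v w g y ∈ T) ?_ ?_ ?_ ?_
        (show g ∈ Subgroup.closure (↑(H ⊓ Pst Q v) ∪ ↑(EG Q h) : Set (quadIso Q)) by
          rwa [Subgroup.closure_union, Subgroup.closure_eq, Subgroup.closure_eq])
      · rintro g (hg | hg)
        · exact ⟨hg.2, hT g hg.1 hg.2⟩
        · refine ⟨EG_le hQ hn h hg, fun y hy => ?_⟩
          obtain ⟨z, hz, rfl⟩ := hg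
          rwa [act_eg h hz (hTp y hy)]
      · refine ⟨one_mem _, fun y hy => ?_⟩
        rwa [(act_fix h (one_app Q v) (one_app Q w) (hTp y hy)).1]
      · rintro g k - - ⟨hg, hg'⟩ ⟨hk, hk'⟩
        exact ⟨mul_mem hg hk, fun y hy => by rw [act_mul h hg.1 hk.1 (hTp y hy)]; exact hg' _ (hk' y hy)⟩
      · rintro g - ⟨hg, hg'⟩
        refine ⟨inv_mem hg, fun y hy => ?_⟩
        have hinj : Set.InjOn (act Q v w g) T := fun x hx x' hx' e => by
          have := congrArg (act Q v w g⁻¹) e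
          rwa [← act_mul h (inv_mem hg.1) hg.1 (hTp x hx), ← act_mul h (inv_mem hg.1) hg.1 (hTp x' hx'),
            inv_mul_cancel, (act_fix h (one_app Q v) (one_app Q w) (hTp x hx)).1,
            (act_fix h (one_app Q v) (one_app Q w) (hTp x' hx')).1] at this
        obtain ⟨x, hx, rfl⟩ := ((Set.toFinite T).injOn_iff_bijOn_of_mapsTo hg').1 hinj |>.surjOn hy
        rwa [← act_mul h (inv_mem hg.1) hg.1 (hTp x hx), inv_mul_cancel,
          (act_fix h (one_app Q v) (one_app Q w) (hTp x hx)).1]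
    exact this a ha
  · rintro b ⟨hb, hb0, hQb⟩
    obtain ⟨g, hg, -, -, -, e⟩ := perp_move hQ hn h hd (hTp a ha) hb ha0 hb0 hQb.symm
    exact ⟨g, hg, e⟩

theorem wp_invariant {v w : V} (h : Hyp Q v w) {H : Subgroup (quadIso Q)} {g : quadIso Q} (hg : g ∈ H)
    (hg' : g ∈ Pst Q v) {y : V} (hy : y ∈ Wp Q h H) : act Q v w g y ∈ Wp Q h H :=
  ⟨act_mem h g y, by rw [← conj_eg h hg'.1 hy.1]; exact mul_mem (mul_mem hg hy.2) (inv_mem hg)⟩

theorem level_ge {v w : V} (h : Hyp Q v w) (hd : 5 ≤ finrank F (perp Q v w)) (c : F) :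
    (Fintype.card F - 1) * Fintype.card F ^ (finrank F (perp Q v w) - 2) ≤
      {y : V | y ∈ perp Q v w ∧ y ≠ 0 ∧ Q y = c}.ncard := by
  haveI : Finite V := finite_space F V
  set U := perp Q v w
  have hd' : 3 ≤ finrank F U := le_trans (by norm_num) hd
  have hU := perp_nondeg Q hQ h.qv h.qw h.vw
  have e : {y : V | y ∈ U ∧ y ≠ 0 ∧ Q y = c} = Subtype.val '' {y : U | y ≠ 0 ∧ Q y.1 = c} := by
    ext y
    exact ⟨fun ⟨h1, h2, h3⟩ => ⟨⟨y, h1⟩, ⟨fun e => h2 (congrArg Subtype.val e), h3⟩, rfl⟩,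
      fun ⟨z, ⟨h2, h3⟩, hz⟩ => hz ▸ ⟨z.2, fun e => h2 (Subtype.ext e), h3⟩⟩
  rw [e, Set.ncard_image_of_injective _ Subtype.val_injective]
  by_cases hc : c = 0
  · subst hc
    refine le_trans ?_ (le_trans (sing_lower hU hd') (le_of_eq rfl))
    exact Nat.mul_le_mul_left _ (Nat.le_add_right _ _)
  · have : {y : U | y ≠ 0 ∧ Q y.1 = c} = {y : U | (Q.comp U.subtype) y = c} := by
      ext y
      exact ⟨fun h => h.2, fun h => ⟨fun e => hc (by rw [← h, e, QuadraticMap.map_zero]), h⟩⟩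
    rw [this]
    exact (cnt_lower hU hd' c).trans (le_of_eq (Nat.card_coe_set_eq _))

end finite

end CfsgLib.OmegaMin
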