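import Mathlib
import Cfsg.Agent.Lib.OmegaMin.Point

/-! The radical of the stabiliser of a singular line. -/

set_option autoImplicit false

namespace CfsgLib.OmegaMin

open QuadraticMap CfsgLib.WittExtension Module CfsgLib.SpinorNorm CfsgLib.Eichler CfsgLib.OmegaSimple

variable {F V : Type*} [Field F] [AddCommGroup V] [Module F V] (Q : QuadraticForm F V)

/-- Two orthogonal hyperbolic pairs. -/
structure Fr (v x v' x' : V) : Prop where
  h1 : Hyp Q v v'
  h2 : Hyp Q x x'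
  hx : x ∈ perp Q v v'
  hx' : x' ∈ perp Q v v'

/-- The orthogonal of two pairs. -/
def Mid (v x v' x' : V) : Submodule F V := perp Q v v' ⊓ perp Q x x'

/-- The elements of the radical of a line stabiliser. -/
noncomputable def uel (v x α β : V) (t : F) : quadIso Q := eg Q v (α + t • x) * eg Q x β

variable {Q} {v x v' x' : V}

theorem Fr.pol (h : Fr Q v x v' x') : polar Q v x = 0 ∧ polar Q v x' = 0 ∧ polar Q x v = 0 ∧ polar Q x' v = 0 ∧
    polar Q v' x = 0 ∧ polar Q v' x' = 0 ∧ polar Q x v' = 0 ∧ polar Q x' v' = 0 := by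
  obtain ⟨a, b⟩ := (mem_perp Q).1 h.hx
  obtain ⟨c, d⟩ := (mem_perp Q).1 h.hx'
  exact ⟨a, c, by rw [pol_symm]; exact a, by rw [pol_symm]; exact c, b, d, by rw [pol_symm]; exact b,
    by rw [pol_symm]; exact d⟩

theorem Fr.symm (h : Fr Q v x v' x') : Fr Q x v x' v' := by
  obtain ⟨a, b, c, d, e, f, g, i⟩ := h.pol
  exact ⟨h.h2, h.h1, (mem_perp Q).2 ⟨c, d⟩, (mem_perp Q).2 ⟨g, i⟩⟩

theorem mid4 {y : V} (hy : y ∈ Mid Q v x v' x') :
    polar Q v y = 0 ∧ polar Q v' y = 0 ∧ polar Q x y = 0 ∧ polar Q x' y = 0 ∧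
    polar Q y v = 0 ∧ polar Q y v' = 0 ∧ polar Q y x = 0 ∧ polar Q y x' = 0 :=
  ⟨hy.1.1, hy.1.2, hy.2.1, hy.2.2, by rw [pol_symm]; exact hy.1.1, by rw [pol_symm]; exact hy.1.2,
    by rw [pol_symm]; exact hy.2.1, by rw [pol_symm]; exact hy.2.2⟩

theorem mid_symm : Mid Q x v x' v' = Mid Q v x v' x' := inf_comm _ _

theorem Fr.projm_mem (h : Fr Q v x v' x') (z : V) : proj Q v v' (proj Q x x' z) ∈ Mid Q v x v' x' := by
  refine ⟨h.h1.proj_mem _, ?_⟩
  show proj Q v v' (proj Q x x' z) ∈ perp Q x x'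
  rw [proj]
  refine sub_mem (sub_mem (h.h2.proj_mem z) (Submodule.smul_mem _ _ ?_)) (Submodule.smul_mem _ _ ?_)
  · exact h.symm.hx
  · exact h.symm.hx'

theorem Fr.mid_nondeg (h : Fr Q v x v' x') (hQ : (polarBilin Q).Nondegenerate) :
    (polarBilin (Q.comp (Mid Q v x v' x').subtype)).Nondegenerate := by
  have hl : ∀ u : Mid Q v x v' x', (∀ w : Mid Q v x v' x', polar Q u.1 w.1 = 0) → u = 0 := fun u hu => by
    refine Subtype.ext (hQ.1 u.1 fun z => ?_)
    show polar Q u.1 z = 0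
    obtain ⟨-, -, -, -, a, b, c, d⟩ := mid4 u.2
    have := hu ⟨_, h.projm_mem z⟩
    simpa [proj, sub_eq_add_neg, polar_add_right, polar_neg_right, polar_smul_right, a, b, c, d] using this
  refine ⟨fun u hu => hl u fun w => ?_, fun u hu => hl u fun w => ?_⟩
  · rw [← sub_polar]; exact hu w
  · rw [pol_symm, ← sub_polar]; exact hu w

theorem uel_ok (h : Fr Q v x v' x') {α β : V} (hα : α ∈ Mid Q v x v' x') (hβ : β ∈ Mid Q v x v' x') (t : F) :
    polar Q v (α + t • x) = 0 ∧ polar Q x β = 0 ∧ polar Q v' (α + t • x) = 0 := by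
  refine ⟨?_, (mid4 hβ).2.2.1, ?_⟩
  · rw [polar_add_right, (mid4 hα).1, polar_smul_right, h.pol.1, smul_zero, add_zero]
  · rw [polar_add_right, (mid4 hα).2.1, polar_smul_right, h.pol.2.2.2.2.1, smul_zero, add_zero]

theorem uel_mul (h : Fr Q v x v' x') {α β α' β' : V} (hα : α ∈ Mid Q v x v' x') (hβ : β ∈ Mid Q v x v' x')
    (hα' : α' ∈ Mid Q v x v' x') (hβ' : β' ∈ Mid Q v x v' x') (t t' : F) :
    uel Q v x α β t * uel Q v x α' β' t' = uel Q v x (α + α') (β + β') (t + t' - polar Q β α') := by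
  obtain ⟨a1, a2, -⟩ := uel_ok h hα hβ t
  obtain ⟨b1, b2, -⟩ := uel_ok h hα' hβ' t'
  have hv : (eg Q x β).1 v = v := eg_fix h.h2.qv a2 h.pol.2.2.1 (mid4 hβ).2.2.2.2.1
  have hy : (eg Q x β).1 (α' + t' • x) = α' + (t' - polar Q β α') • x := by
    rw [eg_app h.h2.qv a2]
    simp only [polar_add_right, polar_smul_right, (mid4 hα').2.2.1, (mid4 hβ).2.2.2.2.2.2.1, pol_sing Q h.h2.qv,
      smul_zero, add_zero, mul_zero, sub_zero, zero_smul, zero_add]
    module
  have hc := eg_conj h.h1.qv b1 (eg Q x β)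
  rw [hv, hy, mul_inv_eq_iff_eq_mul] at hc
  have b1' : polar Q v (α' + (t' - polar Q β α') • x) = 0 := (uel_ok h hα' hβ' _).1
  rw [uel, uel, uel, show α + α' + (t + t' - polar Q β α') • x = (α + t • x) + (α' + (t' - polar Q β α') • x) by module,
    eg_add h.h1.qv a1 b1', eg_add h.h2.qv a2 b2]
  simp only [mul_assoc]
  rw [← mul_assoc (eg Q x β) (eg Q v (α' + t' • x)), hc, mul_assoc]

theorem uel_zero (h : Fr Q v x v' x') : uel Q v x 0 0 (0 : F) = 1 := by
  rw [uel, zero_smul, add_zero, eg_zero h.h1.qv, eg_zero h.h2.qv, mul_one]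

theorem uel_r (h : Fr Q v x v' x') (t : F) : uel Q v x 0 0 t = eg Q v (t • x) := by
  rw [uel, zero_add, eg_zero h.h2.qv, mul_one]

theorem uel_inv (h : Fr Q v x v' x') {α β : V} (hα : α ∈ Mid Q v x v' x') (hβ : β ∈ Mid Q v x v' x') (t : F) :
    (uel Q v x α β t)⁻¹ = uel Q v x (-α) (-β) (-t - polar Q β α) := by
  refine inv_eq_of_mul_eq_one_right ?_
  rw [uel_mul h hα hβ (neg_mem hα) (neg_mem hβ), add_neg_cancel, add_neg_cancel, polar_neg_right,
    show t + (-t - polar Q β α) - -polar Q β α = 0 by ring, uel_zero h]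

theorem uel_inj (h : Fr Q v x v' x') {α β α' β' : V} (hα : α ∈ Mid Q v x v' x') (hβ : β ∈ Mid Q v x v' x')
    (hα' : α' ∈ Mid Q v x v' x') (hβ' : β' ∈ Mid Q v x v' x') {t t' : F}
    (e : uel Q v x α β t = uel Q v x α' β' t') : α = α' ∧ β = β' ∧ t = t' := by
  obtain ⟨a1, a2, a3⟩ := uel_ok h hα hβ t
  obtain ⟨b1, b2, b3⟩ := uel_ok h hα' hβ' t'
  have f1 : (eg Q x β).1 v' = v' := eg_fix h.h2.qv a2 h.pol.2.2.2.2.2.2.1 (mid4 hβ).2.2.2.2.2.1
  have f2 : (eg Q x β').1 v' = v' := eg_fix h.h2.qv b2 h.pol.2.2.2.2.2.2.1 (mid4 hβ').2.2.2.2.2.1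
  have e1 := congrArg (fun g : quadIso Q => g.1 v') e
  simp only [uel, mul_app, f1, f2, eg_app h.h1.qv a1, eg_app h.h1.qv b1, h.h1.vw, one_smul, mul_one,
    pol_symm Q (α + t • x) v', pol_symm Q (α' + t' • x) v', a3, b3, neg_zero, zero_sub, add_right_inj] at e1
  have e2 := congrArg (polar Q v') e1
  simp only [polar_add_right, polar_smul_right, a3, b3, h.h1.wv, smul_eq_mul, mul_one, zero_add, neg_inj] at e2
  rw [e2] at e1
  have e3 : α + t • x = α' + t' • x := add_right_cancel e1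
  have e4 := congrArg (polar Q x') e3
  simp only [polar_add_right, polar_smul_right, (mid4 hα).2.2.2.1, (mid4 hα').2.2.2.1, h.h2.wv, smul_eq_mul,
    mul_one, zero_add] at e4
  subst e4
  have hαα : α = α' := add_right_cancel e3
  subst hαα
  exact ⟨rfl, eg_injective h.h2.qv h.h2.vw a2 b2 (mid4 hβ).2.2.2.1 (mid4 hβ').2.2.2.1 (mul_left_cancel e), rfl⟩

/-- The radical. -/
noncomputable def UL (h : Fr Q v x v' x') : Subgroup (quadIso Q) where
  carrier := {g | ∃ α ∈ Mid Q v x v' x', ∃ β ∈ Mid Q v x v' x', ∃ t : F, g = uel Q v x α β t}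
  mul_mem' := by
    rintro g g' ⟨a, ha, b, hb, t, rfl⟩ ⟨a', ha', b', hb', t', rfl⟩
    exact ⟨_, add_mem ha ha', _, add_mem hb hb', _, uel_mul h ha hb ha' hb' t t'⟩
  one_mem' := ⟨0, zero_mem _, 0, zero_mem _, 0, (uel_zero h).symm⟩
  inv_mem' := by
    rintro g ⟨a, ha, b, hb, t, rfl⟩
    exact ⟨_, neg_mem ha, _, neg_mem hb, _, uel_inv h ha hb t⟩

/-- The image of `H` in the quotient by the centre. -/
noncomputable def Wl (h : Fr Q v x v' x') (H : Subgroup (quadIso Q)) : AddSubgroup (V × V) where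
  carrier := {p | p.1 ∈ Mid Q v x v' x' ∧ p.2 ∈ Mid Q v x v' x' ∧ ∃ t : F, uel Q v x p.1 p.2 t ∈ H}
  add_mem' := by
    rintro a b ⟨a1, a2, t, ht⟩ ⟨b1, b2, t', ht'⟩
    refine ⟨add_mem a1 b1, add_mem a2 b2, t + t' - polar Q a.2 b.1, ?_⟩
    rw [Prod.fst_add, Prod.snd_add, ← uel_mul h a1 a2 b1 b2]
    exact mul_mem ht ht'
  zero_mem' := ⟨zero_mem _, zero_mem _, 0, by rw [Prod.fst_zero, Prod.snd_zero, uel_zero h]; exact one_mem _⟩
  neg_mem' := by
    rintro a ⟨a1, a2, t, ht⟩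
    refine ⟨neg_mem a1, neg_mem a2, -t - polar Q a.2 a.1, ?_⟩
    rw [Prod.fst_neg, Prod.snd_neg, ← uel_inv h a1 a2]
    exact inv_mem ht

variable (Q) in
/-- No nontrivial element of the root group of the line lies in `H`. -/
def Free (v x : V) (H : Subgroup (quadIso Q)) : Prop := ∀ t : F, t ≠ 0 → eg Q v (t • x) ∉ H

theorem Fr.free_unique (h : Fr Q v x v' x') {H : Subgroup (quadIso Q)} (hf : Free Q v x H) {α β : V} {t t' : F}
    (hα : α ∈ Mid Q v x v' x') (hβ : β ∈ Mid Q v x v' x')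
    (h1 : uel Q v x α β t ∈ H) (h2 : uel Q v x α β t' ∈ H) : t = t' := by
  by_contra hne
  have e : uel Q v x 0 0 (t - t') * uel Q v x α β t' = uel Q v x α β t := by
    rw [uel_mul h (zero_mem _) (zero_mem _) hα hβ, polar_zero_left, zero_add, zero_add, sub_add_cancel, sub_zero]
  refine hf _ (sub_ne_zero.2 hne) ?_
  rw [← uel_r h, ← mul_inv_cancel_right (uel Q v x 0 0 (t - t')) (uel Q v x α β t'), e]
  exact mul_mem h1 (inv_mem h2)

/-- The commutator pairing vanishes on `H`. -/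
theorem Fr.isotropic (h : Fr Q v x v' x') {H : Subgroup (quadIso Q)} (hf : Free Q v x H) {p p' : V × V}
    (hp : p ∈ Wl h H) (hp' : p' ∈ Wl h H) : polar Q p.2 p'.1 = polar Q p'.2 p.1 := by
  obtain ⟨a1, a2, t, ht⟩ := hp
  obtain ⟨b1, b2, t', ht'⟩ := hp'
  have e1 := uel_mul h a1 a2 b1 b2 t t'
  have e2 := uel_mul h b1 b2 a1 a2 t' t
  rw [add_comm p'.1, add_comm p'.2, add_comm t'] at e2
  have m1 := mul_mem ht ht'
  have m2 := mul_mem ht' ht
  rw [e1] at m1
  rw [e2] at m2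
  have := h.free_unique hf (add_mem a1 b1) (add_mem a2 b2) m1 m2
  linear_combination -this

/-- `g` acts on the radical by `L` modulo the centre. -/
def Acts (h : Fr Q v x v' x') (g : quadIso Q) (L : V × V →ₗ[F] V × V) : Prop :=
  ∀ α ∈ Mid Q v x v' x', ∀ β ∈ Mid Q v x v' x',
    (L (α, β)).1 ∈ Mid Q v x v' x' ∧ (L (α, β)).2 ∈ Mid Q v x v' x' ∧
    ∀ t : F, ∃ t' : F, g * uel Q v x α β t * g⁻¹ = uel Q v x (L (α, β)).1 (L (α, β)).2 t'

theorem Acts.one (h : Fr Q v x v' x') : Acts h 1 LinearMap.id := fun α hα β hβ =>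
  ⟨hα, hβ, fun t => ⟨t, by simp⟩⟩

theorem Acts.mul {h : Fr Q v x v' x'} {g k : quadIso Q} {L M : V × V →ₗ[F] V × V} (hg : Acts h g L)
    (hk : Acts h k M) : Acts h (g * k) (L ∘ₗ M) := by
  intro α hα β hβ
  obtain ⟨m1, m2, mk⟩ := hk α hα β hβ
  obtain ⟨l1, l2, lk⟩ := hg _ m1 _ m2
  refine ⟨l1, l2, fun t => ?_⟩
  obtain ⟨t', ht'⟩ := mk t
  obtain ⟨t'', ht''⟩ := lk t'
  refine ⟨t'', ?_⟩
  rw [LinearMap.comp_apply, mul_inv_rev, ← ht'', ← ht']
  group

theorem acts_fix (h : Fr Q v x v' x') {g : quadIso Q} (hv : g.1 v = v) (hx : g.1 x = x) (hv' : g.1 v' = v')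
    (hx' : g.1 x' = x') : Acts h g (LinearMap.prodMap (g.1 : V →ₗ[F] V) (g.1 : V →ₗ[F] V)) := by
  have hm : ∀ y ∈ Mid Q v x v' x', g.1 y ∈ Mid Q v x v' x' := fun y hy => by
    obtain ⟨a, b, c, d, -⟩ := mid4 hy
    refine ⟨(mem_perp Q).2 ⟨?_, ?_⟩, (mem_perp Q).2 ⟨?_, ?_⟩⟩
    · conv_lhs => rw [← hv, polar_iso]
      exact a
    · conv_lhs => rw [← hv', polar_iso]
      exact b
    · conv_lhs => rw [← hx, polar_iso]
      exact c
    · conv_lhs => rw [← hx', polar_iso]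
      exact d
  intro α hα β hβ
  refine ⟨hm α hα, hm β hβ, fun t => ⟨t, ?_⟩⟩
  obtain ⟨a1, a2, -⟩ := uel_ok h hα hβ t
  have e : ∀ a b : quadIso Q, g * (a * b) * g⁻¹ = (g * a * g⁻¹) * (g * b * g⁻¹) := fun a b => by group
  rw [uel, e, eg_conj h.h1.qv a1, eg_conj h.h2.qv a2, map_add, map_smul, hv, hx]
  rfl

/-- The shift `(α, β) ↦ (α - sβ, β)`. -/
def shiftL (s : F) : V × V →ₗ[F] V × V :=
  LinearMap.prod (LinearMap.fst F V V - s • LinearMap.snd F V V) (LinearMap.snd F V V)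

/-- The shift `(α, β) ↦ (α, β - sα)`. -/
def shiftR (s : F) : V × V →ₗ[F] V × V :=
  LinearMap.prod (LinearMap.fst F V V) (LinearMap.snd F V V - s • LinearMap.fst F V V)

theorem shiftL_apply (s : F) (p : V × V) : shiftL s p = (p.1 - s • p.2, p.2) := rfl

theorem shiftR_apply (s : F) (p : V × V) : shiftR s p = (p.1, p.2 - s • p.1) := rfl

theorem eg_sx'_ok (h : Fr Q v x v' x') (s : F) : polar Q v (s • x') = 0 := by
  rw [polar_smul_right, h.pol.2.1, smul_zero]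

theorem acts_left (h : Fr Q v x v' x') (s : F) : Acts h (eg Q v (s • x')) (shiftL s) := by
  intro α hα β hβ
  obtain ⟨-, -, a3, a4, -, -, a7, a8⟩ := mid4 hα
  obtain ⟨b1, -, b3, b4, -, -, b7, b8⟩ := mid4 hβ
  refine ⟨sub_mem hα (Submodule.smul_mem _ _ hβ), hβ, fun t => ⟨t + s * Q β, ?_⟩⟩
  have hs := eg_sx'_ok h s
  have fv := eg_self h.h1.qv hs
  have fα : ∀ y ∈ Mid Q v x v' x', (eg Q v (s • x')).1 y = y := fun y hy => eg_fix h.h1.qv hs (mid4 hy).1
    (by rw [polar_smul_left, (mid4 hy).2.2.2.1, smul_zero])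
  have fx : (eg Q v (s • x')).1 x = x + (-s) • v := by
    rw [eg_app h.h1.qv hs, h.pol.1, polar_smul_left, h.h2.wv]
    simp
  obtain ⟨o1, o2, -⟩ := uel_ok h hα hβ t
  have e : ∀ a b g : quadIso Q, g * (a * b) * g⁻¹ = (g * a * g⁻¹) * (g * b * g⁻¹) := fun a b g => by group
  have hβv : polar Q v β = 0 := b1
  have q1 : Q ((-s) • v) = 0 := by rw [QuadraticMap.map_smul, h.h1.qv, smul_zero]
  have q2 : polar Q ((-s) • v) x = 0 := by rw [polar_smul_left, h.pol.1, smul_zero]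
  have q3 : polar Q ((-s) • v) β = 0 := by rw [polar_smul_left, hβv, smul_zero]
  have q4 : polar Q v (-(Q β) • x) = 0 := by rw [polar_smul_right, h.pol.1, smul_zero]
  rw [shiftL_apply, uel, e, eg_conj h.h1.qv o1, eg_conj h.h2.qv o2, map_add, map_smul, fv, fα α hα, fα β hβ, fx,
    add_comm x, eg_add_left q1 h.h2.qv q2 q3 b3, eg_smul_left h.h1.qv q4, eg_smul_left h.h1.qv hβv,
    show α + t • ((-s) • v + x) = (α + t • x) + (t * -s) • v by module, eg_shift h.h1.qv o1, ← mul_assoc, ← mul_assoc,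
    ← eg_add h.h1.qv o1 (by rw [polar_smul_right, q4, smul_zero]),
    ← eg_add h.h1.qv (by rw [polar_add_right, o1, polar_smul_right, q4, smul_zero, add_zero])
      (by rw [polar_smul_right, hβv, smul_zero]), uel]
  congr 2
  module

theorem acts_right (h : Fr Q v x v' x') (s : F) : Acts h (eg Q x (s • v')) (shiftR s) := by
  intro α hα β hβ
  obtain ⟨a1, a2, a3, a4, -, -, a7, a8⟩ := mid4 hα
  refine ⟨hα, sub_mem hβ (Submodule.smul_mem _ _ hα), fun t => ⟨t + s * Q α, ?_⟩⟩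
  have hs : polar Q x (s • v') = 0 := by rw [polar_smul_right, h.pol.2.2.2.2.2.2.1, smul_zero]
  have fx := eg_self h.h2.qv hs
  have fα : ∀ y ∈ Mid Q v x v' x', (eg Q x (s • v')).1 y = y := fun y hy => eg_fix h.h2.qv hs (mid4 hy).2.2.1
    (by rw [polar_smul_left, (mid4 hy).2.1, smul_zero])
  have fv : (eg Q x (s • v')).1 v = v + (-s) • x := by
    rw [eg_app h.h2.qv hs, h.pol.2.2.1, polar_smul_left, h.h1.wv]
    simp
  obtain ⟨o1, o2, -⟩ := uel_ok h hα hβ t
  have e : ∀ a b g : quadIso Q, g * (a * b) * g⁻¹ = (g * a * g⁻¹) * (g * b * g⁻¹) := fun a b g => by group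
  have q1 : Q ((-s) • x) = 0 := by rw [QuadraticMap.map_smul, h.h2.qv, smul_zero]
  have q2 : polar Q v ((-s) • x) = 0 := by rw [polar_smul_right, h.pol.1, smul_zero]
  have q3 : polar Q x (α + t • x) = 0 := by
    rw [polar_add_right, a3, polar_smul_right, pol_sing Q h.h2.qv, smul_zero, add_zero]
  have q4 : polar Q ((-s) • x) (α + t • x) = 0 := by rw [polar_smul_left, q3, smul_zero]
  have q5 : Q (α + t • x) = Q α := by
    rw [QuadraticMap.map_add Q α, QuadraticMap.map_smul, h.h2.qv, polar_smul_right, a7, smul_zero, smul_zero,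
      add_zero, add_zero]
  have q6 : polar Q x ((-s) • α) = 0 := by rw [polar_smul_right, a3, smul_zero]
  rw [shiftR_apply, uel, e, eg_conj h.h1.qv o1, eg_conj h.h2.qv o2, map_add, map_smul, fv, fα α hα, fα β hβ, fx,
    eg_add_left h.h1.qv q1 q2 o1 q4, eg_smul_left h.h2.qv q3,
    show (-s) • (α + t • x) = (-s) • α + (-s * t) • x by module, eg_shift h.h2.qv q6, ← mul_assoc,
    ← eg_add h.h1.qv (by rw [polar_smul_right, q2, smul_zero]) o1, mul_assoc, ← eg_add h.h2.qv q6 o2, q5, uel]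
  congr 2 <;> module

section finite
variable [Fintype F] [FiniteDimensional F V]

theorem Fr.finrank_mid (h : Fr Q v x v' x') : finrank F (Mid Q v x v' x') + 4 = finrank F V := by
  have h1 := h.h1.finrank_perp
  have hh : Hyp (Q.comp (perp Q v v').subtype) ⟨x, h.hx⟩ ⟨x', h.hx'⟩ :=
    ⟨h.h2.qv, h.h2.qw, by rw [sub_polar]; exact h.h2.vw⟩
  have h2 := hh.finrank_perp
  have e : perp (Q.comp (perp Q v v').subtype) ⟨x, h.hx⟩ ⟨x', h.hx'⟩ =
      (Mid Q v x v' x').comap (perp Q v v').subtype := by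
    ext y
    rw [mem_perp, sub_polar, sub_polar, Submodule.mem_comap, Mid, Submodule.mem_inf]
    exact ⟨fun hy => ⟨y.2, (mem_perp Q).2 hy⟩, fun hy => (mem_perp Q).1 hy.2⟩
  rw [e, (Submodule.comapSubtypeEquivOfLe (show Mid Q v x v' x' ≤ perp Q v v' from inf_le_left)).finrank_eq] at h2
  omega

theorem relIndex_UL (h : Fr Q v x v' x') {H : Subgroup (quadIso Q)} (hf : Free Q v x H) :
    H.relIndex (UL h) * Nat.card (Wl h H) = Fintype.card F ^ (2 * finrank F (Mid Q v x v' x') + 1) := by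
  haveI : Finite V := finite_space F V
  set M := Mid Q v x v' x'
  let e : (M × M) × F → UL h := fun p => ⟨uel Q v x p.1.1 p.1.2 p.2, p.1.1, p.1.1.2, p.1.2, p.1.2.2, p.2, rfl⟩
  have he : Function.Bijective e := by
    refine ⟨fun a b hab => ?_, ?_⟩
    · obtain ⟨e1, e2, e3⟩ := uel_inj h a.1.1.2 a.1.2.2 b.1.1.2 b.1.2.2 (congrArg Subtype.val hab)
      exact Prod.ext (Prod.ext (Subtype.ext e1) (Subtype.ext e2)) e3
    · rintro ⟨g, a, ha, b, hb, t, rfl⟩
      exact ⟨((⟨a, ha⟩, ⟨b, hb⟩), t), rfl⟩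
  have h1 : Nat.card (H.subgroupOf (UL h)) = Nat.card (Wl h H) := by
    refine (Nat.card_congr (Equiv.ofBijective (fun p : Wl h H =>
      (⟨e ((⟨p.1.1, p.2.1⟩, ⟨p.1.2, p.2.2.1⟩), p.2.2.2.choose),
        Subgroup.mem_subgroupOf.2 p.2.2.2.choose_spec⟩ : H.subgroupOf (UL h))) ?_)).symm
    refine ⟨fun a b hab => ?_, ?_⟩
    · have e1 := he.1 (congrArg Subtype.val hab)
      exact Subtype.ext (Prod.ext (congrArg (fun p : (M × M) × F => p.1.1.1) e1)
        (congrArg (fun p : (M × M) × F => p.1.2.1) e1))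
    · rintro ⟨g, hg⟩
      obtain ⟨⟨⟨⟨a, ha⟩, ⟨b, hb⟩⟩, t⟩, rfl⟩ := he.2 g
      have hp : (a, b) ∈ Wl h H := ⟨ha, hb, t, hg⟩
      refine ⟨⟨(a, b), hp⟩, Subtype.ext (congrArg e (Prod.ext rfl ?_))⟩
      exact h.free_unique hf ha hb hp.2.2.choose_spec hg
  rw [← h1, Subgroup.relIndex, mul_comm, Subgroup.card_mul_index, ← Nat.card_congr (Equiv.ofBijective e he),
    Nat.card_prod, Nat.card_prod, Module.natCard_eq_pow_finrank (K := F) (V := M),
    Nat.card_eq_fintype_card (α := F), pow_succ, two_mul, pow_add]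

theorem acts_norm {h : Fr Q v x v' x'} {g : quadIso Q} {L : V × V →ₗ[F] V × V} (hg : Acts h g L) :
    g ∈ Subgroup.normalizer (UL h : Set (quadIso Q)) := by
  rw [Subgroup.mem_normalizer_iff]
  have hmaps : Set.MapsTo (fun k : quadIso Q => g * k * g⁻¹) (UL h) (UL h) := by
    rintro k ⟨a, ha, b, hb, t, rfl⟩
    obtain ⟨l1, l2, lk⟩ := hg a ha b hb
    obtain ⟨t', ht'⟩ := lk t
    exact ⟨_, l1, _, l2, t', ht'⟩
  have hinj : Set.InjOn (fun k : quadIso Q => g * k * g⁻¹) (UL h) := fun a _ b _ e =>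
    mul_left_cancel (mul_right_cancel e)
  intro k
  refine ⟨fun hk => hmaps hk, fun hk => ?_⟩
  obtain ⟨k', hk', e⟩ := ((Set.toFinite _).injOn_iff_bijOn_of_mapsTo hmaps).1 hinj |>.surjOn hk
  rwa [← show k' = k from mul_left_cancel (mul_right_cancel e)]

/-- The centre of the radical is the root group. -/
theorem central_eq (h : Fr Q v x v' x') (hQ : (polarBilin Q).Nondegenerate) {z : quadIso Q} (hz : z ∈ UL h)
    (hc : ∀ k ∈ UL h, z * k = k * z) : ∃ t : F, z = uel Q v x 0 0 t := by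
  obtain ⟨a, ha, b, hb, t, rfl⟩ := hz
  have hnd := h.mid_nondeg hQ
  refine ⟨t, ?_⟩
  have key : ∀ c ∈ Mid Q v x v' x', ∀ d ∈ Mid Q v x v' x', polar Q b c = polar Q d a := by
    intro c hc' d hd
    have e := hc _ ⟨c, hc', d, hd, 0, rfl⟩
    rw [uel_mul h ha hb hc' hd, uel_mul h hc' hd ha hb] at e
    have := (uel_inj h (add_mem ha hc') (add_mem hb hd) (add_mem hc' ha) (add_mem hd hb) e).2.2
    linear_combination -this
  have hb0 : b = 0 := congrArg Subtype.val (hnd.1 (⟨b, hb⟩ : Mid Q v x v' x') fun c => by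
    show polar _ _ _ = 0
    rw [sub_polar, key c.1 c.2 0 (zero_mem _), polar_zero_left])
  have ha0 : a = 0 := congrArg Subtype.val (hnd.1 (⟨a, ha⟩ : Mid Q v x v' x') fun d => by
    show polar _ _ _ = 0
    rw [sub_polar, pol_symm, ← key 0 (zero_mem _) d.1 d.2, polar_zero_right])
  rw [ha0, hb0]

/-- Distinct images of the part of `H` bound the index. -/
theorem line_bound (h : Fr Q v x v' x') (hQ : (polarBilin Q).Nondegenerate) (H : Subgroup (quadIso Q))
    (hU : UL h ≤ Om Q) {ι : Type*} (gs : ι → quadIso Q) (Ls : ι → (V × V →ₗ[F] V × V)) (hgs : ∀ i, gs i ∈ Om Q)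
    (hact : ∀ i, Acts h (gs i) (Ls i))
    (hinj : ∀ i j, (Ls i) '' (Wl h H : Set (V × V)) = (Ls j) '' (Wl h H : Set (V × V)) → i = j) :
    H.relIndex (UL h) * Nat.card ι ≤ H.relIndex (Om Q) := by
  set X := Subgroup.normalizer (UL h : Set (quadIso Q)) ⊓ Om Q with hX
  let P : quadIso Q → Prop := fun g => ∀ p ∈ Wl h H, ∀ t : F, ∃ p' ∈ Wl h H, ∃ t' : F,
    g * uel Q v x p.1 p.2 t * g⁻¹ = uel Q v x p'.1 p'.2 t'
  have hUX : UL h ≤ X := le_inf Subgroup.le_normalizer hU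
  refine le_trans (relIndex_family H X (UL h) hUX P ?_ gs (fun i => ⟨acts_norm (hact i), hgs i⟩) ?_)
    (relIndex_mono H inf_le_right)
  · intro g hg
    suffices g ∈ X ∧ P g from this.2
    refine Subgroup.closure_induction (p := fun g _ => g ∈ X ∧ P g) ?_ ?_ ?_ ?_
      (show g ∈ Subgroup.closure (↑(H ⊓ X) ∪ ↑(UL h) : Set (quadIso Q)) by
        rwa [Subgroup.closure_union, Subgroup.closure_eq, Subgroup.closure_eq])
    · rintro g (hg | hg)
      · refine ⟨hg.2, fun p hp t => ?_⟩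
        obtain ⟨hp1, hp2, t0, ht0⟩ := hp
        have hN : ∀ k, k ∈ UL h ↔ g * k * g⁻¹ ∈ UL h := Subgroup.mem_normalizer_iff.1 hg.2.1
        obtain ⟨a', ha', b', hb', t1, ht1⟩ := (hN _).1 ⟨_, hp1, _, hp2, t0, rfl⟩
        have hm : uel Q v x a' b' t1 ∈ H := ht1 ▸ mul_mem (mul_mem hg.1 ht0) (inv_mem hg.1)
        obtain ⟨s, hs⟩ := central_eq h hQ ((hN _).1 ⟨0, zero_mem _, 0, zero_mem _, t - t0, rfl⟩) (fun k hk => by
          obtain ⟨c, hc, d, hd, r, hr⟩ := (hN (g⁻¹ * k * g)).2 (by simpa [mul_assoc] using hk)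
          have e : uel Q v x 0 0 (t - t0) * uel Q v x c d r = uel Q v x c d r * uel Q v x 0 0 (t - t0) := by
            rw [uel_mul h (zero_mem _) (zero_mem _) hc hd, uel_mul h hc hd (zero_mem _) (zero_mem _),
              polar_zero_left, polar_zero_right, add_comm (0 : V), add_comm (0 : V), add_comm r]
          have hk' : k = g * uel Q v x c d r * g⁻¹ := by rw [← hr]; group
          rw [hk']
          calc g * uel Q v x 0 0 (t - t0) * g⁻¹ * (g * uel Q v x c d r * g⁻¹)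
              = g * (uel Q v x 0 0 (t - t0) * uel Q v x c d r) * g⁻¹ := by group
            _ = g * (uel Q v x c d r * uel Q v x 0 0 (t - t0)) * g⁻¹ := by rw [e]
            _ = _ := by group)
        refine ⟨(a', b'), ⟨ha', hb', t1, hm⟩, s + t1, ?_⟩
        have e0 : uel Q v x p.1 p.2 t = uel Q v x 0 0 (t - t0) * uel Q v x p.1 p.2 t0 := by
          rw [uel_mul h (zero_mem _) (zero_mem _) hp1 hp2, polar_zero_left, zero_add, zero_add, sub_add_cancel,
            sub_zero]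
        rw [e0, show g * (uel Q v x 0 0 (t - t0) * uel Q v x p.1 p.2 t0) * g⁻¹ =
          (g * uel Q v x 0 0 (t - t0) * g⁻¹) * (g * uel Q v x p.1 p.2 t0 * g⁻¹) by group, hs, ht1,
          uel_mul h (zero_mem _) (zero_mem _) ha' hb', polar_zero_left, sub_zero, zero_add, zero_add]
      · refine ⟨hUX hg, fun p hp t => ⟨p, hp, ?_⟩⟩
        obtain ⟨a, ha, b, hb, r, rfl⟩ := hg
        refine ⟨r + t - polar Q b p.1 + (-r - polar Q b a) - polar Q (b + p.2) (-a), ?_⟩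
        rw [uel_mul h ha hb hp.1 hp.2.1, uel_inv h ha hb,
          uel_mul h (add_mem ha hp.1) (add_mem hb hp.2.1) (neg_mem ha) (neg_mem hb)]
        simp
    · exact ⟨one_mem _, fun p hp t => ⟨p, hp, t, by simp⟩⟩
    · rintro g k - - ⟨hg, hg'⟩ ⟨hk, hk'⟩
      refine ⟨mul_mem hg hk, fun p hp t => ?_⟩
      obtain ⟨p', hp', t', e⟩ := hk' p hp t
      obtain ⟨p'', hp'', t'', e'⟩ := hg' p' hp' t'
      exact ⟨p'', hp'', t'', by rw [← e', ← e]; group⟩
    · rintro g - ⟨hg, hg'⟩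
      refine ⟨inv_mem hg, ?_⟩
      have hpow : ∀ k : ℕ, P (g ^ k) := by
        intro k
        induction k with
        | zero => exact fun p hp t => ⟨p, hp, t, by simp⟩
        | succ k ih =>
          intro p hp t
          obtain ⟨p', hp', t', e⟩ := hg' p hp t
          obtain ⟨p'', hp'', t'', e'⟩ := ih p' hp' t'
          exact ⟨p'', hp'', t'', by rw [← e', ← e, pow_succ]; group⟩
      have e : g ^ (orderOf g - 1) = g⁻¹ := by
        refine eq_inv_of_mul_eq_one_left ?_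
        rw [← pow_succ, Nat.sub_add_cancel (orderOf_pos g), pow_orderOf_eq_one]
      exact e ▸ hpow _
  · intro i j hP
    refine hinj i j (Set.Subset.antisymm ?_ ?_).symm
    · rintro _ ⟨p, hp, rfl⟩
      obtain ⟨p', hp', t', e⟩ := hP p hp 0
      obtain ⟨l1, l2, lk⟩ := hact j p.1 hp.1 p.2 hp.2.1
      obtain ⟨m1, m2, mk⟩ := hact i p'.1 hp'.1 p'.2 hp'.2.1
      obtain ⟨r, hr⟩ := lk 0
      obtain ⟨r', hr'⟩ := mk t'
      refine ⟨p', hp', ?_⟩
      have e2 : uel Q v x (Ls j (p.1, p.2)).1 (Ls j (p.1, p.2)).2 r =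
          uel Q v x (Ls i (p'.1, p'.2)).1 (Ls i (p'.1, p'.2)).2 r' := by
        rw [← hr, ← hr', ← e]; group
      obtain ⟨e3, e4, -⟩ := uel_inj h l1 l2 m1 m2 e2
      exact (Prod.ext e3 e4).symm
    · rintro _ ⟨p', hp', rfl⟩
      have hfin : Finite V := finite_space F V
      have hinjc : ∀ p ∈ Wl h H, ∀ p₂ ∈ Wl h H, ∀ t t₂ : F, ∀ q : V × V, q.1 ∈ Mid Q v x v' x' →
          q.2 ∈ Mid Q v x v' x' → ∀ s s₂ : F,
          ((gs i)⁻¹ * gs j) * uel Q v x p.1 p.2 t * ((gs i)⁻¹ * gs j)⁻¹ = uel Q v x q.1 q.2 s →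
          ((gs i)⁻¹ * gs j) * uel Q v x p₂.1 p₂.2 t₂ * ((gs i)⁻¹ * gs j)⁻¹ = uel Q v x q.1 q.2 s₂ → p = p₂ := by
        intro p hp p₂ hp₂ t t₂ q hq1 hq2 s s₂ e1 e2
        have hz : uel Q v x q.1 q.2 s = uel Q v x 0 0 (s - s₂) * uel Q v x q.1 q.2 s₂ := by
          rw [uel_mul h (zero_mem _) (zero_mem _) hq1 hq2, polar_zero_left, zero_add, zero_add, sub_add_cancel,
            sub_zero]
        set k := (gs i)⁻¹ * gs j
        obtain ⟨z, hz0, r, hr⟩ := hP 0 (zero_mem _) (s - s₂)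
        have hkk : uel Q v x p.1 p.2 t = k⁻¹ * (uel Q v x 0 0 (s - s₂)) * k * uel Q v x p₂.1 p₂.2 t₂ := by
          calc uel Q v x p.1 p.2 t = k⁻¹ * (k * uel Q v x p.1 p.2 t * k⁻¹) * k := by group
            _ = k⁻¹ * (uel Q v x 0 0 (s - s₂) * (k * uel Q v x p₂.1 p₂.2 t₂ * k⁻¹)) * k := by rw [e1, hz, e2]
            _ = _ := by group
        have hnk : k ∈ Subgroup.normalizer (UL h : Set (quadIso Q)) :=
          mul_mem (inv_mem (acts_norm (hact i))) (acts_norm (hact j))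
        obtain ⟨r', hr'⟩ := central_eq h hQ
          (z := k⁻¹ * uel Q v x 0 0 (s - s₂) * k) (by
            simpa using (Subgroup.mem_normalizer_iff.1 (inv_mem hnk) _).1
              (⟨0, zero_mem _, 0, zero_mem _, s - s₂, rfl⟩ : uel Q v x 0 0 (s - s₂) ∈ UL h)) (fun w hw => by
            obtain ⟨c, hc, d, hd, r', hr'⟩ := (Subgroup.mem_normalizer_iff.1 hnk _).1 hw
            have e : uel Q v x 0 0 (s - s₂) * uel Q v x c d r' = uel Q v x c d r' * uel Q v x 0 0 (s - s₂) := by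
              rw [uel_mul h (zero_mem _) (zero_mem _) hc hd, uel_mul h hc hd (zero_mem _) (zero_mem _),
                polar_zero_left, polar_zero_right, add_comm (0 : V), add_comm (0 : V), add_comm r']
            have hw' : w = k⁻¹ * uel Q v x c d r' * k := by rw [← hr']; group
            rw [hw']
            calc k⁻¹ * uel Q v x 0 0 (s - s₂) * k * (k⁻¹ * uel Q v x c d r' * k)
                = k⁻¹ * (uel Q v x 0 0 (s - s₂) * uel Q v x c d r') * k := by group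
              _ = k⁻¹ * (uel Q v x c d r' * uel Q v x 0 0 (s - s₂)) * k := by rw [e]
              _ = _ := by group)
        rw [hr', uel_mul h (zero_mem _) (zero_mem _) hp₂.1 hp₂.2.1, zero_add, zero_add] at hkk
        obtain ⟨e3, e4, -⟩ := uel_inj h hp.1 hp.2.1 hp₂.1 hp₂.2.1 hkk
        exact Prod.ext e3 e4
      let f : Wl h H → Wl h H := fun p => ⟨(hP p.1 p.2 0).choose, (hP p.1 p.2 0).choose_spec.1⟩
      have hf : Function.Injective f := fun a b hab => by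
        obtain ⟨t1, e1⟩ := (hP a.1 a.2 0).choose_spec.2
        obtain ⟨t2, e2⟩ := (hP b.1 b.2 0).choose_spec.2
        have hab' : (hP a.1 a.2 0).choose = (hP b.1 b.2 0).choose := congrArg Subtype.val hab
        have hm := (hP b.1 b.2 0).choose_spec.1
        rw [hab'] at e1
        exact Subtype.ext (hinjc _ a.2 _ b.2 0 0 _ hm.1 hm.2.1 _ _ e1 e2)
      obtain ⟨p, hp⟩ := Finite.injective_iff_surjective.1 hf ⟨p', hp'⟩
      obtain ⟨t', e⟩ := (hP p.1 p.2 0).choose_spec.2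
      have hpp : (hP p.1 p.2 0).choose = p' := congrArg Subtype.val hp
      rw [hpp] at e
      obtain ⟨l1, l2, lk⟩ := hact j p.1.1 p.2.1 p.1.2 p.2.2.1
      obtain ⟨m1, m2, mk⟩ := hact i p'.1 hp'.1 p'.2 hp'.2.1
      obtain ⟨r, hr⟩ := lk 0
      obtain ⟨r', hr'⟩ := mk t'
      refine ⟨p.1, p.2, ?_⟩
      have e2 : uel Q v x (Ls j (p.1.1, p.1.2)).1 (Ls j (p.1.1, p.1.2)).2 r =
          uel Q v x (Ls i (p'.1, p'.2)).1 (Ls i (p'.1, p'.2)).2 r' := by
        rw [← hr, ← hr', ← e]; group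
      obtain ⟨e3, e4, -⟩ := uel_inj h l1 l2 m1 m2 e2
      exact Prod.ext e3 e4

end finite

end CfsgLib.OmegaMin
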