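import Mathlib
import Cfsg.Agent.Lib.OmegaMin.LineRad

/-! A proper subgroup misses some root group. -/

set_option autoImplicit false

namespace CfsgLib.OmegaMin

open QuadraticMap CfsgLib.WittExtension Module CfsgLib.SpinorNorm CfsgLib.Eichler CfsgLib.OmegaSimple

variable {F V : Type*} [Field F] [AddCommGroup V] [Module F V] {Q : QuadraticForm F V}

/-- Two additive subgroups orthogonal through a character are small. -/
theorem ann_bound [Fintype F] [Finite V] (hQ : (polarBilin Q).Nondegenerate) {ψ : AddChar F ℂ} (hψ : ψ ≠ 0)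
    (A W : AddSubgroup V) (h : ∀ a ∈ A, ∀ w ∈ W, ψ (polar Q a w) = 1) :
    Nat.card A * Nat.card W ≤ Nat.card V := by
  classical
  haveI : Fintype W := Fintype.ofFinite _
  haveI : Fintype V := Fintype.ofFinite _
  obtain ⟨t, ht⟩ := AddChar.ne_zero_iff.1 hψ
  have hpred : ∀ y : V, (∀ w ∈ W, ψ (polar Q y w) = 1) ∨ ¬ (∀ w ∈ W, ψ (polar Q y w) = 1) := fun y => em _
  have h1 : ∀ y : V, ∑ w : W, ψ (polar Q y w) = if (∀ w ∈ W, ψ (polar Q y w) = 1) then (Nat.card W : ℂ) else 0 := by
    intro y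
    let χ : AddChar W ℂ :=
      { toFun := fun w => ψ (polar Q y (w : V))
        map_zero_eq_one' := by simp
        map_add_eq_mul' := fun a b => by rw [AddSubgroup.coe_add, polar_add_right, AddChar.map_add_eq_mul] }
    show ∑ w : W, χ w = _
    rw [AddChar.sum_eq_ite, Nat.card_eq_fintype_card]
    have : χ = 0 ↔ (∀ w ∈ W, ψ (polar Q y w) = 1) := by
      constructor
      · intro h w hw
        exact DFunLike.congr_fun h (⟨w, hw⟩ : W)
      · intro h
        exact DFunLike.ext χ 0 fun w : W => h (w : V) w.2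
    simp only [this]
  have h2 : ∀ w : W, ∑ y : V, ψ (polar Q y w) = if w = 0 then (Fintype.card V : ℂ) else 0 := by
    intro w
    let χ : AddChar V ℂ :=
      { toFun := fun y => ψ (polar Q y (w : V))
        map_zero_eq_one' := by simp
        map_add_eq_mul' := fun a b => by rw [polar_add_left, AddChar.map_add_eq_mul] }
    show ∑ y : V, χ y = _
    rw [AddChar.sum_eq_ite]
    have : χ = 0 ↔ w = 0 := by
      constructor
      · intro h
        by_contra hw
        obtain ⟨z, hz⟩ : ∃ z, polar Q (w : V) z ≠ 0 := by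
          by_contra hh
          push Not at hh
          exact hw (Subtype.ext (hQ.1 _ hh))
        have h' : ψ (polar Q ((t / polar Q (w : V) z) • z) (w : V)) = 1 := DFunLike.congr_fun h _
        rw [polar_smul_left, pol_symm Q z, smul_eq_mul, div_mul_cancel₀ _ hz] at h'
        exact ht h'
      · intro h
        exact DFunLike.ext _ _ fun y => by
          show ψ (polar Q y (w : V)) = 1
          rw [h]; simp
    simp only [this]
  have key := Finset.sum_comm (s := (Finset.univ : Finset V)) (t := (Finset.univ : Finset W))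
    (f := fun y w => ψ (polar Q y (w : V)))
  rw [Finset.sum_congr rfl fun y _ => h1 y, Finset.sum_congr rfl fun w _ => h2 w, Finset.sum_ite_eq',
    if_pos (Finset.mem_univ _), ← Finset.sum_filter, Finset.sum_const, nsmul_eq_mul, ← Nat.cast_mul,
    Nat.cast_inj] at key
  rw [Nat.card_eq_fintype_card (α := V), ← key]
  refine Nat.mul_le_mul_right _ ?_
  rw [← Nat.card_eq_finsetCard]
  exact Nat.card_le_card_of_injective (fun a : A => ⟨a.1, by simpa using h a.1 a.2⟩) fun a b e =>
    Subtype.ext (congrArg Subtype.val e :)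

variable (Q) in
/-- The scalars of the root group in `H`. -/
noncomputable def Zl (v x : V) (H : Subgroup (quadIso Q)) (hv : Q v = 0) (hvx : polar Q v x = 0) : AddSubgroup F where
  carrier := {t | eg Q v (t • x) ∈ H}
  add_mem' := fun {a b} (ha : eg Q v (a • x) ∈ H) (hb : eg Q v (b • x) ∈ H) => by
    show eg Q v ((a + b) • x) ∈ H
    rw [add_smul, eg_add hv (by rw [polar_smul_right, hvx, smul_zero]) (by rw [polar_smul_right, hvx, smul_zero])]
    exact mul_mem ha hb
  zero_mem' := by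
    show eg Q v ((0 : F) • x) ∈ H
    rw [zero_smul, eg_zero hv]
    exact one_mem _
  neg_mem' := fun {a} (ha : eg Q v (a • x) ∈ H) => by
    show eg Q v (-a • x) ∈ H
    rw [neg_smul, ← eg_inv hv (by rw [polar_smul_right, hvx, smul_zero])]
    exact inv_mem ha

theorem free_of_zl {v x : V} {H : Subgroup (quadIso Q)} (hv : Q v = 0) (hvx : polar Q v x = 0)
    (h : Zl Q v x H hv hvx = ⊥) : Free Q v x H := fun t ht hm =>
  ht (by have : t ∈ Zl Q v x H hv hvx := hm; rwa [h, AddSubgroup.mem_bot] at this)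

variable [Fintype F] [FiniteDimensional F V]

/-- Every pair of orthogonal independent singular vectors extends to a frame. -/
theorem exists_fr (hQ : (polarBilin Q).Nondegenerate) {v v' y : V} (h : Hyp Q v v') (hy : y ∈ perp Q v v')
    (hy0 : y ≠ 0) (hQy : Q y = 0) : ∃ y', Fr Q v y v' y' := by
  obtain ⟨y', hy', hyy⟩ := exists_partner (Q.comp (perp Q v v').subtype) (perp_nondeg Q hQ h.qv h.qw h.vw)
    (e := ⟨y, hy⟩) (fun e => hy0 (congrArg Subtype.val e)) hQy
  rw [sub_polar] at hyy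
  exact ⟨y'.1, h, ⟨hQy, hy', hyy⟩, hy, y'.2⟩

/-- If every root group meets `H` in at least `z` elements, the Siegel parameters in `H` are many. -/
theorem wp_lower {v w : V} (h : Hyp Q v w) (H : Subgroup (quadIso Q)) {z : ℕ}
    (hz : ∀ y (hy : y ∈ perp Q v w), y ≠ 0 → Q y = 0 → z ≤ Nat.card (Zl Q v y H h.qv hy.1)) :
    (z - 1) * (Sing (Q.comp (perp Q v w).subtype)).ncard ≤ (Fintype.card F - 1) * (Nat.card (Wp Q h H) - 1) := by
  classical
  haveI : Finite V := finite_space F V
  set U := perp Q v w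
  haveI : Fintype U := Fintype.ofFinite _
  let S : Finset U := Finset.univ.filter fun y => y ≠ 0 ∧ Q y.1 = 0
  let good : U → Finset F := fun y => Finset.univ.filter fun c : F => c ≠ 0 ∧ eg Q v (c • y.1) ∈ H
  have hS : (Sing (Q.comp U.subtype)).ncard = S.card := by
    rw [← Set.ncard_coe_finset]
    congr 1
    ext y
    simp [S, Sing]
  have h1 : ∀ y ∈ S, z - 1 ≤ (good y).card := by
    intro y hy
    obtain ⟨hy0, hQy⟩ : y ≠ 0 ∧ Q y.1 = 0 := by simpa [S] using hy
    have := hz y.1 y.2 (fun e => hy0 (Subtype.ext e)) hQy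
    have e : (good y).card + 1 = Nat.card (Zl Q v y.1 H h.qv y.2.1) := by
      rw [Nat.card_eq_fintype_card, Fintype.card_subtype,
        ← Finset.card_erase_add_one (a := (0 : F)) (s := Finset.univ.filter fun c => c ∈ Zl Q v y.1 H h.qv y.2.1)
          (Finset.mem_filter.2 ⟨Finset.mem_univ _, AddSubgroup.zero_mem _⟩)]
      congr 2
      ext c
      simp only [good, Finset.mem_filter, Finset.mem_univ, true_and, Finset.mem_erase]
      rfl
    omega
  have h2 : (S.sigma good).card ≤ (Finset.univ.filter fun c : F => c ≠ 0).card * (Nat.card (Wp Q h H) - 1) := by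
    haveI : Fintype V := Fintype.ofFinite _
    have hW : ((Finset.univ.filter fun y : V => y ∈ Wp Q h H).erase 0).card = Nat.card (Wp Q h H) - 1 := by
      rw [Finset.card_erase_of_mem (Finset.mem_filter.2 ⟨Finset.mem_univ _, AddSubgroup.zero_mem _⟩),
        Nat.card_eq_fintype_card, Fintype.card_subtype]
    rw [← hW, ← Finset.card_product]
    refine Finset.card_le_card_of_injOn (fun p => (p.2, p.2 • p.1.1)) ?_ ?_
    · rintro ⟨y, c⟩ hp
      simp only [Finset.coe_sigma, Set.mem_sigma_iff, Finset.mem_coe, S, good, Finset.mem_filter, Finset.mem_univ,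
        true_and] at hp
      obtain ⟨⟨hy0, -⟩, hc, hm⟩ := hp
      simp only [Finset.coe_product, Set.mem_prod, Finset.mem_coe, Finset.mem_filter, Finset.mem_univ, true_and,
        Finset.mem_erase]
      exact ⟨hc, smul_ne_zero hc (fun e => hy0 (Subtype.ext e)), Submodule.smul_mem _ _ y.2, hm⟩
    · rintro ⟨y, c⟩ hp ⟨y', c'⟩ - e
      simp only [Finset.coe_sigma, Set.mem_sigma_iff, Finset.mem_coe, S, good, Finset.mem_filter, Finset.mem_univ,
        true_and] at hp
      simp only [Prod.mk.injEq] at e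
      obtain ⟨rfl, e⟩ := e
      rw [show y = y' from Subtype.ext (smul_right_injective _ hp.2.1 e)]
  have h3 : (Finset.univ.filter fun c : F => c ≠ 0).card = Fintype.card F - 1 := by
    rw [Finset.filter_ne', Finset.card_erase_of_mem (Finset.mem_univ _), Finset.card_univ]
  rw [h3, Finset.card_sigma] at h2
  rw [hS, mul_comm (z - 1)]
  refine le_trans ?_ h2
  simpa using Finset.card_nsmul_le_sum S _ _ h1

variable (hQ : (polarBilin Q).Nondegenerate)
include hQ

/-- A root group missing `H` exists. -/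
theorem exists_free (hn : 7 ≤ finrank F V) (H : Subgroup (quadIso Q)) (hH : ¬ Om Q ≤ H) :
    ∃ v x v' x', Fr Q v x v' x' ∧ Free Q v x H := by
  classical
  haveI : Finite V := finite_space F V
  set q := Fintype.card F
  have hq : 2 ≤ q := Fintype.one_lt_card
  -- some root group is not contained in `H`
  obtain ⟨v0, x0, v0', x0', h0, hz0⟩ : ∃ v x v' x', ∃ h : Fr Q v x v' x', Nat.card (Zl Q v x H h.h1.qv h.pol.1) < q := by
    by_contra hc
    push Not at hc
    refine hH (le_om_of_eg Q hQ (by omega) H fun u w hu huw hw => ?_)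
    by_cases hu0 : u = 0
    · rw [hu0, eg_zero_left]; exact one_mem _
    obtain ⟨u', hu', huu⟩ := exists_partner Q hQ hu0 hu
    have hh : Hyp Q u u' := ⟨hu, hu', huu⟩
    set y := proj Q u u' w with hy
    have hyw : eg Q u w = eg Q u y := by
      conv_lhs => rw [hh.decomp w, huw, zero_smul, add_zero]
      exact eg_shift hu ((mem_perp Q).1 (hh.proj_mem w)).1 _
    by_cases hy0 : y = 0
    · rw [hyw, hy0, eg_zero hu]; exact one_mem _
    have hQy : Q y = 0 := by
      have := (hh.parts (hh.proj_mem w) (polar Q u' w) (polar Q u w)).2.2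
      rw [← hh.decomp, hw, huw, mul_zero, add_zero] at this
      exact this.symm
    obtain ⟨y', hy'⟩ := exists_fr hQ hh (hh.proj_mem w) hy0 hQy
    have h2 := hc _ _ _ _ hy'
    have htop : Zl Q u y H hy'.h1.qv hy'.pol.1 = ⊤ := by
      refine AddSubgroup.eq_top_of_le_card _ ?_
      rw [Nat.card_eq_fintype_card (α := F)]
      exact h2
    have : (1 : F) ∈ Zl Q u y H hy'.h1.qv hy'.pol.1 := htop ▸ trivial
    have h3 : eg Q u ((1 : F) • y) ∈ H := this
    rw [one_smul] at h3
    rwa [hyw]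
  -- the smallest intersection
  obtain ⟨z, ⟨v, x, v', x', h, hz⟩, hmin⟩ : ∃ z, (∃ v x v' x', ∃ h : Fr Q v x v' x',
      Nat.card (Zl Q v x H h.h1.qv h.pol.1) = z) ∧
      ∀ v x v' x', ∀ h : Fr Q v x v' x', z ≤ Nat.card (Zl Q v x H h.h1.qv h.pol.1) := by
    have hex : ∃ z, ∃ v x v' x', ∃ h : Fr Q v x v' x', Nat.card (Zl Q v x H h.h1.qv h.pol.1) = z :=
      ⟨_, v0, x0, v0', x0', h0, rfl⟩
    exact ⟨Nat.find hex, Nat.find_spec hex, fun v x v' x' h => Nat.find_min' hex ⟨v, x, v', x', h, rfl⟩⟩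
  refine ⟨v, x, v', x', h, ?_⟩
  by_cases hb : Zl Q v x H h.h1.qv h.pol.1 = ⊥
  · exact free_of_zl _ _ hb
  exfalso
  have hzq : z < q := lt_of_le_of_lt (hmin _ _ _ _ h0) hz0
  have hz2 : 2 ≤ z := by
    rw [← hz]
    by_contra hc
    exact hb (AddSubgroup.eq_bot_of_card_le _ (by omega))
  have hq4 : 4 ≤ q := by
    have hd := AddSubgroup.card_addSubgroup_dvd_card (Zl Q v x H h.h1.qv h.pol.1)
    rw [hz, show Nat.card F = q from Nat.card_eq_fintype_card] at hd
    obtain ⟨k, hk⟩ := hd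
    rcases k with - | - | k
    · omega
    · omega
    · rw [hk]
      calc 4 = 2 * 2 := rfl
        _ ≤ z * (k + 2) := Nat.mul_le_mul hz2 (by omega)
  set M := Mid Q v x v' x'
  have hM := h.finrank_mid
  set e := finrank F M with he
  have hP1 := h.h1.finrank_perp
  -- lower bounds
  have low : ∀ {a a' : V} (ha : Hyp Q a a'), (∀ y, y ∈ perp Q a a' → y ≠ 0 → Q y = 0 → ∃ y', Fr Q a y a' y') →
      (z - 1) * (q ^ e + 1) + 1 ≤ Nat.card (Wp Q ha H) := by
    intro a a' ha hfr
    have h1 := wp_lower ha H (z := z) fun y hy hy0 hQy => by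
      obtain ⟨y', hy'⟩ := hfr y hy hy0 hQy
      exact hmin _ _ _ _ hy'
    have hd := ha.finrank_perp
    have h2 := sing_lower (perp_nondeg Q hQ ha.qv ha.qw ha.vw) (show 3 ≤ finrank F (perp Q a a') by omega)
    rw [show finrank F (perp Q a a') - 2 = e by omega] at h2
    have h3 := (Nat.mul_le_mul_left (z - 1) h2).trans h1
    rw [← mul_assoc, mul_comm (z - 1), mul_assoc] at h3
    have h4 : (z - 1) * (q ^ e + 1) ≤ Nat.card (Wp Q ha H) - 1 := Nat.le_of_mul_le_mul_left h3 (show 0 < q - 1 by omega)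
    have h5 : 0 < Nat.card (Wp Q ha H) := Nat.card_pos
    omega
  have lv := low h.h1 fun y hy hy0 hQy => exists_fr hQ h.h1 hy hy0 hQy
  have lx := low h.h2 fun y hy hy0 hQy => exists_fr hQ h.h2 hy hy0 hQy
  -- upper bounds through a character
  obtain ⟨c0, hc0⟩ : ∃ c, c ∉ Zl Q v x H h.h1.qv h.pol.1 := by
    by_contra hc
    push Not at hc
    have : Zl Q v x H h.h1.qv h.pol.1 = ⊤ := eq_top_iff.2 fun c _ => hc c
    rw [this, AddSubgroup.card_top, Nat.card_eq_fintype_card] at hz
    omega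
  set Z := Zl Q v x H h.h1.qv h.pol.1 with hZ
  obtain ⟨φ, hφ⟩ := AddChar.exists_apply_ne_zero.2 (fun hh => hc0 ((QuotientAddGroup.eq_zero_iff c0).1 hh) :
    (QuotientAddGroup.mk' Z c0) ≠ 0)
  let ψ : AddChar F ℂ := φ.compAddMonoidHom (QuotientAddGroup.mk' Z)
  have hψ : ψ ≠ 0 := AddChar.ne_zero_iff.2 ⟨c0, hφ⟩
  let φv : Wp Q h.h1 H →+ F := AddMonoidHom.mk' (fun y => polar Q x y.1) fun a b => polar_add_right Q x a.1 b.1
  let φx : Wp Q h.h2 H →+ F := AddMonoidHom.mk' (fun y => polar Q v y.1) fun a b => polar_add_right Q v a.1 b.1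
  have p1 : ∀ y : φv.ker, proj Q x x' y.1.1 ∈ M := fun y => by
    refine ⟨?_, h.h2.proj_mem _⟩
    show proj Q x x' y.1.1 ∈ perp Q v v'
    exact sub_mem (sub_mem y.1.2.1 (Submodule.smul_mem _ _ h.hx)) (Submodule.smul_mem _ _ h.hx')
  have p2 : ∀ y : φx.ker, proj Q v v' y.1.1 ∈ M := fun y => by
    refine ⟨h.h1.proj_mem _, ?_⟩
    show proj Q v v' y.1.1 ∈ perp Q x x'
    exact sub_mem (sub_mem y.1.2.1 (Submodule.smul_mem _ _ h.symm.hx)) (Submodule.smul_mem _ _ h.symm.hx')
  let π1 : φv.ker →+ M := AddMonoidHom.mk' (fun y => ⟨proj Q x x' y.1.1, p1 y⟩) fun a b =>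
    Subtype.ext (proj_add x x' a.1.1 b.1.1)
  let π2 : φx.ker →+ M := AddMonoidHom.mk' (fun y => ⟨proj Q v v' y.1.1, p2 y⟩) fun a b =>
    Subtype.ext (proj_add v v' a.1.1 b.1.1)
  have bound : ∀ {a : V} {W : AddSubgroup V} (φ : W →+ F) (π : φ.ker →+ M),
      (∀ y : φ.ker, π y = 0 → ∃ t : F, y.1.1 = t • a) → a ≠ 0 → (∀ t : F, t • a ∈ W → t ∈ Z) →
      Nat.card W ≤ q * (z * Nat.card π.range) := by
    intro a W φ π hker ha hmem
    rw [← φ.ker.card_mul_index, AddSubgroup.index_ker, mul_comm]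
    refine Nat.mul_le_mul ?_ ?_
    · exact (AddSubgroup.card_le_card_addGroup _).trans (le_of_eq Nat.card_eq_fintype_card)
    · rw [← π.ker.card_mul_index, AddSubgroup.index_ker, ← hz]
      refine Nat.mul_le_mul_right _ ?_
      choose f hf using fun y : π.ker => hker y.1 y.2
      refine Nat.card_le_card_of_injective (fun y => (⟨f y, hmem _ (by rw [← hf y]; exact y.1.1.2)⟩ : Z))
        fun y y' e => ?_
      have e' : f y = f y' := congrArg Subtype.val e
      exact Subtype.ext (Subtype.ext (Subtype.ext (by rw [hf y, hf y', e'])))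
  have hswap : ∀ t : F, eg Q x (t • v) = eg Q v (-t • x) := fun t => by
    have hv' : Q (-t • v) = 0 := by rw [QuadraticMap.map_smul, h.h1.qv, smul_zero]
    have := eg_swap (e := -t • v) hv' h.h2.qv (by rw [polar_smul_left, h.pol.1, smul_zero])
    rw [neg_smul, neg_neg, ← neg_smul, eg_smul_left h.h1.qv h.pol.1] at this
    exact this
  have b1 := bound φv π1 (a := x) (fun y hy => by
    refine ⟨polar Q x' y.1.1, ?_⟩
    have hp : proj Q x x' y.1.1 = 0 := congrArg Subtype.val hy
    conv_lhs => rw [h.h2.decomp y.1.1, hp, show polar Q x y.1.1 = 0 from y.2, zero_smul, add_zero, zero_add]) h.h2.ne_left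
    (fun t ht => ht.2)
  have b2 := bound φx π2 (a := v) (fun y hy => by
    refine ⟨polar Q v' y.1.1, ?_⟩
    have hp : proj Q v v' y.1.1 = 0 := congrArg Subtype.val hy
    conv_lhs => rw [h.h1.decomp y.1.1, hp, show polar Q v y.1.1 = 0 from y.2, zero_smul, add_zero, zero_add]) h.h1.ne_left
    (fun t ht => by
      have h3 : eg Q x (t • v) ∈ H := ht.2
      rw [hswap] at h3
      exact (AddSubgroup.neg_mem_iff _).1 (show -t ∈ Z from h3))
  have hpair : ∀ a ∈ π1.range, ∀ b ∈ π2.range, ψ (polar (Q.comp M.subtype) a b) = 1 := by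
    rintro _ ⟨y, rfl⟩ _ ⟨y', rfl⟩
    rw [sub_polar]
    show ψ (polar Q (proj Q x x' y.1.1) (proj Q v v' y'.1.1)) = 1
    set α := proj Q x x' y.1.1 with hα
    set β := proj Q v v' y'.1.1 with hβ
    have m1 : uel Q v x α 0 (polar Q x' y.1.1) ∈ H := by
      have e : y.1.1 = α + polar Q x' y.1.1 • x := by
        conv_lhs => rw [h.h2.decomp y.1.1, show polar Q x y.1.1 = 0 from y.2, zero_smul, add_zero]
      rw [uel, eg_zero h.h2.qv, mul_one, ← e]
      exact y.1.2.2
    have m2 : uel Q v x 0 β (-polar Q v' y'.1.1) ∈ H := by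
      have e : y'.1.1 = β + polar Q v' y'.1.1 • v := by
        conv_lhs => rw [h.h1.decomp y'.1.1, show polar Q v y'.1.1 = 0 from y'.2, zero_smul, add_zero]
      have hm : eg Q x y'.1.1 ∈ H := y'.1.2.2
      rw [e, add_comm, eg_add h.h2.qv (by rw [polar_smul_right, h.pol.2.2.1, smul_zero])
        (mid4 (p2 y')).2.2.1, hswap] at hm
      rw [uel, zero_add]
      exact hm
    have e1 := uel_mul h (p1 y) (zero_mem _) (zero_mem _) (p2 y') (polar Q x' y.1.1) (-polar Q v' y'.1.1)
    have e2 := uel_mul h (zero_mem _) (p2 y') (p1 y) (zero_mem _) (-polar Q v' y'.1.1) (polar Q x' y.1.1)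
    have m3 := mul_mem (mul_mem m1 m2) (inv_mem (mul_mem m2 m1))
    rw [e1, e2, add_zero, zero_add, add_zero, zero_add, polar_zero_right, sub_zero] at m3
    have e3 : uel Q v x α β (polar Q x' y.1.1 + -polar Q v' y'.1.1) =
        uel Q v x 0 0 (polar Q β α) * uel Q v x α β (-polar Q v' y'.1.1 + polar Q x' y.1.1 - polar Q β α) := by
      rw [uel_mul h (zero_mem _) (zero_mem _) (p1 y) (p2 y'), polar_zero_left, zero_add, zero_add]
      congr 1
      ring
    rw [e3, mul_inv_cancel_right, uel_r h] at m3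
    have hZm : polar Q β α ∈ Z := m3
    show φ (QuotientAddGroup.mk' Z (polar Q α β)) = 1
    rw [show QuotientAddGroup.mk' Z (polar Q α β) = 0 from
      (QuotientAddGroup.eq_zero_iff _).2 (by rw [pol_symm]; exact hZm), AddChar.map_zero_eq_one]
  have hann := ann_bound (h.mid_nondeg hQ) hψ π1.range π2.range hpair
  rw [Module.natCard_eq_pow_finrank (K := F) (V := M), Nat.card_eq_fintype_card (α := F), ← he] at hann
  -- arithmetic
  have hprod : Nat.card (Wp Q h.h1 H) * Nat.card (Wp Q h.h2 H) ≤ q ^ 2 * z ^ 2 * q ^ e := by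
    calc _ ≤ (q * (z * Nat.card π1.range)) * (q * (z * Nat.card π2.range)) := Nat.mul_le_mul b1 b2
      _ = q ^ 2 * z ^ 2 * (Nat.card π1.range * Nat.card π2.range) := by ring
      _ ≤ _ := Nat.mul_le_mul_left _ hann
  have hlow : ((z - 1) * q ^ e + 1) * ((z - 1) * q ^ e + 1) ≤ q ^ 2 * z ^ 2 * q ^ e :=
    le_trans (Nat.mul_le_mul (le_trans (Nat.add_le_add_right (Nat.mul_le_mul_left _ (Nat.le_succ _)) 1) lv)
      (le_trans (Nat.add_le_add_right (Nat.mul_le_mul_left _ (Nat.le_succ _)) 1) lx)) hprod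
  obtain ⟨k, hk⟩ : ∃ k, e = k + 3 := ⟨e - 3, by omega⟩
  have hk1 : 4 * q ^ 2 ≤ q ^ e := by
    rw [hk, show k + 3 = 2 + (k + 1) by omega, pow_add, mul_comm]
    refine Nat.mul_le_mul_left _ (hq4.trans ?_)
    exact Nat.le_self_pow (by omega) q
  have hz4 : z ^ 2 ≤ 4 * ((z - 1) * (z - 1)) := by
    calc z ^ 2 = z * z := sq z
      _ ≤ (2 * (z - 1)) * (2 * (z - 1)) := Nat.mul_le_mul (by omega) (by omega)
      _ = _ := by ring
  have h1 : q ^ 2 * z ^ 2 ≤ ((z - 1) * (z - 1)) * q ^ e := by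
    calc q ^ 2 * z ^ 2 ≤ q ^ 2 * (4 * ((z - 1) * (z - 1))) := Nat.mul_le_mul_left _ hz4
      _ = ((z - 1) * (z - 1)) * (4 * q ^ 2) := by ring
      _ ≤ _ := Nat.mul_le_mul_left _ hk1
  have h2 := Nat.mul_le_mul_right (q ^ e) h1
  nlinarith [h2, hlow, Nat.zero_le ((z - 1) * q ^ e)]

end CfsgLib.OmegaMin
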