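import Mathlib
import Cfsg.Agent.Lib.OmegaMin.Count
import Cfsg.Agent.Lib.StdQuadForms

/-! Level counts of the standard forms. -/

set_option autoImplicit false

namespace CfsgLib.OmegaMin

open QuadraticMap

variable {F : Type*} [Field F] [Fintype F]

theorem cnt_plus_ne (m : ℕ) {c : F} (hc : c ≠ 0) :
    (cnt (Lagrangian.Qp m F) c : ℤ) =
      ((Fintype.card F : ℤ) ^ m - 1) * (Fintype.card F : ℤ) ^ m / (Fintype.card F : ℤ) := by
  classical
  have h := QuadCount.card_zeros (F := F) (fun _ : Unit => -c) m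
  have e : {p : (Fin m ⊕ Fin m → F) × Unit //
      (∑ i, p.1 (.inl i) * p.1 (.inr i)) + (fun _ : Unit => -c) p.2 = 0} ≃
      {v : Fin m ⊕ Fin m → F // Lagrangian.Qp m F v = c} :=
    (Equiv.prodPUnit _).subtypeEquiv fun p => by
      rw [Lagrangian.Qp_apply]; simp [Cfsg.quadFormPlus, add_neg_eq_zero]
  rw [Nat.card_congr e] at h
  haveI : IsEmpty {d : Unit // (fun _ : Unit => -c) d = 0} := ⟨fun d => hc (neg_eq_zero.1 d.2)⟩
  rw [Nat.card_of_isEmpty (α := {d : Unit // (fun _ : Unit => -c) d = 0}), Fintype.card_unit] at h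
  rw [cnt, h]
  simp

theorem cnt_odd (m : ℕ) (c : F) :
    (cnt (StdQuadForms.Qo (F := F) m) c : ℤ) =
      (Fintype.card F : ℤ) ^ m * Nat.card {d : Unit → F // d () ^ 2 = c} +
        ((Fintype.card F : ℤ) ^ m - 1) * (Fintype.card F : ℤ) ^ m := by
  classical
  have hq : (Fintype.card F : ℤ) ≠ 0 := by exact_mod_cast Fintype.card_ne_zero
  have h := QuadCount.card_zeros (F := F) (fun d : Unit → F => d () ^ 2 - c) m
  have e : {p : (Fin m ⊕ Fin m → F) × (Unit → F) //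
      (∑ i, p.1 (.inl i) * p.1 (.inr i)) + (fun d : Unit → F => d () ^ 2 - c) p.2 = 0} ≃
      {v : Unit ⊕ (Fin m ⊕ Fin m) → F // StdQuadForms.Qo m v = c} :=
    ((Equiv.prodComm _ _).trans (Equiv.sumArrowEquivProdArrow _ _ _).symm).subtypeEquiv fun p => by
      rw [StdQuadForms.Qo_apply, ← sub_eq_zero (b := c)]
      simp [Cfsg.quadFormOdd, Equiv.sumArrowEquivProdArrow]
      ring_nf
  rw [Nat.card_congr e, Nat.card_congr (Equiv.subtypeEquivRight fun d : Unit → F => sub_eq_zero (a := d () ^ 2) (b := c)),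
    Fintype.card_fun, Fintype.card_unit, pow_one, Int.mul_ediv_cancel _ hq] at h
  exact h

theorem cnt_minus (m : ℕ) (a b c : F) :
    (cnt (StdQuadForms.Qm m a b) c : ℤ) =
      (Fintype.card F : ℤ) ^ m * Nat.card {d : Fin 2 → F // d 0 ^ 2 + a * d 0 * d 1 + b * d 1 ^ 2 = c} +
        ((Fintype.card F : ℤ) ^ m - 1) * (Fintype.card F : ℤ) ^ m * (Fintype.card F : ℤ) := by
  classical
  have hq : (Fintype.card F : ℤ) ≠ 0 := by exact_mod_cast Fintype.card_ne_zero
  have h := QuadCount.card_zeros (F := F) (fun d : Fin 2 → F => d 0 ^ 2 + a * d 0 * d 1 + b * d 1 ^ 2 - c) m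
  have e : {p : (Fin m ⊕ Fin m → F) × (Fin 2 → F) //
      (∑ i, p.1 (.inl i) * p.1 (.inr i)) + (fun d : Fin 2 → F => d 0 ^ 2 + a * d 0 * d 1 + b * d 1 ^ 2 - c) p.2 = 0} ≃
      {v : (Fin m ⊕ Fin m) ⊕ Fin 2 → F // StdQuadForms.Qm m a b v = c} :=
    (Equiv.sumArrowEquivProdArrow _ _ _).symm.subtypeEquiv fun p => by
      rw [StdQuadForms.Qm_apply, ← sub_eq_zero (b := c)]
      simp [Cfsg.quadFormMinus, Equiv.sumArrowEquivProdArrow]
      ring_nf
  rw [Nat.card_congr e,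
    Nat.card_congr (Equiv.subtypeEquivRight fun d : Fin 2 → F =>
      sub_eq_zero (a := d 0 ^ 2 + a * d 0 * d 1 + b * d 1 ^ 2) (b := c)),
    Fintype.card_fun, Fintype.card_fin] at h
  push_cast at h
  rw [pow_two (Fintype.card F : ℤ), ← mul_assoc, Int.mul_ediv_cancel _ hq] at h
  exact h

end CfsgLib.OmegaMin
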