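import Mathlib
import Cfsg.Agent.Lib.OmegaMin.Free

/-! A free line forces a small point or a special configuration. -/

set_option autoImplicit false
set_option maxHeartbeats 1000000

namespace CfsgLib.OmegaMin

open QuadraticMap CfsgLib.WittExtension Module CfsgLib.SpinorNorm CfsgLib.Eichler CfsgLib.OmegaSimple

universe uF uV

variable {F : Type uF} {V : Type uV} [Field F] [AddCommGroup V] [Module F V] {Q : QuadraticForm F V} {v x v' x' : V}

/-- The Siegel parameters of the point `v` in `H` meet the orthogonal of `x` trivially. -/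
def SmallPt (h : Hyp Q v v') (x : V) (H : Subgroup (quadIso Q)) : Prop := ∀ y ∈ Wp Q h H, polar Q x y = 0 → y = 0

/-- The image spans the double of a totally singular plane. -/
def Special (h : Fr Q v x v' x') (H : Subgroup (quadIso Q)) : Prop :=
  ∃ A : Submodule F V, A ≤ Mid Q v x v' x' ∧ (∀ a ∈ A, Q a = 0) ∧ finrank F A = 2 ∧
    finrank F (Mid Q v x v' x') = 4 ∧ Submodule.span F (Wl h H : Set (V × V)) = A.prod A

theorem eg_frame (h : Fr Q v x v' x') {u y : V} (hu : Q u = 0) (huy : polar Q u y = 0)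
    (hu' : u ∈ Mid Q v x v' x') (hy : y ∈ Mid Q v x v' x') :
    (eg Q u y).1 v = v ∧ (eg Q u y).1 x = x ∧ (eg Q u y).1 v' = v' ∧ (eg Q u y).1 x' = x' := by
  have h' := h
  obtain ⟨a1, a2, a3, a4, a5, a6, a7, a8⟩ := mid4 hu'
  obtain ⟨b1, b2, b3, b4, b5, b6, b7, b8⟩ := mid4 hy
  exact ⟨eg_fix hu huy a5 b5, eg_fix hu huy a7 b7, eg_fix hu huy a6 b6, eg_fix hu huy a8 b8⟩

variable [Fintype F] [FiniteDimensional F V]

/-- A singular vector not orthogonal to a given one, with a nonsingular vector orthogonal to it. -/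
theorem exists_test {W : Type*} [AddCommGroup W] [Module F W] [FiniteDimensional F W] {R : QuadraticForm F W}
    (hR : (polarBilin R).Nondegenerate) (hn : 3 ≤ finrank F W) {γ : W} (hγ : γ ≠ 0) :
    ∃ u y : W, R u = 0 ∧ polar R u y = 0 ∧ polar R u γ ≠ 0 ∧ R y ≠ 0 := by
  obtain ⟨u, u', hh⟩ := exists_hyp hR hn
  have hd := hh.finrank_perp
  obtain ⟨⟨y0, hy0⟩, hQy0⟩ := exists_nonzero_value _ (perp_nondeg R hR hh.qv hh.qw hh.vw)
    (show 0 < finrank F (perp R u u') by omega)
  obtain ⟨e1, e2⟩ := (mem_perp R).1 hy0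
  by_cases h1 : polar R u γ = 0
  swap
  · exact ⟨u, y0, hh.qv, e1, h1, hQy0⟩
  by_cases h2 : polar R u' γ = 0
  swap
  · exact ⟨u', y0, hh.qw, e2, h2, hQy0⟩
  obtain ⟨⟨a, ha⟩, hag⟩ : ∃ a : perp R u u', polar R a.1 γ ≠ 0 := by
    by_contra hc
    push Not at hc
    refine hγ (hR.1 γ fun z => ?_)
    show polar R γ z = 0
    rw [hh.decomp z]
    simp only [polar_add_right, polar_smul_right, pol_symm R γ u, pol_symm R γ u', h1, h2,
      pol_symm R γ (proj R u u' z), hc ⟨_, hh.proj_mem z⟩, smul_zero, add_zero]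
  refine ⟨a + (-R a) • u + (1 : F) • u', y0 + (-polar R (a + (-R a) • u + (1 : F) • u') y0) • u, ?_, ?_, ?_, ?_⟩
  · rw [(hh.parts ha _ _).2.2]; ring
  · obtain ⟨p1, p2⟩ := (mem_perp R).1 ha
    simp only [polar_add_left, polar_smul_left, polar_add_right, polar_smul_right, pol_sing R hh.qv, hh.wv,
      pol_symm R a u, p1, smul_eq_mul]
    ring
  · simpa [polar_add_left, polar_smul_left, h1, h2] using hag
  · rw [QuadraticMap.map_add R y0, QuadraticMap.map_smul, hh.qv, polar_smul_right, pol_symm R y0 u, e1]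
    simpa using hQy0

/-- No proper nonzero subspace is invariant under the Eichler elements. -/
theorem irreducible {W : Type*} [AddCommGroup W] [Module F W] [FiniteDimensional F W] {R : QuadraticForm F W}
    (hR : (polarBilin R).Nondegenerate) (hn : 3 ≤ finrank F W) (A : Submodule F W) (hA : A ≠ ⊥)
    (hinv : ∀ u y, R u = 0 → polar R u y = 0 → ∀ a ∈ A, (eg R u y).1 a ∈ A) : A = ⊤ := by
  obtain ⟨a, ha, ha0⟩ := (Submodule.ne_bot_iff _).1 hA
  have key : ∀ {u a : W}, R u = 0 → polar R u a ≠ 0 → a ∈ A → u ∈ A ∧ ∀ y, polar R u y = 0 → y ∈ A := by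
    intro u a hu hua ha
    have hu0 : u ≠ 0 := fun e => hua (by rw [e, polar_zero_left])
    obtain ⟨u', hu', huu⟩ := exists_partner R hR hu0 hu
    have hh : Hyp R u u' := ⟨hu, hu', huu⟩
    have hd := hh.finrank_perp
    obtain ⟨y, z, hyz⟩ := exists_polar_one _ (perp_nondeg R hR hu hu' huu)
      (show 0 < finrank F (perp R u u') by omega)
    rw [sub_polar] at hyz
    have D : ∀ y, polar R u y = 0 →
        polar R u a • y + (-(polar R y a) - R y * polar R u a) • u ∈ A := fun y hy => by
      have := sub_mem (hinv u y hu hy a ha) ha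
      rwa [eg_app hu hy, add_sub_cancel_left] at this
    have hy1 : polar R u y.1 = 0 := ((mem_perp R).1 y.2).1
    have hz1 : polar R u z.1 = 0 := ((mem_perp R).1 z.2).1
    have h3 := sub_mem (sub_mem (D _ (show polar R u (y.1 + z.1) = 0 by rw [polar_add_right, hy1, hz1, add_zero]))
      (D _ hy1)) (D _ hz1)
    have e : polar R u a • (y.1 + z.1) + (-(polar R (y.1 + z.1) a) - R (y.1 + z.1) * polar R u a) • u -
        (polar R u a • y.1 + (-(polar R y.1 a) - R y.1 * polar R u a) • u) -
        (polar R u a • z.1 + (-(polar R z.1 a) - R z.1 * polar R u a) • u) = (-polar R u a) • u := by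
      rw [QuadraticMap.map_add R y.1, hyz, polar_add_left]
      module
    rw [e] at h3
    have hu_mem : u ∈ A := (Submodule.smul_mem_iff _ (neg_ne_zero.2 hua)).1 h3
    refine ⟨hu_mem, fun w hw => ?_⟩
    have := sub_mem (D w hw) (Submodule.smul_mem A (-(polar R w a) - R w * polar R u a) hu_mem)
    rw [add_sub_cancel_right] at this
    exact (Submodule.smul_mem_iff _ hua).1 this
  obtain ⟨u, -, hu, -, hua, -⟩ := exists_test hR hn ha0
  obtain ⟨hum, huperp⟩ := key hu hua ha
  have hu0 : u ≠ 0 := fun e => hua (by rw [e, polar_zero_left])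
  obtain ⟨u', hu', huu⟩ := exists_partner R hR hu0 hu
  obtain ⟨hum', -⟩ := key hu' (by rw [pol_symm, huu]; exact one_ne_zero) hum
  refine eq_top_iff.2 fun w _ => ?_
  have hh : Hyp R u u' := ⟨hu, hu', huu⟩
  rw [hh.decomp w]
  exact add_mem (add_mem (huperp _ ((mem_perp R).1 (hh.proj_mem w)).1) (Submodule.smul_mem _ _ hum))
    (Submodule.smul_mem _ _ hum')

variable (hQ : (polarBilin Q).Nondegenerate) (hn : 7 ≤ finrank F V)
include hQ hn

theorem ul_le (h : Fr Q v x v' x') : UL h ≤ Om Q := by
  rintro g ⟨α, hα, β, hβ, t, rfl⟩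
  obtain ⟨a1, a2, -⟩ := uel_ok h hα hβ t
  exact mul_mem (eg_mem Q hQ (by omega) h.h1.qv a1) (eg_mem Q hQ (by omega) h.h2.qv a2)

/-- A subspace of the middle moved by some element fixing the frame. -/
theorem exists_mover (h : Fr Q v x v' x') {A : Submodule F V} (hA : A ≤ Mid Q v x v' x') (h0 : A ≠ ⊥)
    (h1 : A ≠ Mid Q v x v' x') : ∃ g ∈ Om Q, g.1 v = v ∧ g.1 x = x ∧ g.1 v' = v' ∧ g.1 x' = x' ∧
      A.map (g.1 : V →ₗ[F] V) ≠ A := by
  by_contra hc
  push Not at hc
  set M := Mid Q v x v' x'
  have hM : finrank F M + 4 = finrank F V := h.finrank_mid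
  have hnd := h.mid_nondeg hQ
  refine h1 (le_antisymm hA ?_)
  have htop := irreducible hnd (show 3 ≤ finrank F M by omega) (A.comap M.subtype) ?_ ?_
  · intro y hy
    have : (⟨y, hy⟩ : M) ∈ A.comap M.subtype := by rw [htop]; trivial
    exact this
  · obtain ⟨a, ha, ha0⟩ := (Submodule.ne_bot_iff _).1 h0
    exact (Submodule.ne_bot_iff _).2 ⟨⟨a, hA ha⟩, ha, fun e => ha0 (congrArg Subtype.val e)⟩
  · intro u y hu huy a ha
    rw [sub_polar] at huy
    obtain ⟨f1, f2, f3, f4⟩ := eg_frame h (show Q u.1 = 0 from hu) huy u.2 y.2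
    have hm := hc _ (eg_mem Q hQ (by omega) (show Q u.1 = 0 from hu) huy) f1 f2 f3 f4
    show ((eg (Q.comp M.subtype) u y).1 a).1 ∈ A
    rw [eg_app (show (Q.comp M.subtype) u = 0 from hu) (by rw [sub_polar]; exact huy), sub_polar, sub_polar,
      show (Q.comp M.subtype) y = Q y.1 from rfl]
    have : (eg Q u.1 y.1).1 a.1 ∈ A := hm ▸ ⟨a.1, ha, rfl⟩
    rw [eg_app (show Q u.1 = 0 from hu) huy] at this
    exact this

omit hn in
/-- An isotropic subspace of the double is at most half of it. -/
theorem lam_dim (h : Fr Q v x v' x') (Λ : Submodule F (V × V))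
    (hΛ : Λ ≤ (Mid Q v x v' x').prod (Mid Q v x v' x'))
    (hiso : ∀ p ∈ Λ, ∀ p' ∈ Λ, polar Q p.2 p'.1 = polar Q p'.2 p.1) :
    finrank F Λ ≤ finrank F (Mid Q v x v' x') := by
  set M := Mid Q v x v' x'
  let em : (M × M) →ₗ[F] V × V := LinearMap.prodMap M.subtype M.subtype
  have hem : Function.Injective em := fun a b e =>
    Prod.ext (Subtype.ext (congrArg Prod.fst e)) (Subtype.ext (congrArg Prod.snd e))
  have hrange : Λ ≤ LinearMap.range em := fun p hp => ⟨(⟨p.1, (hΛ hp).1⟩, ⟨p.2, (hΛ hp).2⟩), rfl⟩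
  let L := Λ.comap em
  have hL : finrank F L = finrank F Λ := by
    rw [← Submodule.map_comap_eq_self hrange]
    exact (Submodule.equivMapOfInjective em hem L).finrank_eq
  let Φ : (M × M) →ₗ[F] Module.Dual F (M × M) :=
    LinearMap.mk₂ F (fun p p' => polar Q p.2.1 p'.1.1 - polar Q p'.2.1 p.1.1)
      (fun a b c => by simp only [Prod.fst_add, Prod.snd_add, Submodule.coe_add, polar_add_left, polar_add_right]; ring)
      (fun r a c => by
        simp only [Prod.smul_fst, Prod.smul_snd, Submodule.coe_smul, polar_smul_left, polar_smul_right, smul_eq_mul]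
        ring)
      (fun a b c => by simp only [Prod.fst_add, Prod.snd_add, Submodule.coe_add, polar_add_left, polar_add_right]; ring)
      (fun r a c => by
        simp only [Prod.smul_fst, Prod.smul_snd, Submodule.coe_smul, polar_smul_left, polar_smul_right, smul_eq_mul]
        ring)
  have hnd := h.mid_nondeg hQ
  have hΦ : Function.Injective Φ := by
    rw [injective_iff_map_eq_zero]
    intro p hp
    refine Prod.ext (hnd.1 p.1 fun w => ?_) (hnd.1 p.2 fun w => ?_)
    · have := LinearMap.congr_fun hp ((0 : M), w)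
      show polar _ p.1 w = 0
      rw [sub_polar, pol_symm]
      simpa [Φ] using this
    · have := LinearMap.congr_fun hp (w, (0 : M))
      show polar _ p.2 w = 0
      rw [sub_polar]
      simpa [Φ] using this
  have hann : L.map Φ ≤ L.dualAnnihilator := by
    rintro _ ⟨p, hp, rfl⟩
    rw [Submodule.mem_dualAnnihilator]
    intro p' hp'
    show polar Q p.2.1 p'.1.1 - polar Q p'.2.1 p.1.1 = 0
    exact sub_eq_zero.2 (hiso _ hp _ hp')
  have h1 := Submodule.finrank_mono hann
  rw [(Submodule.equivMapOfInjective Φ hΦ L).symm.finrank_eq] at h1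
  have h2 := Subspace.finrank_add_finrank_dualAnnihilator_eq L
  rw [Module.finrank_prod] at h2
  omega

/-- Orbits of isotropic subspaces of the middle. -/
theorem plane_orbit (h : Fr Q v x v' x') {A : Submodule F V} (hA : A ≤ Mid Q v x v' x')
    (hiso : ∀ a ∈ A, ∀ b ∈ A, polar Q a b = 0) (hj : 2 * finrank F A = finrank F (Mid Q v x v' x')) :
    (∃ (ι : Type uV) (gs : ι → quadIso Q), Finite ι ∧ 2 * Fintype.card F ≤ Nat.card ι ∧
      (∀ i, gs i ∈ Om Q ∧ (gs i).1 v = v ∧ (gs i).1 x = x ∧ (gs i).1 v' = v' ∧ (gs i).1 x' = x') ∧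
      ∀ i j, A.map ((gs i).1 : V →ₗ[F] V) = A.map ((gs j).1 : V →ₗ[F] V) → i = j) ∨
    ((∀ a ∈ A, Q a = 0) ∧ finrank F A = 2) := by
  classical
  haveI : Finite V := finite_space F V
  set q := Fintype.card F with hq'
  have hq : 2 ≤ q := Fintype.one_lt_card
  set M := Mid Q v x v' x'
  have hM : finrank F M + 4 = finrank F V := h.finrank_mid
  have hnd := h.mid_nondeg hQ
  by_cases hgood : (∀ a ∈ A, Q a = 0) ∧ finrank F A = 2
  · exact Or.inr hgood
  left
  have hA2 : 2 ≤ finrank F A := by omega
  -- a vector `b` of `A` with a partner `u`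
  obtain ⟨b, hbA, hb0, hbs⟩ : ∃ b ∈ A, b ≠ 0 ∧
      (finrank F A = 2 → Q b = 0 ∧ ∀ a ∈ A, Q a = 0 → ∃ c : F, a = c • b) := by
    by_cases h2 : finrank F A = 2
    swap
    · have : A ≠ ⊥ := fun e => by rw [e, finrank_bot] at hA2; omega
      obtain ⟨b, hb, hb0⟩ := (Submodule.ne_bot_iff _).1 this
      exact ⟨b, hb, hb0, fun e => absurd e h2⟩
    push Not at hgood
    obtain ⟨a, haA, hQa⟩ : ∃ a ∈ A, Q a ≠ 0 := by
      by_contra hc
      push Not at hc
      exact hgood hc h2
    have ha0 : a ≠ 0 := fun e => hQa (by rw [e, QuadraticMap.map_zero])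
    have h20 : (2 : F) = 0 := by
      by_contra hh
      have := hiso a haA a haA
      rw [ReflectionGen.pol_self] at this
      exact hQa ((mul_eq_zero.1 this).resolve_left hh)
    obtain ⟨c, hcA, hca⟩ : ∃ c ∈ A, c ∉ Submodule.span F {a} := by
      by_contra hc
      push Not at hc
      have := Submodule.finrank_mono (show A ≤ Submodule.span F {a} from hc)
      rw [finrank_span_singleton ha0] at this
      omega
    obtain ⟨t, ht⟩ := FiniteForms.sqrt_charTwo h20 (-(Q c) / Q a)
    set b := c + t • a with hb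
    have hQb : Q b = 0 := by
      rw [hb, QuadraticMap.map_add Q c, QuadraticMap.map_smul, polar_smul_right, hiso c hcA a haA, smul_eq_mul,
        ← ht, div_mul_cancel₀ _ hQa]
      simp
    have hb0 : b ≠ 0 := fun e => hca (Submodule.mem_span_singleton.2 ⟨-t, by
      rw [neg_smul, ← eq_neg_of_add_eq_zero_left (hb ▸ e)]⟩)
    have hbA : b ∈ A := add_mem hcA (Submodule.smul_mem _ _ haA)
    refine ⟨b, hbA, hb0, fun _ => ⟨hQb, fun y hyA hQy => ?_⟩⟩
    have hsp : A = Submodule.span F {b, a} := by
      refine (Submodule.eq_of_le_of_finrank_le (Submodule.span_le.2 ?_) ?_).symm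
      · rintro z (rfl | rfl)
        · exact hbA
        · exact haA
      · rw [h2]
        have hli : LinearIndependent F ![b, a] := (LinearIndependent.pair_iff' hb0).2 fun r hr => by
          have := congrArg Q hr
          rw [QuadraticMap.map_smul, hQb, smul_zero] at this
          exact hQa this.symm
        have := finrank_span_eq_card hli
        rw [Matrix.range_cons, Matrix.range_cons, Matrix.range_empty, Set.union_empty, Set.singleton_union,
          Fintype.card_fin] at this
        omega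
    rw [hsp, Submodule.mem_span_pair] at hyA
    obtain ⟨r, s, rfl⟩ := hyA
    rw [QuadraticMap.map_add Q (r • b), QuadraticMap.map_smul, QuadraticMap.map_smul, hQb, polar_smul_left,
      polar_smul_right, hiso b hbA a haA] at hQy
    simp at hQy
    rcases hQy with hQy | hQy
    · exact ⟨r, by rw [hQy, zero_smul, add_zero]⟩
    · exact absurd hQy hQa
  obtain ⟨u, u₂, hu, -, hub, -⟩ := exists_test hnd (show 3 ≤ finrank F M by omega) (γ := ⟨b, hA hbA⟩)
    (fun e => hb0 (congrArg Subtype.val e))
  rw [sub_polar] at hub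
  obtain ⟨u', hu', huu⟩ := exists_partner (Q.comp M.subtype) hnd (e := u)
    (fun e => hub (by rw [e]; simp)) hu
  have hh : Hyp (Q.comp M.subtype) u u' := ⟨hu, hu', huu⟩
  have hU := hh.finrank_perp
  set U := perp (Q.comp M.subtype) u u'
  have hy : ∀ y : U, polar Q u.1 y.1.1 = 0 := fun y => by
    have := ((mem_perp _).1 y.2).1
    rwa [sub_polar] at this
  let g : U → quadIso Q := fun y => eg Q u.1 y.1.1
  have hg : ∀ y : U, g y ∈ Om Q ∧ (g y).1 v = v ∧ (g y).1 x = x ∧ (g y).1 v' = v' ∧ (g y).1 x' = x' := fun y =>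
    ⟨eg_mem Q hQ (by omega) (show Q u.1 = 0 from hu) (hy y), eg_frame h (show Q u.1 = 0 from hu) (hy y) u.2 y.1.2⟩
  have hgmul : ∀ y z : U, g (y + z) = g y * g z := fun y z => eg_add (show Q u.1 = 0 from hu) (hy y) (hy z)
  have hu_notA : u.1 ∉ A := fun hm => hub (hiso _ hm b hbA)
  -- the stabiliser
  let S : AddSubgroup U :=
    { carrier := {y | A.map ((g y).1 : V →ₗ[F] V) = A}
      add_mem' := fun {y z} (h1 : _ = A) (h2 : _ = A) => by
        show A.map ((g (y + z)).1 : V →ₗ[F] V) = A
        rw [hgmul, show ((g y * g z).1 : V →ₗ[F] V) = ((g y).1 : V →ₗ[F] V) ∘ₗ ((g z).1 : V →ₗ[F] V) from rfl,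
          Submodule.map_comp, h2, h1]
      zero_mem' := by
        show A.map ((g 0).1 : V →ₗ[F] V) = A
        rw [show g 0 = 1 from eg_zero (show Q u.1 = 0 from hu)]
        exact Submodule.map_id A
      neg_mem' := fun {y} (h1 : _ = A) => by
        show A.map ((g (-y)).1 : V →ₗ[F] V) = A
        conv_lhs => rw [← h1]
        rw [← Submodule.map_comp,
          show ((g (-y)).1 : V →ₗ[F] V) ∘ₗ ((g y).1 : V →ₗ[F] V) = ((g (-y) * g y).1 : V →ₗ[F] V) from rfl,
          ← hgmul, neg_add_cancel, show g 0 = 1 from eg_zero (show Q u.1 = 0 from hu)]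
        exact Submodule.map_id A }
  let A' : Submodule F V := A ⊓ LinearMap.ker (polarBilin Q u.1)
  have hA' : finrank F A' + 1 ≤ finrank F A := by
    have hlt : A' < A := lt_of_le_of_ne inf_le_left fun e => hub (show b ∈ A' by rw [e]; exact hbA).2
    have := Submodule.finrank_lt_finrank_of_lt hlt
    omega
  -- the displacement of `b`
  have hD : ∀ y : S, (g y.1).1 b - b ∈ A' := fun y => by
    have h1 : (g y.1).1 b ∈ A := (show A.map ((g y.1).1 : V →ₗ[F] V) = A from y.2) ▸ ⟨b, hbA, rfl⟩
    refine ⟨sub_mem h1 hbA, ?_⟩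
    show polar Q u.1 _ = 0
    rw [sub_eq_add_neg, polar_add_right, polar_neg_right]
    have := polar_iso Q (g y.1) u.1 b
    rw [eg_self (show Q u.1 = 0 from hu) (hy y.1)] at this
    rw [this, add_neg_cancel]
  have hDi : ∀ y : S, (g y.1).1 b - b = polar Q u.1 b • y.1.1.1 + (-(polar Q y.1.1.1 b) - Q y.1.1.1 * polar Q u.1 b) • u.1 :=
    fun y => by rw [eg_app (show Q u.1 = 0 from hu) (hy y.1), add_sub_cancel_left]
  have hDzero : ∀ y : U, ∀ k : F, polar Q u.1 b • y.1.1 = k • u.1 → y = 0 := fun y k e => by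
    have hk := congrArg (polar Q u'.1) e
    have hu'y : polar Q u'.1 y.1.1 = 0 := by
      have := ((mem_perp _).1 y.2).2
      rwa [sub_polar] at this
    have hu'u : polar Q u'.1 u.1 = 1 := by
      rw [pol_symm, ← sub_polar]; exact huu
    rw [polar_smul_right, polar_smul_right, hu'y, hu'u] at hk
    simp only [smul_eq_mul, mul_zero, mul_one] at hk
    rw [← hk, zero_smul, smul_eq_zero] at e
    exact Subtype.ext (Subtype.ext (e.resolve_left hub))
  have hinjD : Function.Injective (fun y : S => (⟨_, hD y⟩ : A')) := by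
    intro y z e
    have e' := congrArg Subtype.val e
    simp only [hDi] at e'
    refine Subtype.ext (sub_eq_zero.1 (hDzero (y.1 - z.1)
      ((-(polar Q z.1.1.1 b) - Q z.1.1.1 * polar Q u.1 b) - (-(polar Q y.1.1.1 b) - Q y.1.1.1 * polar Q u.1 b)) ?_))
    rw [Submodule.coe_sub, Submodule.coe_sub, smul_sub, sub_smul, sub_eq_sub_iff_add_eq_add, e']
    abel
  have hS : Nat.card S * q ≤ q ^ finrank F A ∧ (finrank F A = 2 → Nat.card S = 1) := by
    refine ⟨?_, fun h2 => ?_⟩
    · refine le_trans (Nat.mul_le_mul_right _ (Nat.card_le_card_of_injective _ hinjD)) ?_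
      rw [Module.natCard_eq_pow_finrank (K := F), Nat.card_eq_fintype_card, ← hq', ← pow_succ]
      exact Nat.pow_le_pow_right (by omega) hA'
    · rw [Nat.card_eq_one_iff_unique]
      refine ⟨⟨fun y z => hinjD (Subtype.ext ?_)⟩, ⟨0⟩⟩
      obtain ⟨hQb, huniq⟩ := hbs h2
      have fixb : ∀ y : S, (g y.1).1 b - b = 0 := fun y => by
        obtain ⟨m1, m2⟩ := hD y
        have h1 : (g y.1).1 b ∈ A := by
          have := add_mem m1 hbA
          rwa [sub_add_cancel] at this
        obtain ⟨c, hc⟩ := huniq _ h1 (by rw [(g y.1).2]; exact hQb)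
        have h3 : polar Q u.1 ((g y.1).1 b - b) = 0 := m2
        rw [hc, sub_eq_add_neg, polar_add_right, polar_neg_right, polar_smul_right, smul_eq_mul] at h3
        have hc1 : c = 1 := mul_right_cancel₀ hub (by linear_combination h3)
        rw [hc, hc1, one_smul, sub_self]
      show (g y.1).1 b - b = (g z.1).1 b - b
      rw [fixb, fixb]
  refine ⟨U ⧸ S, fun i => g i.out, inferInstance, ?_, fun i => hg _, fun i j e => ?_⟩
  · have hc : Nat.card (U ⧸ S) * Nat.card S = q ^ finrank F U := by
      rw [← AddSubgroup.index_eq_card, AddSubgroup.index_mul_card, Module.natCard_eq_pow_finrank (K := F),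
        Nat.card_eq_fintype_card]
    by_cases h2 : finrank F A = 2
    · rw [hS.2 h2, mul_one, show finrank F U = 2 by omega] at hc
      rw [hc, pow_two]
      exact Nat.mul_le_mul_right _ hq
    · have e : finrank F U = finrank F A + (finrank F A - 2) := by omega
      have h3 : q ^ finrank F A * q ^ (finrank F A - 2) ≤ Nat.card (U ⧸ S) * q ^ (finrank F A - 1) := by
        rw [← pow_add, ← e, ← hc]
        refine Nat.mul_le_mul_left _ ?_
        refine Nat.le_of_mul_le_mul_right ?_ (show 0 < q by omega)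
        rw [← pow_succ, show finrank F A - 1 + 1 = finrank F A by omega]
        exact hS.1
      have e2 : q ^ finrank F A * q ^ (finrank F A - 2) = q ^ (finrank F A - 1) * q ^ (finrank F A - 1) := by
        rw [← pow_add, ← pow_add]; congr 1; omega
      rw [e2] at h3
      refine le_trans ?_ (Nat.le_of_mul_le_mul_right h3 (pow_pos (by omega) _))
      calc 2 * q ≤ q * q := Nat.mul_le_mul_right _ hq
        _ = q ^ 2 := (pow_two q).symm
        _ ≤ _ := Nat.pow_le_pow_right (by omega) (by omega)
  · have hm : -i.out + j.out ∈ S := by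
      show A.map ((g (-i.out + j.out)).1 : V →ₗ[F] V) = A
      rw [hgmul, show ((g (-i.out) * g j.out).1 : V →ₗ[F] V) = ((g (-i.out)).1 : V →ₗ[F] V) ∘ₗ ((g j.out).1 : V →ₗ[F] V) from rfl,
        Submodule.map_comp, ← e, ← Submodule.map_comp,
        show ((g (-i.out)).1 : V →ₗ[F] V) ∘ₗ ((g i.out).1 : V →ₗ[F] V) = ((g (-i.out) * g i.out).1 : V →ₗ[F] V) from rfl,
        ← hgmul, neg_add_cancel, show g 0 = 1 from eg_zero (show Q u.1 = 0 from hu)]
      exact Submodule.map_id A
    have := (QuotientAddGroup.eq).2 hm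
    rwa [QuotientAddGroup.out_eq', QuotientAddGroup.out_eq'] at this

/-- Few images of the span when the index is small. -/
theorem few_images (h : Fr Q v x v' x') (H : Subgroup (quadIso Q)) {e : ℕ}
    (hlt : H.relIndex (Om Q) < 2 * Fintype.card F ^ (e + 2))
    (hN0 : Fintype.card F ^ (e + 1) ≤ H.relIndex (UL h)) {ι : Type*} (gs : ι → quadIso Q)
    (Ls : ι → (V × V →ₗ[F] V × V)) (hgs : ∀ i, gs i ∈ Om Q) (hact : ∀ i, Acts h (gs i) (Ls i))
    (hinj : ∀ i j, (Submodule.span F (Wl h H : Set (V × V))).map (Ls i) =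
      (Submodule.span F (Wl h H : Set (V × V))).map (Ls j) → i = j) : Nat.card ι < 2 * Fintype.card F := by
  have := line_bound h hQ H (ul_le hQ hn h) gs Ls hgs hact fun i j hij =>
    hinj i j (by rw [Submodule.map_span, Submodule.map_span, hij])
  by_contra hge
  push Not at hge
  have h3 := Nat.mul_le_mul hN0 hge
  have e' : Fintype.card F ^ (e + 1) * (2 * Fintype.card F) = 2 * Fintype.card F ^ (e + 2) := by ring
  omega

/-- A free line gives a small point or the special configuration. -/
theorem line_step (h : Fr Q v x v' x') (H : Subgroup (quadIso Q)) (hf : Free Q v x H)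
    (hlt : H.relIndex (Om Q) < 2 * Fintype.card F ^ finrank F (perp Q v v')) :
    SmallPt h.h1 x H ∨ SmallPt h.h2 v H ∨ Special h H := by
  classical
  haveI : Finite V := finite_space F V
  set q := Fintype.card F with hq'
  have hq : 2 ≤ q := Fintype.one_lt_card
  set M := Mid Q v x v' x' with hMdef
  have hM : finrank F M + 4 = finrank F V := h.finrank_mid
  have hd := h.h1.finrank_perp
  set e := finrank F M with he
  have hde : finrank F (perp Q v v') = e + 2 := by omega
  rw [hde] at hlt
  have hU := ul_le hQ hn h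
  have hN := relIndex_UL h hf
  rw [← he, ← hq'] at hN
  set N0 := H.relIndex (UL h)
  set W : Set (V × V) := (Wl h H : Set (V × V)) with hW
  set Λ := Submodule.span F W with hΛ
  have hWM : ∀ p ∈ W, p.1 ∈ M ∧ p.2 ∈ M := fun p hp => ⟨hp.1, hp.2.1⟩
  have hmem : ∀ {g : quadIso Q}, g.1 v = v → g.1 x = x → g.1 v' = v' → g.1 x' = x' → Acts h g
      (LinearMap.prodMap (g.1 : V →ₗ[F] V) (g.1 : V →ₗ[F] V)) := fun a b c d => acts_fix h a b c d
  have hsx : ∀ s : F, eg Q v (s • x') ∈ Om Q := fun s => eg_mem Q hQ (by omega) h.h1.qv (eg_sx'_ok h s)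
  have hsv : ∀ s : F, eg Q x (s • v') ∈ Om Q := fun s => eg_mem Q hQ (by omega) h.h2.qv (eg_sx'_ok h.symm s)
  -- the image is not zero
  have hW0 : ∃ p ∈ W, p ≠ 0 := by
    by_contra hc
    push Not at hc
    have h1 : Nat.card (Wl h H) = 1 :=
      Nat.card_eq_one_iff_unique.2 ⟨⟨fun a b => Subtype.ext ((hc a.1 a.2).trans (hc b.1 b.2).symm)⟩, ⟨0⟩⟩
    rw [h1, mul_one] at hN
    have := lt_of_le_of_lt (line_bound h hQ H hU (ι := Unit) (fun _ => 1) (fun _ => LinearMap.id) (fun _ => one_mem _)
      (fun _ => Acts.one h) (fun _ _ _ => rfl)) hlt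
    rw [Nat.card_unique, mul_one] at this
    change N0 < _ at this
    have h2 : 2 * q ^ (e + 2) ≤ q ^ (2 * e + 1) :=
      calc 2 * q ^ (e + 2) ≤ q * q ^ (e + 2) := Nat.mul_le_mul_right _ hq
        _ = q ^ (e + 3) := by ring
        _ ≤ _ := Nat.pow_le_pow_right (by omega) (by omega)
    omega
  -- some element moves it
  have hmove : ∃ (g : quadIso Q) (L : V × V →ₗ[F] V × V), g ∈ Om Q ∧ Acts h g L ∧ L '' W ≠ W := by
    by_contra hc
    push Not at hc
    have hl : ∀ (s : F), ∀ p ∈ W, (s • p.2, (0 : V)) ∈ W ∧ ((0 : V), s • p.1) ∈ W := by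
      intro s p hp
      have e1 := hc _ _ (hsx s) (acts_left h s)
      have e2 := hc _ _ (hsv s) (acts_right h s)
      have m1 : shiftL s p ∈ W := e1 ▸ ⟨p, hp, rfl⟩
      have m2 : shiftR s p ∈ W := e2 ▸ ⟨p, hp, rfl⟩
      have n1 := sub_mem (show p ∈ Wl h H from hp) (show shiftL s p ∈ Wl h H from m1)
      have n2 := sub_mem (show p ∈ Wl h H from hp) (show shiftR s p ∈ Wl h H from m2)
      rw [shiftL_apply] at n1
      rw [shiftR_apply] at n2
      refine ⟨?_, ?_⟩
      · have : p - (p.1 - s • p.2, p.2) = (s • p.2, (0 : V)) := by ext <;> simp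
        rwa [this] at n1
      · have : p - (p.1, p.2 - s • p.1) = ((0 : V), s • p.1) := by ext <;> simp
        rwa [this] at n2
    obtain ⟨p, hp, hp0⟩ := hW0
    obtain ⟨γ, hγ, hγ0, hγ1, hγ2⟩ : ∃ γ ∈ M, γ ≠ 0 ∧ (γ, (0 : V)) ∈ W ∧ ((0 : V), γ) ∈ W := by
      by_cases h2 : p.2 = 0
      · have h1 : p.1 ≠ 0 := fun h1 => hp0 (Prod.ext h1 h2)
        have a1 := (hl 1 p hp).2
        rw [one_smul] at a1
        have a2 := (hl 1 _ a1).1
        rw [one_smul] at a2
        exact ⟨p.1, (hWM p hp).1, h1, a2, a1⟩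
      · have a1 := (hl 1 p hp).1
        rw [one_smul] at a1
        have a2 := (hl 1 _ a1).2
        rw [one_smul] at a2
        exact ⟨p.2, (hWM p hp).2, h2, a1, a2⟩
    obtain ⟨u, y, hu, huy, huγ, hy⟩ := exists_test (h.mid_nondeg hQ) (show 3 ≤ finrank F M by omega)
      (γ := (⟨γ, hγ⟩ : M)) (fun e => hγ0 (congrArg Subtype.val e))
    rw [sub_polar] at huy huγ
    obtain ⟨f1, f2, f3, f4⟩ := eg_frame h (show Q u.1 = 0 from hu) huy u.2 y.2
    have e3 := hc _ _ (eg_mem Q hQ (by omega) (show Q u.1 = 0 from hu) huy) (hmem f1 f2 f3 f4)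
    have m3 : ((eg Q u.1 y.1).1 γ, (0 : V)) ∈ W := by
      rw [← e3]
      exact ⟨_, hγ1, by simp⟩
    have i1 := h.isotropic hf hγ2 m3
    have i2 := h.isotropic hf hγ2 hγ1
    simp only [polar_zero_left, polar_zero_right] at i1 i2
    rw [eg_app (show Q u.1 = 0 from hu) huy] at i1
    simp only [polar_add_right, polar_smul_right, i2, pol_symm Q γ y.1, pol_symm Q γ u.1, smul_eq_mul] at i1
    have : Q y.1 * (polar Q u.1 γ * polar Q u.1 γ) = 0 := by linear_combination -i1
    rcases mul_eq_zero.1 this with h0 | h0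
    · exact hy h0
    · exact huγ ((mul_self_eq_zero).1 h0)
  -- the image is large
  have hbig : q ^ (e - 1) < Nat.card (Wl h H) := by
    by_contra hc
    push Not at hc
    obtain ⟨g, L, hg, hL, hne⟩ := hmove
    have := lt_of_le_of_lt (line_bound h hQ H hU (ι := Bool) (fun i => if i then g else 1)
      (fun i => if i then L else LinearMap.id)
      (fun i => by cases i <;> simp [hg]) (fun i => by cases i <;> simp [hL, Acts.one h]) (fun i j => by
        cases i <;> cases j <;> simp [← hW] <;> intro h' <;> first | exact hne h' | exact hne h'.symm)) hlt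
    rw [Nat.card_eq_fintype_card, Fintype.card_bool] at this
    have h2 : q ^ (e + 2) ≤ N0 := by
      refine Nat.le_of_mul_le_mul_right ?_ (pow_pos (show 0 < q by omega) (e - 1))
      calc q ^ (e + 2) * q ^ (e - 1) = q ^ (2 * e + 1) := by rw [← pow_add]; congr 1; omega
        _ = N0 * Nat.card (Wl h H) := hN.symm
        _ ≤ _ := Nat.mul_le_mul_left _ hc
    omega
  -- the span is maximal isotropic
  have hΛM : Λ ≤ M.prod M := Submodule.span_le.2 fun p hp => hWM p hp
  have hiso : ∀ p ∈ Λ, ∀ p' ∈ Λ, polar Q p.2 p'.1 = polar Q p'.2 p.1 := by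
    intro p hp p' hp'
    induction hp, hp' using Submodule.span_induction₂ with
    | mem_mem a b ha hb => exact h.isotropic hf ha hb
    | zero_left b => simp
    | zero_right a => simp
    | add_left a b c ha hb hc h1 h2 =>
      simp only [Prod.snd_add, Prod.fst_add, polar_add_left, polar_add_right, h1, h2]
    | add_right a b c ha hb hc h1 h2 =>
      simp only [Prod.snd_add, Prod.fst_add, polar_add_left, polar_add_right, h1, h2]
    | smul_left r a b ha hb h1 => simp only [Prod.smul_snd, Prod.smul_fst, polar_smul_left, polar_smul_right, h1]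
    | smul_right r a b ha hb h1 => simp only [Prod.smul_snd, Prod.smul_fst, polar_smul_left, polar_smul_right, h1]
  have hle : finrank F Λ ≤ e := lam_dim hQ h Λ hΛM hiso
  have hWΛ : Nat.card (Wl h H) ≤ q ^ finrank F Λ := by
    rw [show q = Nat.card F from Nat.card_eq_fintype_card.symm, ← Module.natCard_eq_pow_finrank (K := F) (V := Λ)]
    exact Nat.card_le_card_of_injective (fun p => ⟨p.1, Submodule.subset_span p.2⟩) fun a b e =>
      Subtype.ext (congrArg (fun z : Λ => z.1) e :)
  have hdim : finrank F Λ = e := by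
    by_contra hne
    have : q ^ finrank F Λ ≤ q ^ (e - 1) := Nat.pow_le_pow_right (by omega) (by omega)
    omega
  have hN0 : q ^ (e + 1) ≤ N0 := by
    refine Nat.le_of_mul_le_mul_right ?_ (pow_pos (show 0 < q by omega) e)
    calc q ^ (e + 1) * q ^ e = q ^ (2 * e + 1) := by rw [← pow_add]; congr 1; omega
      _ = N0 * Nat.card (Wl h H) := hN.symm
      _ ≤ _ := Nat.mul_le_mul_left _ (hWΛ.trans (le_of_eq (by rw [hdim])))
  -- the intersections with the sides
  set Av := Λ.comap (LinearMap.inl F V V) with hAv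
  set Ax := Λ.comap (LinearMap.inr F V V) with hAx
  by_cases hv0 : Av = ⊥
  · refine Or.inl ?_
    intro y hy hxy
    obtain ⟨hy1, hy2⟩ := hy
    set α := proj Q x x' y with hα
    have hαM : α ∈ M := by
      refine ⟨?_, h.h2.proj_mem _⟩
      show proj Q x x' y ∈ perp Q v v'
      exact sub_mem (sub_mem hy1 (Submodule.smul_mem _ _ h.hx)) (Submodule.smul_mem _ _ h.hx')
    have ey : y = α + polar Q x' y • x := by
      conv_lhs => rw [h.h2.decomp y, hxy, zero_smul, add_zero]
    have hm : ((α, 0) : V × V) ∈ W := ⟨hαM, zero_mem _, polar Q x' y, by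
      rw [uel, eg_zero h.h2.qv, mul_one, ← ey]; exact hy2⟩
    have hα0 : α ∈ Av := Submodule.subset_span hm
    rw [hv0, Submodule.mem_bot] at hα0
    rw [hα0, zero_add] at ey
    by_contra hy0
    refine hf (polar Q x' y) (fun ht => hy0 (by rw [ey, ht, zero_smul])) ?_
    rw [← ey]
    exact hy2
  by_cases hx0 : Ax = ⊥
  · refine Or.inr (Or.inl ?_)
    intro y hy hvy
    obtain ⟨hy1, hy2⟩ := hy
    set β := proj Q v v' y with hβ
    have hβM : β ∈ M := by
      refine ⟨h.h1.proj_mem _, ?_⟩
      show proj Q v v' y ∈ perp Q x x'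
      exact sub_mem (sub_mem hy1 (Submodule.smul_mem _ _ h.symm.hx)) (Submodule.smul_mem _ _ h.symm.hx')
    have ey : y = β + polar Q v' y • v := by
      conv_lhs => rw [h.h1.decomp y, hvy, zero_smul, add_zero]
    have hswap : ∀ t : F, eg Q x (t • v) = eg Q v (-t • x) := fun t => by
      have hv' : Q (-t • v) = 0 := by rw [QuadraticMap.map_smul, h.h1.qv, smul_zero]
      have := eg_swap (e := -t • v) hv' h.h2.qv (by rw [polar_smul_left, h.pol.1, smul_zero])
      rw [neg_smul, neg_neg, ← neg_smul, eg_smul_left h.h1.qv h.pol.1] at this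
      exact this
    have hm : ((0, β) : V × V) ∈ W := ⟨zero_mem _, hβM, -polar Q v' y, by
      have hm : eg Q x y ∈ H := hy2
      rw [ey, add_comm, eg_add h.h2.qv (by rw [polar_smul_right, h.pol.2.2.1, smul_zero])
        (mid4 hβM).2.2.1, hswap] at hm
      rw [uel, zero_add]
      exact hm⟩
    have hβ0 : β ∈ Ax := Submodule.subset_span hm
    rw [hx0, Submodule.mem_bot] at hβ0
    rw [hβ0, zero_add] at ey
    by_contra hy0
    refine hf (-polar Q v' y) (fun ht => hy0 (by rw [ey, neg_eq_zero.1 ht, zero_smul])) ?_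
    rw [← hswap, ← ey]
    exact hy2
  have hAvM : Av ≤ M := fun a ha => (hΛM ha).1
  have hAxM : Ax ≤ M := fun a ha => (hΛM ha).2
  have hne_top : ∀ {A : Submodule F V} (i : V →ₗ[F] V × V), A = Λ.comap i → Function.Injective i →
      A = M → ∀ p ∈ Λ, ∃ a ∈ M, i a = p := by
    intro A i hA hi hAM p hp
    have h1 : M.map i ≤ Λ := by rw [← hAM, hA]; exact Submodule.map_comap_le _ _
    have h2 := Submodule.eq_of_le_of_finrank_le h1 (by
      rw [(Submodule.equivMapOfInjective i hi M).symm.finrank_eq, hdim])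
    rw [← h2] at hp
    obtain ⟨a, ha, e⟩ := hp
    exact ⟨a, ha, e⟩
  have hvtop : Av ≠ M := fun hh => hx0 (eq_bot_iff.2 fun b hb => by
    obtain ⟨a, -, e⟩ := hne_top _ hAv (fun a b e => (congrArg Prod.fst e :)) hh _ hb
    simpa using (congrArg Prod.snd e).symm)
  have hxtop : Ax ≠ M := fun hh => hv0 (eq_bot_iff.2 fun b hb => by
    obtain ⟨a, -, e⟩ := hne_top _ hAx (fun a b e => (congrArg Prod.snd e :)) hh _ hb
    simpa using (congrArg Prod.fst e).symm)
  -- both unipotent groups fix the span
  have hfixL : ∀ p ∈ Λ, (p.2, (0 : V)) ∈ Λ := by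
    by_contra hc
    push Not at hc
    obtain ⟨p, hp, hpn⟩ := hc
    obtain ⟨g, hg, f1, f2, f3, f4, hgA⟩ := exists_mover hQ hn h hAvM hv0 hvtop
    let gs : Bool × F → quadIso Q := fun i => eg Q v (i.2 • x') * (if i.1 then g else 1)
    let Ls : Bool × F → (V × V →ₗ[F] V × V) := fun i =>
      shiftL i.2 ∘ₗ (if i.1 then LinearMap.prodMap (g.1 : V →ₗ[F] V) (g.1 : V →ₗ[F] V) else LinearMap.id)
    have key : ∀ i : Bool × F, (Λ.map (Ls i)).comap (LinearMap.inl F V V) =
        if i.1 then Av.map (g.1 : V →ₗ[F] V) else Av := by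
      rintro ⟨bi, s⟩
      ext a
      constructor
      · rintro ⟨r, hr, e⟩
        cases bi
        · simp only [Ls, Bool.false_eq_true, if_false, LinearMap.comp_id] at e ⊢
          rw [shiftL_apply] at e
          have e2 : r.2 = 0 := congrArg Prod.snd e
          have e1 : r.1 - s • r.2 = a := congrArg Prod.fst e
          rw [e2, smul_zero, sub_zero] at e1
          show (a, (0 : V)) ∈ Λ
          rw [← e1, ← e2]
          exact hr
        · simp only [Ls, if_true, LinearMap.comp_apply, LinearMap.prodMap_apply, shiftL_apply] at e ⊢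
          have e2 : g.1 r.2 = 0 := congrArg Prod.snd e
          have e1 : g.1 r.1 - s • g.1 r.2 = a := congrArg Prod.fst e
          rw [e2, smul_zero, sub_zero] at e1
          refine ⟨r.1, ?_, e1⟩
          show (r.1, (0 : V)) ∈ Λ
          rw [← g.1.map_eq_zero_iff.1 e2]
          exact hr
      · intro ha
        cases bi
        · simp only [Bool.false_eq_true, if_false] at ha
          exact ⟨(a, 0), ha, by simp [Ls, shiftL_apply]⟩
        · simp only [if_true] at ha
          obtain ⟨a', ha', rfl⟩ := ha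
          exact ⟨(a', 0), ha', by simp [Ls, shiftL_apply]⟩
    have := few_images hQ hn h H hlt hN0 gs Ls (fun i => by
      refine mul_mem (hsx _) ?_
      split_ifs
      exacts [hg, one_mem _]) (fun i => by
      refine Acts.mul (acts_left h _) ?_
      split_ifs
      exacts [hmem f1 f2 f3 f4, Acts.one h]) (fun i j hij => by
      obtain ⟨bi, si⟩ := i
      obtain ⟨bj, sj⟩ := j
      have hb : bi = bj := by
        have := congrArg (fun S : Submodule F (V × V) => S.comap (LinearMap.inl F V V)) hij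
        rw [key, key] at this
        cases bi <;> cases bj <;> simp at this ⊢
        · exact hgA this.symm
        · exact hgA this
      subst hb
      refine Prod.ext rfl ?_
      by_contra hne
      replace hne : si ≠ sj := hne
      apply hpn
      -- cancel the common mover
      set K : V × V →ₗ[F] V × V :=
        if bi then LinearMap.prodMap (g.1 : V →ₗ[F] V) (g.1 : V →ₗ[F] V) else LinearMap.id with hK
      have hKc : ∀ (s : F) (r : V × V), shiftL s (K r) = K (shiftL s r) := by
        intro s r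
        cases bi
        · simp [hK]
        · simp [hK, shiftL_apply]
      have hKi : Function.Injective K := by
        cases bi
        · simp only [hK, Bool.false_eq_true, if_false]; exact fun a b e => e
        · simp only [hK, if_true]
          exact fun a b e => Prod.ext (g.1.injective (congrArg Prod.fst e :)) (g.1.injective (congrArg Prod.snd e :))
      have h1 : ∀ r ∈ Λ, ∃ r' ∈ Λ, shiftL si r = shiftL sj r' := by
        intro r hr
        have : Ls (bi, si) r ∈ Λ.map (Ls (bi, sj)) := hij ▸ ⟨r, hr, rfl⟩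
        obtain ⟨r', hr', e⟩ := this
        refine ⟨r', hr', hKi ?_⟩
        rw [← hKc, ← hKc]
        exact e.symm
      obtain ⟨r', hr', e⟩ := h1 p hp
      rw [shiftL_apply, shiftL_apply, Prod.mk.injEq] at e
      obtain ⟨e1, e2⟩ := e
      have h2 := sub_mem hr' hp
      have h3 : r' - p = ((sj - si) • p.2, (0 : V)) := by
        refine Prod.ext ?_ (by simp [e2])
        show r'.1 - p.1 = _
        rw [← e2] at e1
        rw [sub_smul, sub_eq_sub_iff_add_eq_add]
        rw [sub_eq_sub_iff_add_eq_add] at e1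
        rw [← e1]; abel
      rw [h3] at h2
      have h4 := Submodule.smul_mem Λ (sj - si)⁻¹ h2
      rw [Prod.smul_mk, smul_zero, smul_smul, inv_mul_cancel₀ (sub_ne_zero.2 (Ne.symm hne)), one_smul] at h4
      exact h4)
    rw [Nat.card_eq_fintype_card, Fintype.card_prod, Fintype.card_bool] at this
    omega
  have hfixR : ∀ p ∈ Λ, ((0 : V), p.1) ∈ Λ := by
    by_contra hc
    push Not at hc
    obtain ⟨p, hp, hpn⟩ := hc
    obtain ⟨g, hg, f1, f2, f3, f4, hgA⟩ := exists_mover hQ hn h hAxM hx0 hxtop
    let gs : Bool × F → quadIso Q := fun i => eg Q x (i.2 • v') * (if i.1 then g else 1)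
    let Ls : Bool × F → (V × V →ₗ[F] V × V) := fun i =>
      shiftR i.2 ∘ₗ (if i.1 then LinearMap.prodMap (g.1 : V →ₗ[F] V) (g.1 : V →ₗ[F] V) else LinearMap.id)
    have key : ∀ i : Bool × F, (Λ.map (Ls i)).comap (LinearMap.inr F V V) =
        if i.1 then Ax.map (g.1 : V →ₗ[F] V) else Ax := by
      rintro ⟨bi, s⟩
      ext a
      constructor
      · rintro ⟨r, hr, e⟩
        cases bi
        · simp only [Ls, Bool.false_eq_true, if_false, LinearMap.comp_id] at e ⊢
          rw [shiftR_apply] at e
          have e2 : r.1 = 0 := congrArg Prod.fst e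
          have e1 : r.2 - s • r.1 = a := congrArg Prod.snd e
          rw [e2, smul_zero, sub_zero] at e1
          show ((0 : V), a) ∈ Λ
          rw [← e1, ← e2]
          exact hr
        · simp only [Ls, if_true, LinearMap.comp_apply, LinearMap.prodMap_apply, shiftR_apply] at e ⊢
          have e2 : g.1 r.1 = 0 := congrArg Prod.fst e
          have e1 : g.1 r.2 - s • g.1 r.1 = a := congrArg Prod.snd e
          rw [e2, smul_zero, sub_zero] at e1
          refine ⟨r.2, ?_, e1⟩
          show ((0 : V), r.2) ∈ Λ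
          rw [← g.1.map_eq_zero_iff.1 e2]
          exact hr
      · intro ha
        cases bi
        · simp only [Bool.false_eq_true, if_false] at ha
          exact ⟨(0, a), ha, by simp [Ls, shiftR_apply]⟩
        · simp only [if_true] at ha
          obtain ⟨a', ha', rfl⟩ := ha
          exact ⟨(0, a'), ha', by simp [Ls, shiftR_apply]⟩
    have := few_images hQ hn h H hlt hN0 gs Ls (fun i => by
      refine mul_mem (hsv _) ?_
      split_ifs
      exacts [hg, one_mem _]) (fun i => by
      refine Acts.mul (acts_right h _) ?_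
      split_ifs
      exacts [hmem f1 f2 f3 f4, Acts.one h]) (fun i j hij => by
      obtain ⟨bi, si⟩ := i
      obtain ⟨bj, sj⟩ := j
      have hb : bi = bj := by
        have := congrArg (fun S : Submodule F (V × V) => S.comap (LinearMap.inr F V V)) hij
        rw [key, key] at this
        cases bi <;> cases bj <;> simp at this ⊢
        · exact hgA this.symm
        · exact hgA this
      subst hb
      refine Prod.ext rfl ?_
      by_contra hne
      replace hne : si ≠ sj := hne
      apply hpn
      set K : V × V →ₗ[F] V × V :=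
        if bi then LinearMap.prodMap (g.1 : V →ₗ[F] V) (g.1 : V →ₗ[F] V) else LinearMap.id with hK
      have hKc : ∀ (s : F) (r : V × V), shiftR s (K r) = K (shiftR s r) := by
        intro s r
        cases bi
        · simp [hK]
        · simp [hK, shiftR_apply]
      have hKi : Function.Injective K := by
        cases bi
        · simp only [hK, Bool.false_eq_true, if_false]; exact fun a b e => e
        · simp only [hK, if_true]
          exact fun a b e => Prod.ext (g.1.injective (congrArg Prod.fst e :)) (g.1.injective (congrArg Prod.snd e :))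
      have h1 : ∀ r ∈ Λ, ∃ r' ∈ Λ, shiftR si r = shiftR sj r' := by
        intro r hr
        have : Ls (bi, si) r ∈ Λ.map (Ls (bi, sj)) := hij ▸ ⟨r, hr, rfl⟩
        obtain ⟨r', hr', e⟩ := this
        refine ⟨r', hr', hKi ?_⟩
        rw [← hKc, ← hKc]
        exact e.symm
      obtain ⟨r', hr', e⟩ := h1 p hp
      rw [shiftR_apply, shiftR_apply, Prod.mk.injEq] at e
      obtain ⟨e2, e1⟩ := e
      have h2 := sub_mem hr' hp
      have h3 : r' - p = ((0 : V), (sj - si) • p.1) := by
        refine Prod.ext (by simp [e2]) ?_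
        show r'.2 - p.2 = _
        rw [← e2] at e1
        rw [sub_smul, sub_eq_sub_iff_add_eq_add]
        rw [sub_eq_sub_iff_add_eq_add] at e1
        rw [← e1]; abel
      rw [h3] at h2
      have h4 := Submodule.smul_mem Λ (sj - si)⁻¹ h2
      rw [Prod.smul_mk, smul_zero, smul_smul, inv_mul_cancel₀ (sub_ne_zero.2 (Ne.symm hne)), one_smul] at h4
      exact h4)
    rw [Nat.card_eq_fintype_card, Fintype.card_prod, Fintype.card_bool] at this
    omega
  -- the span is a double
  have hAeq : Ax = Av := le_antisymm (fun b hb => hfixL _ hb) (fun a ha => hfixR _ ha)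
  have hprod : Λ = Av.prod Av := by
    refine le_antisymm ?_ ?_
    intro p hp
    refine ⟨?_, ?_⟩
    · rw [← hAeq]
      exact hfixR p hp
    · exact hfixL p hp
    · rintro p ⟨h1, h2⟩
      rw [← hAeq] at h2
      have := add_mem (show (p.1, (0 : V)) ∈ Λ from h1) (show ((0 : V), p.2) ∈ Λ from h2)
      simpa using this
  have hAiso : ∀ a ∈ Av, ∀ b ∈ Av, polar Q a b = 0 := fun a ha b hb => by
    have hb' : ((0 : V), a) ∈ Λ := hfixR _ ha
    simpa using hiso _ hb' _ (show (b, (0 : V)) ∈ Λ from hb)
  have hj : 2 * finrank F Av = e := by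
    let ep : (Av.prod Av : Submodule F (V × V)) ≃ₗ[F] Av × Av :=
      { toFun := fun p => (⟨p.1.1, p.2.1⟩, ⟨p.1.2, p.2.2⟩)
        map_add' := fun a b => rfl
        map_smul' := fun a b => rfl
        invFun := fun p => ⟨(p.1.1, p.2.1), p.1.2, p.2.2⟩
        left_inv := fun p => rfl
        right_inv := fun p => rfl }
    rw [← hdim, hprod, ep.finrank_eq, Module.finrank_prod]
    omega
  rcases plane_orbit hQ hn h hAvM hAiso hj with ⟨ι, gs, hfin, hcard, hgs, hinj⟩ | ⟨hsing, hj2⟩
  · exfalso
    haveI := hfin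
    have := few_images hQ hn h H hlt hN0 gs (fun i => LinearMap.prodMap ((gs i).1 : V →ₗ[F] V) ((gs i).1 : V →ₗ[F] V))
      (fun i => (hgs i).1) (fun i => hmem (hgs i).2.1 (hgs i).2.2.1 (hgs i).2.2.2.1 (hgs i).2.2.2.2)
      (fun i j hij => hinj i j (by
        have key : ∀ g : quadIso Q,
            (Λ.map (LinearMap.prodMap (g.1 : V →ₗ[F] V) (g.1 : V →ₗ[F] V))).comap (LinearMap.inl F V V) =
              Av.map (g.1 : V →ₗ[F] V) := fun g => by
          ext a
          constructor
          · rintro ⟨r, hr, e⟩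
            have e2 : g.1 r.2 = 0 := congrArg Prod.snd e
            refine ⟨r.1, ?_, congrArg Prod.fst e⟩
            show (r.1, (0 : V)) ∈ Λ
            rw [← g.1.map_eq_zero_iff.1 e2]
            exact hr
          · rintro ⟨a', ha', rfl⟩
            exact ⟨(a', 0), ha', by simp⟩
        have := congrArg (fun S : Submodule F (V × V) => S.comap (LinearMap.inl F V V))
          (show Λ.map _ = Λ.map _ from hij)
        simpa only [key] using this))
    omega
  · exact Or.inr (Or.inr ⟨Av, hAvM, hsing, hj2, (show e = 4 by omega), hprod⟩)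

end CfsgLib.OmegaMin
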