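import Mathlib
import Cfsg.Agent.Lib.OmegaMin.LineStep

/-! Small points, generation by opposite radicals, and point stabilisers. -/

set_option autoImplicit false

namespace CfsgLib.OmegaMin

open QuadraticMap CfsgLib.WittExtension Module CfsgLib.SpinorNorm CfsgLib.Eichler CfsgLib.OmegaSimple

universe uF uV

variable {F : Type uF} {V : Type uV} [Field F] [AddCommGroup V] [Module F V] {Q : QuadraticForm F V} {v w : V}

theorem eg_proj (h : Hyp Q v w) {y : V} (hy : polar Q v y = 0) : eg Q v y = eg Q v (proj Q v w y) := by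
  conv_lhs => rw [h.decomp y, hy, zero_smul, add_zero]
  exact eg_shift h.qv ((mem_perp Q).1 (h.proj_mem y)).1 _

theorem move_opposite (h : Hyp Q v w) {x : V} (hx : Q x = 0) (hvx : polar Q v x ≠ 0) :
    ∃ z ∈ perp Q v w, (eg Q v z).1 w = (polar Q v x)⁻¹ • x := by
  set b := polar Q v x with hb
  have hz : b⁻¹ • proj Q v w x ∈ perp Q v w := Submodule.smul_mem _ _ (h.proj_mem x)
  refine ⟨_, hz, ?_⟩
  obtain ⟨e1, e2⟩ := (mem_perp Q).1 hz
  have hQx : Q (proj Q v w x) + polar Q w x * b = 0 := by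
    have := (h.parts (h.proj_mem x) (polar Q w x) b).2.2
    rw [hb, ← h.decomp x, hx] at this
    exact this.symm
  conv_rhs => rw [h.decomp x, ← hb, smul_add, smul_add, smul_smul, smul_smul, inv_mul_cancel₀ hvx, one_smul]
  rw [eg_app h.qv e1, h.vw, one_smul, pol_symm Q _ w, e2, QuadraticMap.map_smul, smul_eq_mul, mul_one,
    show polar Q w x = -(Q (proj Q v w x)) * b⁻¹ by
      rw [eq_mul_inv_iff_mul_eq₀ hvx]
      linear_combination hQx]
  match_scalars <;> ring

/-- An element fixing `v` and the quotient is an Eichler element. -/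
theorem unip_eq (h : Hyp Q v w) (k : quadIso Q) (hv : k.1 v = v)
    (hy : ∀ y ∈ perp Q v w, ∃ b : F, k.1 y = y + b • v) : k = eg Q v (proj Q v w (k.1 w)) := by
  set z := proj Q v w (k.1 w) with hz
  have hzm : z ∈ perp Q v w := h.proj_mem _
  obtain ⟨z1, z2⟩ := (mem_perp Q).1 hzm
  have hb : polar Q v (k.1 w) = 1 := by
    conv_lhs => rw [← hv, polar_iso]
    exact h.vw
  have hkw : k.1 w = z + polar Q w (k.1 w) • v + (1 : F) • w := by
    conv_lhs => rw [h.decomp (k.1 w), hb]
  have ha : polar Q w (k.1 w) = -Q z := by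
    have := (h.parts hzm (polar Q w (k.1 w)) 1).2.2
    rw [← hkw, k.2, h.qw] at this
    linear_combination -this
  refine iso_ext Q fun x => ?_
  rw [eg_app h.qv z1]
  obtain ⟨b, hb'⟩ := hy _ (h.proj_mem x)
  have hbv : b = -polar Q (proj Q v w x) z := by
    have h2 := polar_iso Q k (proj Q v w x) w
    rw [hb', hkw, pol_symm Q (proj Q v w x) w, ((mem_perp Q).1 (h.proj_mem x)).2] at h2
    simp only [polar_add_left, polar_add_right, polar_smul_left, polar_smul_right, pol_sing Q h.qv, h.qv, h.vw, z1,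
      pol_symm Q (proj Q v w x) v, ((mem_perp Q).1 (h.proj_mem x)).1, pol_symm Q (proj Q v w x) w,
      ((mem_perp Q).1 (h.proj_mem x)).2, smul_eq_mul] at h2
    linear_combination h2
  have hzx : polar Q z x = polar Q (proj Q v w x) z := by
    conv_lhs => rw [h.decomp x]
    simp [polar_add_right, polar_smul_right, pol_symm Q z v, pol_symm Q z w, z1, z2, pol_symm Q z (proj Q v w x)]
  conv_lhs => rw [h.decomp x, map_add, map_add, map_smul, map_smul, hv, hb', hkw, ha, hbv, ← hzx]
  conv_rhs => arg 1; rw [h.decomp x]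
  module

variable [Fintype F] [FiniteDimensional F V]
variable (hQ : (polarBilin Q).Nondegenerate)
include hQ

theorem two_radicals (hn : 5 ≤ finrank F V) (h : Hyp Q v w) (Y : Subgroup (quadIso Q)) (hv : EG Q h ≤ Y)
    (hw : EG Q h.symm ≤ Y) : Om Q ≤ Y := by
  have sv : ∀ y, polar Q v y = 0 → eg Q v y ∈ Y := fun y hy => hv ⟨_, h.proj_mem y, eg_proj h hy⟩
  have sw : ∀ y, polar Q w y = 0 → eg Q w y ∈ Y := fun y hy => hw ⟨_, h.symm.proj_mem y, eg_proj h.symm hy⟩
  -- conjugation
  have conj : ∀ (a : V), Q a = 0 → (∀ y, polar Q a y = 0 → eg Q a y ∈ Y) → ∀ g ∈ Y, ∀ b : V, ∀ c : F, c ≠ 0 →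
      g.1 a = c • b → ∀ y, polar Q b y = 0 → eg Q b y ∈ Y := by
    intro a ha hY g hg b c hc hgab y hy
    have hQb : Q b = 0 := by
      have := g.2 a
      rw [hgab, QuadraticMap.map_smul, ha, smul_eq_mul, mul_eq_zero, mul_self_eq_zero] at this
      exact this.resolve_left hc
    have h1 : polar Q (c • b) (c⁻¹ • y) = 0 := by rw [polar_smul_left, polar_smul_right, hy, smul_zero, smul_zero]
    have h2 : polar Q a (g⁻¹.1 (c⁻¹ • y)) = 0 := by
      rw [← polar_iso Q g, app_inv_app, hgab]; exact h1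
    have h3 := mul_mem (mul_mem hg (hY _ h2)) (inv_mem hg)
    rw [eg_conj ha h2, app_inv_app, hgab, eg_smul_left hQb (by rw [polar_smul_right, hy, smul_zero]), smul_smul,
      mul_inv_cancel₀ hc, one_smul] at h3
    exact h3
  have opp : ∀ x, Q x = 0 → polar Q v x ≠ 0 → ∀ y, polar Q x y = 0 → eg Q x y ∈ Y := by
    intro x hx hvx
    obtain ⟨z, hz, e⟩ := move_opposite h hx hvx
    exact conj w h.qw sw _ (hv ⟨z, hz, rfl⟩) x _ (inv_ne_zero hvx) e
  refine le_om_of_eg Q hQ hn Y fun u y hu huy _ => ?_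
  by_cases hu0 : u = 0
  · rw [hu0, eg_zero_left]; exact one_mem _
  obtain ⟨p, hp, hvp, hpu⟩ := singular_avoid' Q hQ (by omega) h.ne_left h.qv hu0
  have hpY := opp p hp (by rw [hvp]; exact one_ne_zero)
  have h' : Hyp Q p v := ⟨hp, h.qv, by rw [pol_symm, hvp]⟩
  obtain ⟨z, hz, e⟩ := move_opposite h' hu hpu
  exact conj v h.qv sv _ (hpY z hz.1) u _ (inv_ne_zero hpu) e y huy

omit hQ in
theorem finite_spt : Finite (SPt Q) := by
  haveI : Finite V := finite_space F V
  haveI : Finite (Submodule F V) := Finite.of_injective (fun S : Submodule F V => (S : Set V)) SetLike.coe_injective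
  exact Finite.of_injective (fun x : SPt Q => x.1) fun a b e => Subtype.ext e

theorem spt_transitive (hn : 5 ≤ finrank F V) (a b : SPt Q) : b ∈ MulAction.orbit (Om Q) a := by
  haveI := (primitive Q hQ hn).toIsPretransitive
  obtain ⟨⟨g, hg⟩, e⟩ := MulAction.exists_smul_eq (Subgroup.closure (Sieg Q)) a b
  exact ⟨⟨g, by show g ∈ commutator _; rw [commutator_eq Q hQ hn]; exact hg⟩, e⟩

omit hQ in
theorem pst_stab {v : V} (hv0 : v ≠ 0) (hv : Q v = 0) :
    MulAction.stabilizer (quadIso Q) (pt hv0 hv) ⊓ Om Q = Pst Q v := by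
  have hs : MulAction.stabilizer (quadIso Q) (pt hv0 hv) = Line Q v := by
    ext g
    rw [MulAction.mem_stabilizer_iff, smul_pt]
    constructor
    · intro e
      have e' : Submodule.span F {g.1 v} = Submodule.span F {v} := congrArg Subtype.val e
      obtain ⟨c, hc⟩ := Submodule.mem_span_singleton.1 (e' ▸ Submodule.mem_span_singleton_self (g.1 v))
      exact ⟨c, hc.symm⟩
    · rintro ⟨c, hc⟩
      exact pt_eq _ _ _ _ c hc
  rw [hs]; rfl

omit hQ in
theorem sing_card_spt : (Sing Q).ncard = (Fintype.card F - 1) * Nat.card (SPt Q) := by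
  classical
  haveI : Finite V := finite_space F V
  haveI := finite_spt (Q := Q)
  haveI : Fintype (SPt Q) := Fintype.ofFinite _
  let f : Sing Q → SPt Q := fun y => pt y.2.1 y.2.2
  have hfib : ∀ x : SPt Q, Nat.card {y : Sing Q // f y = x} = Fintype.card F - 1 := by
    intro x
    obtain ⟨e, he0, he, rfl⟩ := pt_surj x
    have hE : ∀ c : Fˣ, (c : F) • e ∈ Sing Q := fun c =>
      ⟨smul_ne_zero c.ne_zero he0, by rw [QuadraticMap.map_smul, he, smul_zero]⟩
    rw [← Fintype.card_units, ← Nat.card_eq_fintype_card]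
    refine (Nat.card_congr (Equiv.ofBijective (fun c : Fˣ =>
      (⟨⟨(c : F) • e, hE c⟩, pt_eq _ _ _ _ c rfl⟩ : {y : Sing Q // f y = pt he0 he})) ?_)).symm
    refine ⟨fun a b hab => Units.ext (smul_left_injective F he0 (congrArg (fun y => y.1.1) hab :)), ?_⟩
    rintro ⟨⟨y, hy0, hy⟩, hyx⟩
    have e' : Submodule.span F {y} = Submodule.span F {e} := congrArg Subtype.val hyx
    obtain ⟨c, hc⟩ := Submodule.mem_span_singleton.1 (e' ▸ Submodule.mem_span_singleton_self y)
    exact ⟨Units.mk0 c (fun h0 => hy0 (by rw [← hc, h0, zero_smul])), Subtype.ext (Subtype.ext hc)⟩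
  haveI : Fintype (Sing Q) := Fintype.ofFinite _
  rw [← Nat.card_coe_set_eq, ← Nat.card_congr (Equiv.sigmaFiberEquiv f), Nat.card_sigma,
    Finset.sum_congr rfl fun x _ => hfib x, Finset.sum_const, Finset.card_univ, smul_eq_mul,
    Nat.card_eq_fintype_card, mul_comm]

theorem relIndex_pst (hn : 5 ≤ finrank F V) {v : V} (hv0 : v ≠ 0) (hv : Q v = 0) :
    (Pst Q v).relIndex (Om Q) = Nat.card (SPt Q) := by
  have h := Subgroup.index_eq_card (MulAction.stabilizer (Om Q) (pt hv0 hv))
  rw [← Nat.card_congr (MulAction.orbitEquivQuotientStabilizer (Om Q) (pt hv0 hv)),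
    Nat.card_congr (Equiv.subtypeUnivEquiv fun x => spt_transitive hQ hn (pt hv0 hv) x)] at h
  rw [← h, ← pst_stab hv0 hv, Subgroup.inf_relIndex_right]
  rfl

/-- A subgroup fixing a singular point has index at least the number of points. -/
theorem fix_point_bound (hn : 5 ≤ finrank F V) {v : V} (hv0 : v ≠ 0) (hv : Q v = 0) (H : Subgroup (quadIso Q))
    (hH : H ≤ Om Q) (hfix : H ≤ Line Q v) : Nat.card (SPt Q) ≤ H.relIndex (Om Q) := by
  rw [← relIndex_pst hQ hn hv0 hv]
  exact Subgroup.relIndex_le_of_le_left (le_inf hfix hH) Subgroup.index_ne_zero_of_finite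

/-- A point whose stabiliser in `H` is a complement to the radical. -/
def Levi (h : Hyp Q v w) (H : Subgroup (quadIso Q)) : Prop :=
  Wp Q h H = ⊥ ∧ Pst Q v ≤ (H ⊓ Pst Q v) ⊔ EG Q h

theorem pst_index_le (H : Subgroup (quadIso Q)) (v : V) : H.relIndex (Pst Q v) ≤ H.relIndex (Om Q) :=
  relIndex_mono H inf_le_right

/-- A small point has a complement. -/
theorem small_levi (hn : 7 ≤ finrank F V) (h : Hyp Q v w) {x : V} (H : Subgroup (quadIso Q))
    (hs : SmallPt h x H) (hlt : H.relIndex (Pst Q v) < 2 * Fintype.card F ^ finrank F (perp Q v w)) :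
    Levi h H := by
  classical
  haveI : Finite V := finite_space F V
  set q := Fintype.card F with hq'
  have hq : 2 ≤ q := Fintype.one_lt_card
  have hd := h.finrank_perp
  set d := finrank F (perp Q v w) with hd'
  have hE := relIndex_EG h H
  rw [← hd', ← hq'] at hE
  have hWq : Nat.card (Wp Q h H) ≤ q := by
    rw [hq', ← Nat.card_eq_fintype_card]
    refine Nat.card_le_card_of_injective (fun y => polar Q x y.1) fun a b e => ?_
    have := hs _ (sub_mem a.2 b.2) (by
      have e' : polar Q x a.1 = polar Q x b.1 := e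
      rw [sub_eq_add_neg, polar_add_right, polar_neg_right, e', add_neg_cancel])
    exact Subtype.ext (sub_eq_zero.1 this)
  have hbot : Wp Q h H = ⊥ := by
    by_contra hne
    obtain ⟨a, ha, ha0⟩ : ∃ a ∈ Wp Q h H, a ≠ 0 := by
      by_contra hc
      push Not at hc
      exact hne ((AddSubgroup.eq_bot_iff_forall _).2 hc)
    have hb := point_bound hQ (by omega) h (show 5 ≤ d by omega) H ((Wp Q h H : Set V) \ {0})
      (fun g hg hg' y hy => ⟨wp_invariant hQ (by omega) h hg hg' hy.1, fun e => hy.2 (by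
        have e' : act Q v w g y = 0 := e
        have := congrArg (act Q v w g⁻¹) e'
        rw [← act_mul h (inv_mem hg'.1) hg'.1 hy.1.1, inv_mul_cancel,
          (act_fix h (one_app Q v) (one_app Q w) hy.1.1).1, one_app] at this
        rw [Set.mem_singleton_iff, this, act]
        simp [proj])⟩) (fun y hy => hy.1.1) (a := a) ⟨ha, ha0⟩ ha0
    have hl := level_ge hQ (by omega) h (show 5 ≤ d by omega) (Q a)
    rw [← hd', ← hq'] at hl
    have hT : ((Wp Q h H : Set V) \ {0}).ncard ≤ q - 1 := by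
      have := Set.ncard_sdiff_singleton_add_one (show (0 : V) ∈ (Wp Q h H : Set V) from zero_mem _) (Set.toFinite _)
      rw [← Nat.card_coe_set_eq (Wp Q h H : Set V)] at this
      have hWq' : Nat.card (Wp Q h H : Set V) ≤ q := hWq
      omega
    have hE' : q ^ (d - 1) ≤ H.relIndex (EG Q h) := by
      refine Nat.le_of_mul_le_mul_right ?_ (show 0 < q by omega)
      rw [← pow_succ, show d - 1 + 1 = d by omega, ← hE]
      exact Nat.mul_le_mul_left _ hWq
    have h3 : q ^ (d - 1) * ((q - 1) * q ^ (d - 2)) ≤ H.relIndex (Pst Q v) * (q - 1) :=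
      le_trans (Nat.mul_le_mul hE' hl) (le_trans hb (Nat.mul_le_mul_left _ hT))
    have h4 : q ^ (d - 1) * q ^ (d - 2) ≤ H.relIndex (Pst Q v) := by
      refine Nat.le_of_mul_le_mul_right ?_ (show 0 < q - 1 by omega)
      exact le_trans (le_of_eq (by ring)) h3
    have h5 : 2 * q ^ d ≤ q ^ (d - 1) * q ^ (d - 2) :=
      calc 2 * q ^ d ≤ q * q ^ d := Nat.mul_le_mul_right _ hq
        _ = q ^ (d + 1) := by ring
        _ ≤ q ^ (d - 1 + (d - 2)) := Nat.pow_le_pow_right (by omega) (by omega)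
        _ = _ := pow_add _ _ _
    omega
  refine ⟨hbot, ?_⟩
  by_contra hne
  obtain ⟨g, hg, hgn⟩ := SetLike.not_le_iff_exists.1 hne
  have := relIndex_family (ι := Bool) H (Pst Q v) (EG Q h) (EG_le hQ (by omega) h)
    (fun k => k ∈ (H ⊓ Pst Q v) ⊔ EG Q h) (fun k hk => hk) (fun i => if i then g else 1)
    (fun i => by cases i <;> simp [hg, one_mem]) (fun i j hij => by
      cases i <;> cases j <;> simp at hij ⊢
      · exact hgn hij
      · exact hgn hij)
  rw [Nat.card_eq_fintype_card, Fintype.card_bool] at this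
  rw [hbot, AddSubgroup.card_bot, mul_one] at hE
  rw [hE] at this
  omega

theorem sup_decomp (hn : 5 ≤ finrank F V) (h : Hyp Q v w) {H : Subgroup (quadIso Q)} {g : quadIso Q}
    (hg : g ∈ (H ⊓ Pst Q v) ⊔ EG Q h) : ∃ y ∈ perp Q v w, g * eg Q v y ∈ H := by
  suffices g ∈ Pst Q v ∧ ∃ y ∈ perp Q v w, g * eg Q v y ∈ H from this.2
  refine Subgroup.closure_induction (p := fun g _ => g ∈ Pst Q v ∧ ∃ y ∈ perp Q v w, g * eg Q v y ∈ H) ?_ ?_ ?_ ?_
    (show g ∈ Subgroup.closure (↑(H ⊓ Pst Q v) ∪ ↑(EG Q h) : Set (quadIso Q)) by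
      rw [Subgroup.closure_union, Subgroup.closure_eq, Subgroup.closure_eq]; exact hg)
  · rintro g (hg | hg)
    · exact ⟨hg.2, 0, zero_mem _, by rw [eg_zero h.qv, mul_one]; exact hg.1⟩
    · refine ⟨EG_le hQ hn h hg, ?_⟩
      obtain ⟨y, hy, rfl⟩ := hg
      exact ⟨-y, neg_mem hy, by rw [← eg_inv h.qv ((mem_perp Q).1 hy).1, mul_inv_cancel]; exact one_mem _⟩
  · exact ⟨one_mem _, 0, zero_mem _, by rw [eg_zero h.qv, mul_one]; exact one_mem _⟩
  · rintro a b - - ⟨ha, y, hy, hay⟩ ⟨hb, z, hz, hbz⟩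
    refine ⟨mul_mem ha hb, act Q v w b⁻¹ y + z, add_mem (act_mem h _ _) hz, ?_⟩
    rw [eg_add h.qv ((mem_perp Q).1 (act_mem h _ _)).1 ((mem_perp Q).1 hz).1, ← conj_eg h (inv_mem hb.1) hy, inv_inv]
    have := mul_mem hay hbz
    convert this using 1
    group
  · rintro a - ⟨ha, y, hy, hay⟩
    refine ⟨inv_mem ha, act Q v w a (-y), act_mem h _ _, ?_⟩
    rw [← conj_eg h ha.1 (neg_mem hy), ← eg_inv h.qv ((mem_perp Q).1 hy).1]
    have := inv_mem hay
    convert this using 1
    group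

theorem levi_decomp (hn : 5 ≤ finrank F V) (h : Hyp Q v w) {H : Subgroup (quadIso Q)} (hL : Levi h H) {g : quadIso Q}
    (hg : g ∈ Pst Q v) : ∃ y ∈ perp Q v w, g * eg Q v y ∈ H := sup_decomp hQ hn h (hL.2 hg)

end CfsgLib.OmegaMin
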