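import Mathlib
import Cfsg.Agent.Lib.OmegaMin.PointStep
import Cfsg.Agent.Lib.SympSimple

/-! A Levi complement at a point, over fields with at least four elements. -/

set_option autoImplicit false
set_option maxHeartbeats 1000000

namespace CfsgLib.OmegaMin

open QuadraticMap CfsgLib.WittExtension Module CfsgLib.SpinorNorm CfsgLib.Eichler CfsgLib.OmegaSimple
open scoped commutatorElement

universe uF uV

variable {F : Type uF} {V : Type uV} [Field F] [AddCommGroup V] [Module F V] {Q : QuadraticForm F V} {v w : V}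

theorem refl_fix {a x : V} (ha : Q a ≠ 0) (h : polar Q a x = 0) : (refl Q ha).1 x = x := by
  rw [refl_apply, h]; simp

/-- The reflection in `v - t w` on the pair. -/
theorem refl_pair (h : Hyp Q v w) {t : F} (ht : t ≠ 0) :
    ∃ ha : Q (v - t • w) ≠ 0, (refl Q ha).1 v = t • w ∧ (refl Q ha).1 w = t⁻¹ • v ∧
      ∀ y ∈ perp Q v w, (refl Q ha).1 y = y := by
  have e : Q (v - t • w) = -t := by
    rw [sub_eq_add_neg, ← neg_smul, QuadraticMap.map_add Q v, QuadraticMap.map_smul, h.qv, h.qw, polar_smul_right, h.vw]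
    simp
  have p1 : polar Q (v - t • w) v = -t := by
    simp [sub_eq_add_neg, polar_add_left, polar_neg_left, polar_smul_left, pol_sing Q h.qv, h.qv, h.wv]
  have p2 : polar Q (v - t • w) w = 1 := by
    simp [sub_eq_add_neg, polar_add_left, polar_neg_left, polar_smul_left, pol_sing Q h.qw, h.qw, h.vw]
  refine ⟨by rw [e]; exact neg_ne_zero.2 ht, ?_, ?_, fun y hy => refl_fix _ ?_⟩
  · rw [refl_apply, e, p1, show (-((-t)⁻¹ * -t)) = (-1 : F) by field_simp]
    module
  · rw [refl_apply, e, p2, mul_one, smul_sub, smul_smul, show -(-t)⁻¹ * t = (1 : F) by field_simp,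
      show -(-t)⁻¹ = t⁻¹ by rw [inv_neg, neg_neg]]
    module
  · obtain ⟨h1, h2⟩ := (mem_perp Q).1 hy
    simp [sub_eq_add_neg, polar_add_left, polar_neg_left, polar_smul_left, h1, h2]

theorem inv_app_eq (g : quadIso Q) {x y : V} (e : g.1 x = y) : g⁻¹.1 y = x := by rw [← e, inv_app_app]

/-- The square torus. -/
theorem square_torus (h : Hyp Q v w) {s : F} (hs : s ≠ 0) :
    ∃ g ∈ Om Q, g.1 v = (s * s) • v ∧ g.1 w = (s * s)⁻¹ • w ∧ ∀ y ∈ perp Q v w, g.1 y = y := by
  obtain ⟨h1, a1, b1, c1⟩ := refl_pair h (t := 1) one_ne_zero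
  obtain ⟨hs', a2, b2, c2⟩ := refl_pair h hs
  replace a1 : (refl Q h1).1 v = w := a1.trans (one_smul F w)
  replace b1 : (refl Q h1).1 w = v := b1.trans (by rw [inv_one, one_smul])
  set σ := refl Q h1
  set τ := σ * refl Q hs' with hτ
  have t1 : τ.1 v = s • v := by rw [hτ, mul_app, a2, map_smul, b1]
  have t2 : τ.1 w = s⁻¹ • w := by rw [hτ, mul_app, b2, map_smul, a1]
  have hσi : σ⁻¹ = σ := inv_eq_of_mul_eq_one_right (refl_mul_self Q h1)
  refine ⟨⁅τ, σ⁆, ?_, ?_, ?_, fun y hy => ?_⟩
  · rw [Om, _root_.commutator_def]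
    exact Subgroup.commutator_mem_commutator (Subgroup.mem_top _) (Subgroup.mem_top _)
  · rw [commutatorElement_def, hσi, mul_app, mul_app, mul_app, a1,
      inv_app_eq τ (show τ.1 (s • w) = w by rw [map_smul, t2, smul_smul, mul_inv_cancel₀ hs, one_smul]),
      map_smul, b1, map_smul, t1, smul_smul]
  · rw [commutatorElement_def, hσi, mul_app, mul_app, mul_app, b1,
      inv_app_eq τ (show τ.1 (s⁻¹ • v) = v by rw [map_smul, t1, smul_smul, inv_mul_cancel₀ hs, one_smul]),
      map_smul, a1, map_smul, t2, smul_smul, mul_inv]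
  · have hy' : τ.1 y = y := by rw [hτ, mul_app, c2 y hy, c1 y hy]
    rw [commutatorElement_def, hσi, mul_app, mul_app, mul_app, c1 y hy, inv_app_eq τ hy', c1 y hy, hy']

variable [Fintype F] [FiniteDimensional F V]

/-- The full torus, fixing a given singular vector. -/
theorem full_torus (hQ : (polarBilin Q).Nondegenerate) (hn : 7 ≤ finrank F V) (h : Hyp Q v w) {p : V}
    (hp : p ∈ perp Q v w) (hp0 : p ≠ 0) (hQp : Q p = 0) {t : F} (ht : t ≠ 0) :
    ∃ g ∈ Om Q, g.1 v = t • v ∧ g.1 w = t⁻¹ • w ∧ g.1 p = p := by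
  obtain ⟨p', hfr⟩ := exists_fr hQ h hp hp0 hQp
  have hM := hfr.finrank_mid
  obtain ⟨e, f, hef⟩ := exists_hyp (hfr.mid_nondeg hQ) (show 3 ≤ finrank F (Mid Q v p w p') by omega)
  have he : Q e.1 = 0 := hef.qv
  have hf : Q f.1 = 0 := hef.qw
  have hef' : polar Q e.1 f.1 = 1 := by rw [← sub_polar]; exact hef.vw
  obtain ⟨hT, aT, bT, cT⟩ := refl_pair h ht
  obtain ⟨h1, a1, b1, c1⟩ := refl_pair h (t := 1) one_ne_zero
  replace a1 : (refl Q h1).1 v = w := a1.trans (one_smul F w)
  replace b1 : (refl Q h1).1 w = v := b1.trans (by rw [inv_one, one_smul])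
  have hh : Hyp Q e.1 f.1 := ⟨he, hf, hef'⟩
  obtain ⟨hTe, -⟩ := refl_pair hh ht
  obtain ⟨h1e, -⟩ := refl_pair hh (t := 1) one_ne_zero
  set π := QuotientGroup.mk' (Om Q) with hπ
  have key : ∀ {a b : V} (ha : Q a ≠ 0) (hb : Q b ≠ 0), Q a = Q b → π (refl Q ha) = π (refl Q hb) := by
    intro a b ha hb hab
    obtain ⟨e₁, w₁, e₂, w₂, q1, p1, q2, p2, e⟩ := level_move hQ (show 5 ≤ finrank F V by omega)
      (fun h0 => ha (by rw [h0, QuadraticMap.map_zero])) (fun h0 => hb (by rw [h0, QuadraticMap.map_zero])) hab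
    set k := eg Q e₂ w₂ * eg Q e₁ w₁ with hk
    have hkm : π k = 1 := (QuotientGroup.eq_one_iff k).2 (mul_mem (eg_mem Q hQ (by omega) q2 p2) (eg_mem Q hQ (by omega) q1 p1))
    have hka : Q (k.1 a) ≠ 0 := by rw [k.2]; exact ha
    rw [show refl Q hb = refl Q hka by congr 1; exact e.symm, ← conj_refl Q k ha hka, map_mul, map_mul, map_inv, hkm]
    simp
  have eT : Q (v - t • w) = Q (e.1 - t • f.1) := by
    rw [sub_eq_add_neg, sub_eq_add_neg, ← neg_smul, ← neg_smul, QuadraticMap.map_add Q v, QuadraticMap.map_add Q e.1,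
      QuadraticMap.map_smul, QuadraticMap.map_smul, h.qv, h.qw, he, hf, polar_smul_right, polar_smul_right, h.vw, hef']
  have e1 : Q (v - (1 : F) • w) = Q (e.1 - (1 : F) • f.1) := by
    rw [sub_eq_add_neg, sub_eq_add_neg, ← neg_smul, ← neg_smul, QuadraticMap.map_add Q v, QuadraticMap.map_add Q e.1,
      QuadraticMap.map_smul, QuadraticMap.map_smul, h.qv, h.qw, he, hf, polar_smul_right, polar_smul_right, h.vw, hef']
  refine ⟨refl Q h1 * refl Q hT * (refl Q hTe * refl Q h1e), ?_, ?_, ?_, ?_⟩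
  · refine (QuotientGroup.eq_one_iff _).1 ?_
    show π _ = 1
    rw [map_mul, map_mul, map_mul, ← key hT hTe eT, ← key h1 h1e e1, mul_assoc, ← mul_assoc (π (refl Q hT)),
      ← map_mul π (refl Q hT), refl_mul_self, map_one, one_mul, ← map_mul, refl_mul_self, map_one]
  all_goals
    obtain ⟨m1, m2, m3, m4, n1, n2, n3, n4⟩ := mid4 e.2
    obtain ⟨o1, o2, o3, o4, r1, r2, r3, r4⟩ := mid4 f.2
  · have fe : ∀ x, polar Q e.1 x = 0 → polar Q f.1 x = 0 → (refl Q hTe).1 ((refl Q h1e).1 x) = x := fun x q1 q2 => by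
      rw [refl_fix h1e (by simp [sub_eq_add_neg, polar_add_left, polar_neg_left, q1, q2]),
        refl_fix hTe (by simp [sub_eq_add_neg, polar_add_left, polar_neg_left, polar_smul_left, q1, q2])]
    rw [mul_app, mul_app, mul_app, fe v n1 r1, aT, map_smul, b1]
  · have fe : ∀ x, polar Q e.1 x = 0 → polar Q f.1 x = 0 → (refl Q hTe).1 ((refl Q h1e).1 x) = x := fun x q1 q2 => by
      rw [refl_fix h1e (by simp [sub_eq_add_neg, polar_add_left, polar_neg_left, q1, q2]),
        refl_fix hTe (by simp [sub_eq_add_neg, polar_add_left, polar_neg_left, polar_smul_left, q1, q2])]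
    rw [mul_app, mul_app, mul_app, fe w n2 r2, bT, map_smul, a1]
  · have fe : ∀ x, polar Q e.1 x = 0 → polar Q f.1 x = 0 → (refl Q hTe).1 ((refl Q h1e).1 x) = x := fun x q1 q2 => by
      rw [refl_fix h1e (by simp [sub_eq_add_neg, polar_add_left, polar_neg_left, q1, q2]),
        refl_fix hTe (by simp [sub_eq_add_neg, polar_add_left, polar_neg_left, polar_smul_left, q1, q2])]
    rw [mul_app, mul_app, mul_app, fe p n3 r3, cT p hp, c1 p hp]

omit [Fintype F] in
/-- Root groups of a totally singular pair. -/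
theorem root_span {u y : V} (hu : Q u = 0) (hy : Q y = 0) (huy : polar Q u y = 0) {H : Subgroup (quadIso Q)}
    (hH : ∀ t : F, eg Q u (t • y) ∈ H) (a b c d : F) : eg Q (a • u + b • y) (c • u + d • y) ∈ H := by
  have hyu : polar Q y u = 0 := by rw [pol_symm]; exact huy
  have hr : Q (c • u + d • y) = 0 := by
    rw [QuadraticMap.map_add Q (c • u), QuadraticMap.map_smul, QuadraticMap.map_smul, hu, hy, polar_smul_left,
      polar_smul_right, huy]
    simp
  have e1 : polar Q u (c • u + d • y) = 0 := by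
    rw [polar_add_right, polar_smul_right, polar_smul_right, pol_sing Q hu, huy]; simp
  have e2 : polar Q y (c • u + d • y) = 0 := by
    rw [polar_add_right, polar_smul_right, polar_smul_right, pol_sing Q hy, hyu]; simp
  have qa : Q (a • u) = 0 := by rw [QuadraticMap.map_smul, hu, smul_zero]
  have qb : Q (b • y) = 0 := by rw [QuadraticMap.map_smul, hy, smul_zero]
  have ab : polar Q (a • u) (b • y) = 0 := by rw [polar_smul_left, polar_smul_right, huy, smul_zero, smul_zero]
  have ad : polar Q u ((a * d) • y) = 0 := by rw [polar_smul_right, huy, smul_zero]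
  have bc : polar Q y ((b * c) • u) = 0 := by rw [polar_smul_right, hyu, smul_zero]
  rw [eg_add_left qa qb ab (by rw [polar_smul_left, e1, smul_zero]) (by rw [polar_smul_left, e2, smul_zero]), hr,
    neg_zero, zero_smul, eg_zero qa, one_mul, eg_smul_left hu e1, eg_smul_left hy e2,
    show a • (c • u + d • y) = (a * d) • y + (a * c) • u by module, eg_shift hu ad,
    show b • (c • u + d • y) = (b * c) • u + (b * d) • y by module, eg_shift hy bc]
  refine mul_mem (hH _) ?_
  have hk : polar Q u ((-(b * c)) • y) = 0 := by rw [polar_smul_right, huy, smul_zero]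
  have := eg_swap (e := (-(b * c)) • u) (f := y) (by rw [QuadraticMap.map_smul, hu, smul_zero]) hy
    (by rw [polar_smul_left, huy, smul_zero])
  rw [neg_smul, neg_neg, ← neg_smul, eg_smul_left hu huy] at this
  rw [this]
  exact hH _

variable (hQ : (polarBilin Q).Nondegenerate) (hn : 7 ≤ finrank F V)
include hQ hn

/-- A subgroup containing a point stabiliser fixes the point. -/
theorem pst_maximal {x : V} (hx0 : x ≠ 0) (hx : Q x = 0) {H : Subgroup (quadIso Q)} (hH : H ≤ Om Q)
    (hne : ¬ Om Q ≤ H) (hP : Pst Q x ≤ H) : H ≤ Line Q x := by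
  intro g hg
  by_contra hgn
  obtain ⟨m, hm, hmp⟩ : ∃ m ∈ H, polar Q x (m.1 x) ≠ 0 := by
    by_cases hp : polar Q x (g.1 x) = 0
    swap
    · exact ⟨g, hg, hp⟩
    have hy0 : g.1 x ≠ 0 := fun e => hx0 (g.1.injective (e.trans g.1.map_zero.symm))
    obtain ⟨k, hk, hk1, hk2⟩ := exists_nonperp_pair Q hQ (by omega) hy0 hx (by rw [g.2]; exact hx) hp
      (fun c e => by
        have hc : c ≠ 0 := fun h0 => hx0 (by rw [e, h0, zero_smul])
        exact hgn ⟨c⁻¹, by rw [eq_inv_smul_iff₀ hc]; exact e.symm⟩)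
    have hkom : k ∈ Om Q := by show k ∈ commutator _; rw [commutator_eq Q hQ (by omega)]; exact hk
    have hkx : g⁻¹ * k * g ∈ H := by
      refine hP ⟨⟨1, ?_⟩, ?_⟩
      · rw [mul_app, mul_app, hk1, inv_app_app, one_smul]
      · simpa [mul_assoc] using conj_mem_om Q g⁻¹ hkom
    refine ⟨k, ?_, hk2⟩
    have := mul_mem (mul_mem hg hkx) (inv_mem hg)
    simpa [mul_assoc] using this
  set b := polar Q x (m.1 x) with hb
  have hQm : Q (m.1 x) = 0 := by rw [m.2]; exact hx
  have hh : Hyp Q x (b⁻¹ • m.1 x) := ⟨hx, by rw [QuadraticMap.map_smul, hQm, smul_zero],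
    by rw [polar_smul_right, smul_eq_mul, ← hb, inv_mul_cancel₀ hmp]⟩
  refine hne (two_radicals hQ (by omega) hh H (le_trans (EG_le hQ (by omega) hh) hP) ?_)
  rintro k ⟨y, hy, rfl⟩
  have h1 : polar Q (m.1 x) y = 0 := by
    have := ((mem_perp Q).1 hy).1
    rw [polar_smul_left, smul_eq_mul] at this
    exact (mul_eq_zero.1 this).resolve_left (inv_ne_zero hmp)
  have h2 : polar Q x (m⁻¹.1 (b⁻¹ • y)) = 0 := by
    rw [← polar_iso Q m, app_inv_app, polar_smul_right, h1, smul_zero]
  have h3 := mul_mem (mul_mem hm (hP ⟨⟨1, by rw [eg_self hx h2, one_smul]⟩, eg_mem Q hQ (by omega) hx h2⟩)) (inv_mem hm)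
  rw [eg_conj hx h2, app_inv_app] at h3
  rwa [eg_smul_left hQm h1]

omit hn in
theorem levi_change (h : Hyp Q v w) {w' : V} (h' : Hyp Q v w') {H : Subgroup (quadIso Q)} (hL : Levi h H) :
    Levi h' H := by
  refine ⟨(AddSubgroup.eq_bot_iff_forall _).2 fun y hy => ?_, ?_⟩
  · obtain ⟨hy1, hy2⟩ := hy
    obtain ⟨y1, y2⟩ := (mem_perp Q).1 hy1
    rw [eg_proj h y1] at hy2
    have h3 : proj Q v w y = 0 := by
      have : proj Q v w y ∈ Wp Q h H := ⟨h.proj_mem y, hy2⟩
      rwa [hL.1, AddSubgroup.mem_bot] at this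
    have e : y = polar Q w y • v := by
      conv_lhs => rw [h.decomp y, h3, y1, zero_smul, add_zero, zero_add]
    have e2 := congrArg (polar Q w') e
    rw [y2, polar_smul_right, h'.wv, smul_eq_mul, mul_one] at e2
    rw [e, ← e2, zero_smul]
  · have : EG Q h = EG Q h' := by
      refine le_antisymm ?_ ?_
      · rintro g ⟨y, hy, rfl⟩; exact ⟨_, h'.proj_mem y, eg_proj h' ((mem_perp Q).1 hy).1⟩
      · rintro g ⟨y, hy, rfl⟩; exact ⟨_, h.proj_mem y, eg_proj h ((mem_perp Q).1 hy).1⟩
    rw [← this]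
    exact hL.2

/-- With four field elements a Levi point forces a fixed point. -/
theorem levi_big (hq : 4 ≤ Fintype.card F) (H : Subgroup (quadIso Q)) (hH : H ≤ Om Q) (hne : ¬ Om Q ≤ H)
    (h0 : Hyp Q v w) (hL0 : Levi h0 H)
    (hlt : H.relIndex (Om Q) < 2 * Fintype.card F ^ finrank F (perp Q v w)) :
    Nat.card (SPt Q) ≤ H.relIndex (Om Q) := by
  classical
  haveI : Finite V := finite_space F V
  obtain ⟨s, hs0, hs2⟩ := SympSimple.field_cond (F := F) hq
  set lam := s * s with hlam
  have hl0 : lam ≠ 0 := mul_ne_zero hs0 hs0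
  have hl1 : lam ≠ 1 := by rw [hlam, ← pow_two]; exact hs2
  -- a torus element in `H`
  obtain ⟨w', h, hL, τ, hτH, tv, tw, tp⟩ : ∃ w', ∃ h : Hyp Q v w', Levi h H ∧ ∃ τ ∈ H, τ.1 v = lam • v ∧
      τ.1 w' = lam⁻¹ • w' ∧ ∀ y ∈ perp Q v w', τ.1 y = y := by
    obtain ⟨τ, hτ, t1, t2, t3⟩ := square_torus h0 hs0
    obtain ⟨y, hy, hτy⟩ := levi_decomp hQ (by omega) h0 hL0 (⟨⟨lam, t1⟩, hτ⟩ : τ ∈ Pst Q v)
    obtain ⟨y1, y2⟩ := (mem_perp Q).1 hy
    set z := (lam⁻¹ - 1)⁻¹ • y with hz
    have hlam1 : lam⁻¹ - 1 ≠ 0 := sub_ne_zero.2 (fun e => hl1 (inv_eq_one.1 e))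
    have hzm : z ∈ perp Q v w := Submodule.smul_mem _ _ hy
    obtain ⟨z1, z2⟩ := (mem_perp Q).1 hzm
    set c := eg Q v z with hc
    have cv : c.1 v = v := eg_self h0.qv z1
    have hmain : c * τ * c⁻¹ = τ * eg Q v y := by
      have hτL : τ⁻¹ ∈ Line Q v := inv_mem (show τ ∈ Line Q v from ⟨lam, t1⟩)
      have e1 := conj_eg h0 hτL hzm
      have ei : τ⁻¹.1 v = lam⁻¹ • v := inv_app_eq τ (by rw [map_smul, t1, smul_smul, inv_mul_cancel₀ hl0, one_smul])
      have ez : τ⁻¹.1 z = z := inv_app_eq τ (t3 z hzm)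
      rw [act, ei, polar_smul_right, h0.wv, smul_eq_mul, mul_one, ez, proj_eq hzm, inv_inv] at e1
      have ey : y = lam⁻¹ • z + -z := by
        rw [hz, ← sub_eq_add_neg, smul_smul, ← sub_smul, show lam⁻¹ * (lam⁻¹ - 1)⁻¹ - (lam⁻¹ - 1)⁻¹ = 1 by
          rw [← sub_one_mul, mul_inv_cancel₀ hlam1], one_smul]
      have h1 : polar Q v (lam⁻¹ • z) = 0 := by rw [polar_smul_right, z1, smul_zero]
      rw [ey, eg_add h0.qv h1 (by rw [polar_neg_right, z1, neg_zero]), ← e1, ← eg_inv h0.qv z1, hc]
      group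
    have h : Hyp Q v (c.1 w) := ⟨h0.qv, by rw [c.2, h0.qw], by conv_lhs => rw [← cv, polar_iso]; exact h0.vw⟩
    refine ⟨c.1 w, h, levi_change hQ h0 h hL0, c * τ * c⁻¹, hmain ▸ hτy, ?_, ?_, fun x hx => ?_⟩
    · rw [mul_app, mul_app, inv_app_eq c cv, t1, map_smul, cv]
    · rw [mul_app, mul_app, inv_app_app, t2, map_smul]
    · obtain ⟨x1, x2⟩ := (mem_perp Q).1 hx
      have : c⁻¹.1 x ∈ perp Q v w := (mem_perp Q).2 ⟨by
        conv_lhs => rw [← inv_app_eq c cv, polar_iso]
        exact x1, by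
        conv_lhs => rw [← inv_app_app Q c w, polar_iso]
        exact x2⟩
      rw [mul_app, mul_app, t3 _ this, app_inv_app]
  clear hL0
  have hd : finrank F (perp Q v w') = finrank F (perp Q v w) := by
    have := h.finrank_perp; have := h0.finrank_perp; omega
  rw [← hd] at hlt
  -- elements of `H` fixing `v` fix `w'`
  have fixw : ∀ k ∈ H, k ∈ Line Q v → k ∈ Line Q w' := by
    intro k hk hkv
    obtain ⟨ek, hk0⟩ := line_scalar h hkv
    set μ := polar Q w' (k.1 v)
    set m := k * τ * k⁻¹ * τ⁻¹ with hm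
    have hmH : m ∈ H := mul_mem (mul_mem (mul_mem hk hτH) (inv_mem hk)) (inv_mem hτH)
    have kiv : k⁻¹.1 v = μ⁻¹ • v := inv_app_eq k (by rw [map_smul, ek, smul_smul, inv_mul_cancel₀ hk0, one_smul])
    have tiv : τ⁻¹.1 v = lam⁻¹ • v := inv_app_eq τ (by rw [map_smul, tv, smul_smul, inv_mul_cancel₀ hl0, one_smul])
    have mv : m.1 v = v := by
      rw [hm, mul_app, mul_app, mul_app, tiv, map_smul, map_smul, map_smul, kiv, map_smul, map_smul, tv, map_smul,
        ek, smul_smul, smul_smul, smul_smul]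
      rw [show lam⁻¹ * μ⁻¹ * lam * μ = 1 by field_simp, one_smul]
    have my : ∀ y ∈ perp Q v w', ∃ b : F, m.1 y = y + b • v := by
      intro y hy
      rw [hm]
      simp only [mul_app]
      rw [inv_app_eq τ (tp y hy)]
      have hk' : polar Q v (k⁻¹.1 y) = 0 := perp_map h (inv_mem hkv) hy
      have e := h.decomp (k⁻¹.1 y)
      rw [hk', zero_smul, add_zero] at e
      set a := polar Q w' (k⁻¹.1 y)
      refine ⟨a * lam * μ - a * μ, ?_⟩
      rw [e, map_add, map_smul, tp _ (h.proj_mem _), tv, map_add, map_smul, map_smul, ek]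
      have e2 : k.1 (proj Q v w' (k⁻¹.1 y)) = y - (a * μ) • v := by
        have := congrArg k.1 e
        rw [app_inv_app, map_add, map_smul, ek, smul_smul] at this
        exact eq_sub_of_add_eq this.symm
      rw [e2, smul_smul, smul_smul]
      module
    have hmEG := unip_eq h m mv my
    have hz : proj Q v w' (m.1 w') ∈ Wp Q h H := ⟨h.proj_mem _, hmEG ▸ hmH⟩
    rw [hL.1, AddSubgroup.mem_bot] at hz
    rw [hz, eg_zero h.qv] at hmEG
    have hcomm : k * τ = τ * k := by
      have := congrArg (· * (τ * k)) hmEG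
      simp only [hm, one_mul] at this
      rw [← this]; group
    -- the eigenspace
    set x := k.1 w' with hx
    have hτx : τ.1 x = lam⁻¹ • x := by rw [hx, ← mul_app, ← hcomm, mul_app, tw, map_smul]
    have hdec := h.decomp x
    set a := polar Q w' x
    set b := polar Q v x
    set z := proj Q v w' x
    have hb : b ≠ 0 := by
      intro e
      have h1 := polar_iso Q k v w'
      rw [ek, ← hx, polar_smul_left, show polar Q v x = b from rfl, e, smul_zero, h.vw] at h1
      exact zero_ne_one h1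
    rw [hdec, map_add, map_add, map_smul, map_smul, tp z (h.proj_mem x), tv, tw, smul_add, smul_add] at hτx
    have hz0 : z = 0 := by
      have hz' := congrArg (proj Q v w') hτx
      simp only [proj_add, proj_smul, proj_eq (h.proj_mem x), proj_line h] at hz'
      have hpw : proj Q v w' w' = 0 := by simp [proj, h.vw, pol_sing Q h.qw, h.qw]
      rw [hpw] at hz'
      simp only [smul_zero, add_zero] at hz'
      have h2 : ((1 : F) - lam⁻¹) • z = 0 := by rw [sub_smul, one_smul, sub_eq_zero]; rwa [proj_eq (h.proj_mem x : z ∈ perp Q v w')] at hz'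
      exact (smul_eq_zero.1 h2).resolve_left (sub_ne_zero.2 fun e => hl1 (inv_eq_one.1 e.symm))
    have hQx := (h.parts (h.proj_mem x) a b).2.2
    rw [← hdec, hx, k.2, h.qw, show proj Q v w' x = z from rfl, hz0, QuadraticMap.map_zero, zero_add] at hQx
    have ha : a = 0 := (mul_eq_zero.1 hQx.symm).resolve_right hb
    refine ⟨b, ?_⟩
    rw [← hx, hdec, hz0, ha, zero_smul, zero_add, zero_add]
  -- the full Levi complement
  have hlevi : ∀ g ∈ Pst Q v, g ∈ Line Q w' → g ∈ H := by
    intro g hg hgw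
    obtain ⟨y, hy, hgy⟩ := levi_decomp hQ (by omega) h hL hg
    obtain ⟨y1, y2⟩ := (mem_perp Q).1 hy
    obtain ⟨c, hc⟩ := fixw _ hgy (mul_mem hg.1 (eg_mem_line h hy))
    obtain ⟨c', hc'⟩ := hgw
    have hc0 : c' ≠ 0 := fun e => h.ne_right (g.1.injective (by rw [hc', e, zero_smul, map_zero]))
    rw [mul_app] at hc
    have h2 : (eg Q v y).1 w' = (c'⁻¹ * c) • w' := by
      apply g.1.injective
      rw [hc, map_smul, hc', smul_smul, show c'⁻¹ * c * c' = c by field_simp]
    have h3 := congrArg (proj Q v w') h2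
    rw [eg_app h.qv y1, h.vw, one_smul, proj_add, proj_add, proj_smul, proj_smul, proj_eq hy,
      show proj Q v w' v = 0 by simpa using proj_line h (1 : F)] at h3
    have hpw : proj Q v w' w' = 0 := by simp [proj, h.vw, pol_sing Q h.qw, h.qw]
    rw [hpw] at h3
    simp only [smul_zero, zero_add, add_zero] at h3
    rwa [h3, eg_zero h.qv, mul_one] at hgy
  have hroot : ∀ a b, a ∈ perp Q v w' → b ∈ perp Q v w' → Q a = 0 → polar Q a b = 0 → eg Q a b ∈ H := by
    intro a b ha hb hQa hab
    obtain ⟨m, f1, f2⟩ := eg_fix_pair hQ (by omega) hQa hab ha hb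
    exact hlevi _ m ⟨1, by rw [f2, one_smul]⟩
  -- a third point in the orbit
  haveI := finite_spt (Q := Q)
  obtain ⟨k, hk, hk1, hk2⟩ : ∃ k ∈ H, (∀ c : F, k.1 v ≠ c • v) ∧ (∀ c : F, k.1 v ≠ c • w') := by
    by_contra hc
    push Not at hc
    have hN := orbit_count H (Om Q) hH (pt h.ne_left h.qv : SPt Q)
    rw [Nat.card_congr (Equiv.subtypeUnivEquiv fun x => spt_transitive hQ (by omega) (pt h.ne_left h.qv) x),
      pst_stab h.ne_left h.qv] at hN
    have ho : Nat.card (MulAction.orbit H (pt h.ne_left h.qv : SPt Q)) ≤ 2 := by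
      rw [Nat.card_coe_set_eq]
      refine le_trans (Set.ncard_le_ncard (t := {pt h.ne_left h.qv, pt h.ne_right h.qw}) ?_ (Set.toFinite _)) ?_
      · rintro _ ⟨⟨k, hk⟩, rfl⟩
        by_cases hkv : ∀ c : F, k.1 v ≠ c • v
        · obtain ⟨c, hc'⟩ := hc k hk hkv
          refine Or.inr ?_
          show k • pt h.ne_left h.qv = _
          refine smul_pt_eq k _ _ _ _ (c := c) ?_ hc'
          exact fun e => h.ne_left (k.1.injective (by rw [hc', e, zero_smul, map_zero]))
        · push Not at hkv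
          obtain ⟨c, hc'⟩ := hkv
          refine Or.inl ?_
          show k • pt h.ne_left h.qv = _
          refine smul_pt_eq k _ _ _ _ (c := c) ?_ hc'
          exact fun e => h.ne_left (k.1.injective (by rw [hc', e, zero_smul, map_zero]))
      · exact (Set.ncard_insert_le _ _).trans (by rw [Set.ncard_singleton])
    have hcv : Fintype.card F ^ finrank F (perp Q v w') ≤ H.relIndex (Pst Q v) := by
      have := relIndex_EG h H
      rw [hL.1, AddSubgroup.card_bot, mul_one] at this
      rw [← this]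
      exact relIndex_mono H (EG_le hQ (by omega) h)
    have hN5 : 5 ≤ Nat.card (SPt Q) := by
      have h1 := sing_lower hQ (show 3 ≤ finrank F V by omega)
      rw [sing_card_spt] at h1
      have := Nat.le_of_mul_le_mul_left h1 (by omega)
      have h2 : 4 ≤ Fintype.card F ^ (finrank F V - 2) := hq.trans (Nat.le_self_pow (by omega) _)
      omega
    have h1 := Nat.mul_le_mul hlt.le ho
    have h2 := Nat.mul_le_mul hN5 hcv
    have h3 : 0 < Fintype.card F ^ finrank F (perp Q v w') := pow_pos (by omega) _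
    nlinarith
  -- its partner
  have hh' : Hyp Q (k.1 v) (k.1 w') := ⟨by rw [k.2, h.qv], by rw [k.2, h.qw], by rw [polar_iso, h.vw]⟩
  obtain ⟨u, hum, hQu, hun⟩ : ∃ u ∈ perp Q (k.1 v) (k.1 w'), Q u = 0 ∧ u ∉ perp Q v w' := by
    by_contra hc
    push Not at hc
    have hsub : perp Q (k.1 v) (k.1 w') ≤ perp Q v w' := by
      intro y hy
      obtain ⟨e, he0, he⟩ := FiniteForms.exists_singular Q (show 3 ≤ finrank F V by omega)
      have hU := perp_nondeg Q hQ hh'.qv hh'.qw hh'.vw
      have hdU := hh'.finrank_perp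
      have hd3 : 3 ≤ finrank F (perp Q (k.1 v) (k.1 w')) := by omega
      set U := perp Q (k.1 v) (k.1 w')
      obtain ⟨a, b, hab⟩ := exists_hyp hU hd3
      have hs : ∀ z : U, (Q.comp U.subtype) z = 0 → z.1 ∈ perp Q v w' := fun z hz => hc z.1 z.2 hz
      have hdec := hab.decomp ⟨y, hy⟩
      set p : U := proj (Q.comp U.subtype) a b ⟨y, hy⟩
      have hp := hab.proj_mem ⟨y, hy⟩
      have hsum : (Q.comp U.subtype) (p + (-(Q.comp U.subtype) p) • a + (1 : F) • b) = 0 := by
        rw [(hab.parts hp _ _).2.2]; ring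
      have h1 := hs _ hsum
      have h2 := hs _ hab.qv
      have h3 := hs _ hab.qw
      have hy' := congrArg Subtype.val hdec
      simp only [Submodule.coe_add, Submodule.coe_smul] at hy' h1
      rw [hy']
      have h4 : p.1 ∈ perp Q v w' := by
        have := sub_mem (sub_mem h1 (Submodule.smul_mem _ (1 : F) h3)) (Submodule.smul_mem _ (-(Q.comp U.subtype) p) h2)
        rwa [add_sub_cancel_right, add_sub_cancel_right] at this
      exact add_mem (add_mem h4 (Submodule.smul_mem _ _ h2)) (Submodule.smul_mem _ _ h3)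
    have heq := Submodule.eq_of_le_of_finrank_le hsub (by
      have := hh'.finrank_perp; have := h.finrank_perp; omega)
    have hz : proj Q v w' (k.1 v) = 0 := by
      have hU := perp_nondeg Q hQ h.qv h.qw h.vw
      refine congrArg Subtype.val (hU.1 (⟨_, h.proj_mem (k.1 v)⟩ : perp Q v w') fun y => ?_)
      show polar _ _ y = 0
      rw [sub_polar]
      obtain ⟨y1, y2⟩ := (mem_perp Q).1 y.2
      have hy : y.1 ∈ perp Q (k.1 v) (k.1 w') := by rw [heq]; exact y.2
      simp [proj, sub_eq_add_neg, polar_add_left, polar_neg_left, polar_smul_left, y1, y2, ((mem_perp Q).1 hy).1]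
    have hdec := h.decomp (k.1 v)
    rw [hz, zero_add] at hdec
    have hQv := (h.parts (zero_mem _) (polar Q w' (k.1 v)) (polar Q v (k.1 v))).2.2
    rw [zero_add, ← hdec, k.2, h.qv, QuadraticMap.map_zero, zero_add] at hQv
    rcases mul_eq_zero.1 hQv.symm with e | e
    · exact hk2 (polar Q v (k.1 v)) (by conv_lhs => rw [hdec, e, zero_smul, zero_add])
    · exact hk1 (polar Q w' (k.1 v)) (by conv_lhs => rw [hdec, e, zero_smul, add_zero])
  have hu0 : u ≠ 0 := fun e => hun (e ▸ zero_mem _)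
  obtain ⟨u', hu'⟩ := exists_fr hQ hh' hum hu0 hQu
  have hM := hu'.finrank_mid
  obtain ⟨y, hy0, hQy⟩ := FiniteForms.exists_singular (Q.comp (Mid Q (k.1 v) u (k.1 w') u').subtype)
    (show 3 ≤ finrank F (Mid Q (k.1 v) u (k.1 w') u') by omega)
  replace hy0 : y.1 ≠ 0 := fun e => hy0 (Subtype.ext e)
  replace hQy : Q y.1 = 0 := hQy
  have huy : polar Q u y.1 = 0 := (mid4 y.2).2.2.1
  have hline : ∀ t : F, eg Q u (t • y.1) ∈ H := fun t => by
    have ha : k⁻¹.1 u ∈ perp Q v w' := by
      obtain ⟨a1, a2⟩ := (mem_perp Q).1 hum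
      exact (mem_perp Q).2 ⟨by rw [← polar_iso Q k, app_inv_app]; exact a1, by rw [← polar_iso Q k, app_inv_app]; exact a2⟩
    have hb : k⁻¹.1 (t • y.1) ∈ perp Q v w' := by
      obtain ⟨a1, a2⟩ := (mem_perp Q).1 (Submodule.smul_mem _ t y.2.1 : t • y.1 ∈ perp Q (k.1 v) (k.1 w'))
      exact (mem_perp Q).2 ⟨by rw [← polar_iso Q k, app_inv_app]; exact a1, by rw [← polar_iso Q k, app_inv_app]; exact a2⟩
    have hab : polar Q (k⁻¹.1 u) (k⁻¹.1 (t • y.1)) = 0 := by rw [polar_iso, polar_smul_right, huy, smul_zero]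
    have hQa : Q (k⁻¹.1 u) = 0 := by rw [k⁻¹.2]; exact hQu
    have := mul_mem (mul_mem hk (hroot _ _ ha hb hQa hab)) (inv_mem hk)
    rwa [eg_conj hQa hab, app_inv_app, app_inv_app] at this
  have hind : ∀ a b : F, a • u + b • y.1 = 0 → a = 0 ∧ b = 0 := by
    intro a b e
    have e1 := congrArg (polar Q u') e
    rw [polar_add_right, polar_smul_right, polar_smul_right, hu'.h2.wv, (mid4 y.2).2.2.2.1, polar_zero_right] at e1
    simp only [smul_eq_mul, mul_one, mul_zero, add_zero] at e1
    rw [e1, zero_smul, zero_add, smul_eq_zero] at e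
    exact ⟨e1, e.resolve_right hy0⟩
  -- two independent points of the line: one orthogonal to `v`
  obtain ⟨a, b, hab, hpv⟩ : ∃ a b : F, (a ≠ 0 ∨ b ≠ 0) ∧ polar Q v (a • u + b • y.1) = 0 := by
    by_cases e : polar Q v u = 0
    · exact ⟨1, 0, Or.inl one_ne_zero, by simp [e]⟩
    · exact ⟨polar Q v y.1, -polar Q v u, Or.inr (neg_ne_zero.2 e), by
        simp [polar_add_right, polar_smul_right]; ring⟩
  have hWbot : ∀ z, polar Q v z = 0 → eg Q v z ∈ H → proj Q v w' z = 0 := by
    intro z hz hm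
    rw [eg_proj h hz] at hm
    have : proj Q v w' z ∈ Wp Q h H := ⟨h.proj_mem z, hm⟩
    rwa [hL.1, AddSubgroup.mem_bot] at this
  -- root groups avoid `v` and `w'`
  have hQsp : ∀ a b : F, Q (a • u + b • y.1) = 0 := fun a b => by
    rw [QuadraticMap.map_add Q (a • u), QuadraticMap.map_smul, QuadraticMap.map_smul, hQu, hQy, polar_smul_left,
      polar_smul_right, huy]; simp
  have hperp : ∀ a b c d : F, polar Q (a • u + b • y.1) (c • u + d • y.1) = 0 := fun a b c d => by
    simp only [polar_add_left, polar_add_right, polar_smul_left, polar_smul_right, pol_sing Q hQu, pol_sing Q hQy,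
      pol_symm Q y.1 u, huy]
    simp
  -- a point of the line in the radical complement
  have caseI : ∀ a b : F, (a ≠ 0 ∨ b ≠ 0) → a • u + b • y.1 ∈ perp Q v w' →
      Nat.card (SPt Q) ≤ H.relIndex (Om Q) := by
    intro a b hab hπ
    set π := a • u + b • y.1 with hπdef
    have hπ0 : π ≠ 0 := fun e => by
      obtain ⟨e1, e2⟩ := hind a b e
      exact hab.elim (fun h => h e1) (fun h => h e2)
    -- a second vector outside
    obtain ⟨c, d, hr⟩ : ∃ c d : F, c • u + d • y.1 ∉ perp Q v w' := ⟨1, 0, by simpa using hun⟩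
    set r := c • u + d • y.1 with hrdef
    set s := proj Q v w' r with hs
    set A := polar Q w' r with hA
    set B := polar Q v r with hB
    have hπr : polar Q π r = 0 := hperp a b c d
    have hπs : polar Q π s = 0 := by
      obtain ⟨p1, p2⟩ := (mem_perp Q).1 hπ
      rw [hs, proj]
      simp [sub_eq_add_neg, polar_add_right, polar_neg_right, polar_smul_right, hπr, pol_symm Q π v, pol_symm Q π w',
        p1, p2]
    have hπAB : ∀ t : F, eg Q π (t • (A • v + B • w')) ∈ H := by
      intro t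
      have h1 : eg Q π (t • r) ∈ H := by
        have := root_span hQu hQy huy hline a b (t * c) (t * d)
        rwa [show (t * c) • u + (t * d) • y.1 = t • r by rw [hrdef]; module, ← hπdef] at this
      have h2 := hroot π (-(t • s)) hπ (neg_mem (Submodule.smul_mem _ _ (h.proj_mem r))) (hQsp a b)
        (by rw [polar_neg_right, polar_smul_right, hπs, smul_zero, neg_zero])
      have h3 := mul_mem h1 h2
      rw [← eg_add (hQsp a b) (by rw [polar_smul_right, hπr, smul_zero])
        (by rw [polar_neg_right, polar_smul_right, hπs, smul_zero, neg_zero])] at h3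
      rwa [show t • r + -(t • s) = t • (A • v + B • w') by
        conv_lhs => rw [h.decomp r, ← hs, ← hA, ← hB]
        module] at h3
    have hπv : polar Q π v = 0 := by rw [pol_symm]; exact ((mem_perp Q).1 hπ).1
    have hπw : polar Q π w' = 0 := by rw [pol_symm]; exact ((mem_perp Q).1 hπ).2
    obtain ⟨t0, ht0, ht1⟩ := SympSimple.field_cond (F := F) hq
    have ht2 : t0 - t0⁻¹ ≠ 0 := by
      intro e
      apply ht1
      field_simp at e
      linear_combination e
    obtain ⟨g, hg, g1, g2, g3⟩ := full_torus hQ hn h hπ hπ0 (hQsp a b) ht0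
    have hgH : g ∈ H := hlevi g ⟨⟨t0, g1⟩, hg⟩ ⟨t0⁻¹, g2⟩
    have hπAB0 : polar Q π (A • v + B • w') = 0 := by
      rw [polar_add_right, polar_smul_right, polar_smul_right, hπv, hπw]; simp
    have h4 : ∀ t : F, eg Q π (t • (t0 * A) • v + t • (t0⁻¹ * B) • w') ∈ H := by
      intro t
      have hp : polar Q π (t • (A • v + B • w')) = 0 := by rw [polar_smul_right, hπAB0, smul_zero]
      have := mul_mem (mul_mem hgH (hπAB t)) (inv_mem hgH)
      rw [eg_conj (hQsp a b) hp, g3, map_smul, map_add, map_smul, map_smul, g1, g2] at this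
      convert this using 2
      module
    have h5 : ∀ t : F, eg Q π ((t * (t0 - t0⁻¹) * A) • v) ∈ H := by
      intro t
      have hp : polar Q π (t • (t0 * A) • v + t • (t0⁻¹ * B) • w') = 0 := by
        simp [polar_add_right, polar_smul_right, hπv, hπw]
      have := mul_mem (h4 t) (hπAB (-(t * t0⁻¹)))
      rw [← eg_add (hQsp a b) hp (by rw [polar_smul_right, hπAB0, smul_zero])] at this
      convert this using 2
      module
    by_cases hA0 : A = 0
    · -- everything sits at `w'`
      have hB0 : B ≠ 0 := fun e => hr (by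
        rw [h.decomp r, ← hA, ← hB, hA0, e, zero_smul, zero_smul, add_zero, add_zero]
        exact h.proj_mem r)
      have h6 : π ∈ Wp Q h.symm H := by
        refine ⟨(mem_perp Q).2 ⟨by rw [pol_symm]; exact hπw, by rw [pol_symm]; exact hπv⟩, ?_⟩
        have := hπAB (-B⁻¹)
        rw [hA0, zero_smul, zero_add, smul_smul, show -B⁻¹ * B = (-1 : F) by field_simp, neg_one_smul] at this
        rwa [← eg_swap h.qw (hQsp a b) (by rw [pol_symm]; exact hπw)]
      -- the radical at `w'` lies in `H`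
      have hinv : ∀ g ∈ H, g ∈ Pst Q w' → ∀ z ∈ Wp Q h.symm H, act Q w' v g z ∈ Wp Q h.symm H :=
        fun g hg hg' z hz => wp_invariant hQ (by omega) h.symm hg hg' hz
      have hd' : 5 ≤ finrank F (perp Q w' v) := by have := h.symm.finrank_perp; omega
      have hsing : ∀ z ∈ perp Q w' v, z ≠ 0 → Q z = 0 → z ∈ Wp Q h.symm H := by
        intro z hz hz0 hQz
        obtain ⟨g, hg, gw, gv, -, ge⟩ := perp_move hQ (by omega) h.symm hd' h6.1 hz hπ0 hz0
          (by rw [hQz]; exact hQsp a b)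
        rw [← ge]
        exact hinv g (hlevi g ⟨⟨1, by rw [gv, one_smul]⟩, hg.2⟩ ⟨1, by rw [gw, one_smul]⟩) hg _ h6
      have hall : EG Q h.symm ≤ H := by
        rintro _ ⟨z, hz, rfl⟩
        have hd3 : 3 ≤ finrank F (perp Q w' v) := by omega
        have hU := perp_nondeg Q hQ h.symm.qv h.symm.qw h.symm.vw
        set U := perp Q w' v
        obtain ⟨e, f, hef⟩ := exists_hyp hU hd3
        have hs : ∀ z : U, (Q.comp U.subtype) z = 0 → ∀ c : F, c • z.1 ∈ Wp Q h.symm H := fun z hz c => by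
          by_cases h0 : c • z.1 = 0
          · rw [h0]; exact zero_mem _
          · exact hsing _ (Submodule.smul_mem _ _ z.2) h0 (by
              rw [QuadraticMap.map_smul, show Q z.1 = 0 from hz, smul_zero])
        set p : U := proj (Q.comp U.subtype) e f ⟨z, hz⟩
        have hsum : (Q.comp U.subtype) (p + (-(Q.comp U.subtype) p) • e + (1 : F) • f) = 0 := by
          rw [(hef.parts (hef.proj_mem _) _ _).2.2]; ring
        have h1 := hs _ hsum 1
        have hz' := congrArg Subtype.val (hef.decomp ⟨z, hz⟩)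
        simp only [Submodule.coe_add, Submodule.coe_smul, one_smul] at hz' h1
        have h7 : z ∈ Wp Q h.symm H := by
          rw [hz']
          refine add_mem (add_mem ?_ (hs e hef.qv _)) (hs f hef.qw _)
          have := sub_mem (sub_mem h1 (hs f hef.qw 1)) (hs e hef.qv (-(Q.comp U.subtype) p))
          rwa [one_smul, add_sub_cancel_right, add_sub_cancel_right] at this
        exact h7.2
      have hP : Pst Q w' ≤ H := by
        intro g hg
        obtain ⟨c, hc⟩ := hg.1
        have hc0 : c ≠ 0 := fun e => h.ne_right (g.1.injective (by rw [hc, e, zero_smul, map_zero]))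
        have hgv : polar Q w' (g.1 v) ≠ 0 := fun e => by
          have h1 := polar_iso Q g w' v
          rw [hc, polar_smul_left, e, smul_zero, h.wv] at h1
          exact zero_ne_one h1
        obtain ⟨z, hz, ez⟩ := move_opposite h.symm (show Q (g.1 v) = 0 by rw [g.2, h.qv]) hgv
        have hzH := hall ⟨z, hz, rfl⟩
        have h8 : (eg Q w' z)⁻¹ * g ∈ H := by
          refine hlevi _ ⟨⟨polar Q w' (g.1 v), ?_⟩,
            (show (eg Q w' z)⁻¹ * g ∈ Om Q from mul_mem (inv_mem (eg_mem Q hQ (by omega) h.qw hz.1)) hg.2)⟩ ⟨c, ?_⟩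
          · rw [mul_app]
            refine inv_app_eq _ ?_
            rw [map_smul, ez, smul_smul, mul_inv_cancel₀ hgv, one_smul]
          · rw [mul_app, hc, map_smul, inv_app_eq _ (eg_self h.qw hz.1)]
        simpa using mul_mem hzH h8
      exact fix_point_bound hQ (by omega) h.ne_right h.qw H hH (pst_maximal hQ hn h.ne_right h.qw hH hne hP)
    · have h9 := h5 ((t0 - t0⁻¹) * A)⁻¹
      rw [show ((t0 - t0⁻¹) * A)⁻¹ * (t0 - t0⁻¹) * A = 1 by field_simp, one_smul,
        ← neg_neg v, eg_swap (e := -v) (by rw [QuadraticMap.map_neg, h.qv]) (hQsp a b)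
          (by rw [polar_neg_left, pol_symm, hπv, neg_zero])] at h9
      rw [show -v = (-1 : F) • v by simp, eg_smul_left h.qv (by rw [pol_symm]; exact hπv), neg_one_smul] at h9
      have := hWbot (-π) (by rw [polar_neg_right, pol_symm, hπv, neg_zero]) h9
      rw [proj_eq (neg_mem hπ), neg_eq_zero] at this
      exact absurd this hπ0
  -- conclusion
  set p := a • u + b • y.1 with hpdef
  have hp0 : p ≠ 0 := fun e => by
    obtain ⟨e1, e2⟩ := hind a b e
    exact hab.elim (fun h => h e1) (fun h => h e2)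
  set α := polar Q w' p with hα
  by_cases hα0 : α = 0
  · exact caseI a b hab ((mem_perp Q).2 ⟨hpv, hα0⟩)
  -- a second point off `v`'s orthogonal
  have hpdec : p = proj Q v w' p + α • v := by
    conv_lhs => rw [h.decomp p, hpv, zero_smul, add_zero]
  by_cases hc : ∃ c d : F, polar Q v (c • u + d • y.1) ≠ 0
  swap
  · push Not at hc
    -- the line then meets the complement
    by_cases e : polar Q w' u = 0
    · exact caseI 1 0 (Or.inl one_ne_zero) ((mem_perp Q).2 ⟨by simpa using hc 1 0, by simpa using e⟩)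
    · exact caseI (polar Q w' y.1) (-polar Q w' u) (Or.inr (neg_ne_zero.2 e))
        ((mem_perp Q).2 ⟨hc _ _, by simp [polar_add_right, polar_smul_right]; ring⟩)
  obtain ⟨c, d, hrv⟩ := hc
  exfalso
  set r := c • u + d • y.1 with hrdef
  set π := proj Q v w' p with hπ
  have hπm : π ∈ perp Q v w' := h.proj_mem p
  obtain ⟨π1, π2⟩ := (mem_perp Q).1 hπm
  have hQp := hQsp a b
  have hQπ : Q π = 0 := by
    have := (h.parts hπm α 0).2.2
    rw [zero_smul, add_zero, ← hpdec, hpdef, hQp, mul_zero, add_zero] at this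
    exact this.symm
  have hπ0 : π ≠ 0 := fun e => by
    -- then the line passes through `v`
    rw [e, zero_add] at hpdec
    have h1 := root_span hQu hQy huy hline a b c d
    rw [← hpdef, ← hrdef, hpdec, eg_smul_left h.qv (show polar Q v r = 0 by
      have := hperp a b c d
      rw [← hpdef, ← hrdef, hpdec, polar_smul_left, smul_eq_mul] at this
      exact (mul_eq_zero.1 this).resolve_left hα0)] at h1
    have := hperp a b c d
    rw [← hpdef, ← hrdef, hpdec, polar_smul_left, smul_eq_mul] at this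
    exact hrv ((mul_eq_zero.1 this).resolve_left hα0)
  have hπr : polar Q π r ≠ 0 := by
    intro e
    have := hperp a b c d
    rw [← hpdef, ← hrdef, hpdec, polar_add_left, e, polar_smul_left, zero_add, smul_eq_mul] at this
    exact hrv ((mul_eq_zero.1 this).resolve_left hα0)
  set β := polar Q π r with hβ
  obtain ⟨π', hfr⟩ := exists_fr hQ h hπm hπ0 hQπ
  have hM2 := hfr.finrank_mid
  obtain ⟨e, f, hef⟩ := exists_hyp (hfr.mid_nondeg hQ) (show 3 ≤ finrank F (Mid Q v π w' π') by omega)
  obtain ⟨m1, m2, m3, m4, n1, n2, n3, n4⟩ := mid4 e.2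
  obtain ⟨o1, o2, o3, o4, q1, q2, q3, q4⟩ := mid4 f.2
  have hp_perp : ∀ z ∈ Mid Q v π w' π', polar Q p z = 0 := fun z hz => by
    conv_lhs => rw [hpdec]
    rw [polar_add_left, polar_smul_left, (mid4 hz).2.2.1, (mid4 hz).1]; simp
  have hpπ : polar Q p π = 0 := by
    conv_lhs => rw [hpdec]
    rw [polar_add_left, polar_smul_left, pol_sing Q hQπ, π1]; simp
  have hfixp : ∀ z ∈ Mid Q v π w' π', (eg Q π z).1 p = p := fun z hz => by
    rw [hpdec, map_add, map_smul, eg_self hQπ (mid4 hz).2.2.1,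
      eg_fix hQπ (mid4 hz).2.2.1 (by rw [pol_symm]; exact π1) (by rw [pol_symm]; exact (mid4 hz).1)]
  -- `eg p (e + κ π) ∈ H`
  obtain ⟨κ, hκ⟩ : ∃ κ : F, eg Q p (e.1 + κ • π) ∈ H := by
    have he0 : polar Q π (β⁻¹ • e.1) = 0 := by rw [polar_smul_right, m3, smul_zero]
    set g := eg Q π (β⁻¹ • e.1) with hg
    have hgH : g ∈ H := hroot π _ hπm (Submodule.smul_mem _ _ e.2.1) hQπ he0
    have hrp : polar Q p r = 0 := hperp a b c d
    have h1 := mul_mem (mul_mem hgH (root_span hQu hQy huy hline a b c d)) (inv_mem hgH)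
    rw [← hpdef, ← hrdef, eg_conj hQp hrp, hfixp _ (Submodule.smul_mem _ _ e.2)] at h1
    have h2 : eg Q p (-r) ∈ H := by
      rw [← eg_inv hQp hrp]
      exact inv_mem (root_span hQu hQy huy hline a b c d)
    have h3 := mul_mem h1 h2
    have hgr : polar Q p (g.1 r) = 0 := by
      conv_lhs => rw [← hfixp _ (Submodule.smul_mem _ β⁻¹ e.2), ← hg, polar_iso]
      exact hrp
    rw [← eg_add hQp hgr (by rw [polar_neg_right, hrp, neg_zero]), hg, eg_app hQπ he0, ← hβ, smul_smul,
      mul_inv_cancel₀ hπr, one_smul] at h3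
    refine ⟨-polar Q (β⁻¹ • e.1) r - Q (β⁻¹ • e.1) * β, ?_⟩
    convert h3 using 2
    abel
  have hf0 : polar Q π f.1 = 0 := o3
  set g := eg Q π f.1 with hg
  have hgH : g ∈ H := hroot π f.1 hπm f.2.1 hQπ o3
  have hp1 : polar Q p (e.1 + κ • π) = 0 := by
    rw [polar_add_right, hp_perp _ e.2, polar_smul_right, hpπ, smul_zero, add_zero]
  have h1 := mul_mem (mul_mem hgH hκ) (inv_mem hgH)
  rw [eg_conj hQp hp1, hfixp _ f.2] at h1
  have hge : g.1 (e.1 + κ • π) = e.1 + κ • π + (-1 : F) • π := by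
    rw [map_add, map_smul, hg, eg_self hQπ o3, eg_app hQπ o3, m3, pol_symm Q f.1 e.1, ← sub_polar, hef.vw]
    module
  rw [hge, eg_add hQp hp1 (by rw [polar_smul_right, hpπ, smul_zero])] at h1
  have h2 : eg Q p ((-1 : F) • π) ∈ H := (Subgroup.mul_mem_cancel_left H hκ).1 h1
  rw [hpdec, add_comm, eg_add_left (by rw [QuadraticMap.map_smul, h.qv, smul_zero]) hQπ
    (by rw [polar_smul_left, π1, smul_zero]) (by simp [polar_smul_left, polar_smul_right, π1])
    (by rw [polar_smul_right, pol_sing Q hQπ, smul_zero]), QuadraticMap.map_smul, hQπ, smul_zero, neg_zero, zero_smul,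
    eg_zero (by rw [QuadraticMap.map_smul, h.qv, smul_zero]), one_mul, eg_line hQπ, mul_one,
    eg_smul_left h.qv (by rw [polar_smul_right, π1, smul_zero]), smul_smul] at h2
  have := hWbot _ (by rw [polar_smul_right, π1, smul_zero]) h2
  rw [proj_eq (Submodule.smul_mem _ _ hπm), smul_eq_zero] at this
  rcases this with e | e
  · exact hα0 (by linear_combination -e)
  · exact hπ0 e

end CfsgLib.OmegaMin
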