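import Mathlib
import Cfsg.Prelude.Def_Classical
import Cfsg.Agent.Lib.OmegaMin.Levi
import Cfsg.Agent.Lib.SpinorMatrix
import Cfsg.Agent.Lib.OmegaCenter

/-! The index bound and its transfer to the projective group. -/

set_option autoImplicit false

namespace CfsgLib.OmegaMin

open QuadraticMap CfsgLib.WittExtension Module CfsgLib.SpinorNorm CfsgLib.Eichler CfsgLib.OmegaSimple
open scoped commutatorElement

universe uF uV

variable {F : Type uF} {V : Type uV} [Field F] [Fintype F] [AddCommGroup V] [Module F V] [FiniteDimensional F V]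
  {Q : QuadraticForm F V}

/-- The bound over fields with at least four elements. -/
theorem main_big (hQ : (polarBilin Q).Nondegenerate) (hn : 7 ≤ finrank F V) (hq : 4 ≤ Fintype.card F)
    (H : Subgroup (quadIso Q)) (hH : H ≤ Om Q) (hne : ¬ Om Q ≤ H) {M : ℕ} (hM1 : M ≤ Nat.card (SPt Q))
    (hM2 : M ≤ 2 * Fintype.card F ^ (finrank F V - 2))
    (hsp : ∀ v x v' x', ∀ h : Fr Q v x v' x', Free Q v x H → Special h H → M ≤ H.relIndex (Om Q)) :
    M ≤ H.relIndex (Om Q) := by
  obtain ⟨v, x, v', x', h, hf⟩ := exists_free hQ hn H hne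
  have hd1 := h.h1.finrank_perp
  have hd2 := h.h2.finrank_perp
  by_cases hlt : H.relIndex (Om Q) < 2 * Fintype.card F ^ (finrank F V - 2)
  swap
  · omega
  have e1 : finrank F (perp Q v v') = finrank F V - 2 := by omega
  have e2 : finrank F (perp Q x x') = finrank F V - 2 := by omega
  rcases line_step hQ hn h H hf (by rw [e1]; exact hlt) with hs | hs | hs
  · have hL := small_levi hQ hn h.h1 H hs
      (lt_of_le_of_lt (pst_index_le hQ H v) (by rw [e1]; exact hlt))
    exact hM1.trans (levi_big hQ hn hq H hH hne h.h1 hL (by rw [e1]; exact hlt))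
  · have hL := small_levi hQ hn h.h2 H hs
      (lt_of_le_of_lt (pst_index_le hQ H x) (by rw [e2]; exact hlt))
    exact hM1.trans (levi_big hQ hn hq H hH hne h.h2 hL (by rw [e2]; exact hlt))
  · exact hsp v x v' x' h hf hs

section transfer

variable {F : Type uF} [Field F] [Fintype F] {ι : Type} [Fintype ι] [DecidableEq ι] (Q : QuadraticForm F (ι → F))
  (f : (ι → F) → F) (hf : ∀ v, f v = Q v) (hQ : (polarBilin Q).Nondegenerate) (hn : 7 ≤ Fintype.card ι)
include hf hQ hn

/-- Passing to the projective group. -/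
theorem transfer (M : ℕ)
    (hb : ∀ H : Subgroup (quadIso Q), H ≤ Om Q → ¬ Om Q ≤ H → M ≤ H.relIndex (Om Q))
    (hex : ∃ a : ι → F, a ≠ 0 ∧ (Pst Q a).relIndex (Om Q) = M) :
    (∀ H : Subgroup (Cfsg.POmega F f), H ≠ ⊤ → M ≤ H.index) ∧
      (∃ H : Subgroup (Cfsg.POmega F f), H.index = M) := by
  obtain rfl : f = ⇑Q := funext hf
  let e := CfsgLib.SpinorMatrix.isoEquiv Q
  have hmap : (Cfsg.Omega F ⇑Q).map e.toMonoidHom = Om Q := by
    rw [Om, show Cfsg.Omega F ⇑Q = commutator _ from rfl, _root_.commutator_def, _root_.commutator_def,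
      Subgroup.map_commutator, Subgroup.map_top_of_surjective _ e.surjective]
  let e' : ↥(Cfsg.Omega F ⇑Q) ≃* ↥(Om Q) := (e.subgroupMap _).trans (MulEquiv.subgroupCongr hmap)
  let π := QuotientGroup.mk' (Subgroup.center (Cfsg.Omega F ⇑Q))
  have hπ : Function.Surjective π := QuotientGroup.mk'_surjective _
  refine ⟨fun H hH => ?_, ?_⟩
  · set K := ((H.comap π).map e'.toMonoidHom) with hK
    have hi : K.index = H.index := by
      exact (Subgroup.index_map_equiv _ e').trans (Subgroup.index_comap_of_surjective H hπ)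
    have hsub : (K.map (Om Q).subtype).relIndex (Om Q) = K.index := by
      rw [Subgroup.relIndex, Subgroup.subgroupOf, Subgroup.comap_map_eq_self_of_injective (Om Q).subtype_injective]
    have hKtop : ¬ Om Q ≤ K.map (Om Q).subtype := by
      intro hle
      apply hH
      have hK' : K = ⊤ := by
        refine eq_top_iff.2 fun x _ => ?_
        obtain ⟨y, hy, e⟩ := hle x.2
        rwa [← Subtype.ext e]
      refine Subgroup.index_eq_one.1 ?_
      rw [← hi, hK', Subgroup.index_top]
    have := hb (K.map (Om Q).subtype) (Subgroup.map_subtype_le K) hKtop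
    rwa [hsub, hi] at this
  · obtain ⟨a, ha0, ha⟩ := hex
    set K := ((Pst Q a).subgroupOf (Om Q)).comap e'.toMonoidHom with hK
    have hker : π.ker ≤ K := by
      intro z hz
      rw [QuotientGroup.ker_mk'] at hz
      have hz' : ∀ w : Cfsg.Omega F ⇑Q, z * w = w * z := fun w => (Subgroup.mem_center_iff.1 hz w).symm
      obtain ⟨s, -, hs⟩ := OmegaCenter.central_scalar Q hQ (by rw [Module.finrank_pi]; omega) (e' z).1
        (fun g g' => by
          have hm : ⁅g, g'⁆ ∈ Om Q := by
            rw [Om, _root_.commutator_def]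
            exact Subgroup.commutator_mem_commutator (Subgroup.mem_top g) (Subgroup.mem_top g')
          obtain ⟨w, hw⟩ := e'.surjective ⟨_, hm⟩
          have := congrArg Subtype.val (congrArg e' (hz' w))
          rw [map_mul, map_mul, hw] at this
          exact this)
      show e' z ∈ (Pst Q a).subgroupOf (Om Q)
      rw [Subgroup.mem_subgroupOf]
      exact ⟨⟨s, hs a⟩, (e' z).2⟩
    refine ⟨K.map π, ?_⟩
    rw [Subgroup.index_map_eq K hπ hker, hK, Subgroup.index_comap_of_surjective _ e'.surjective]
    exact ha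

end transfer

/-- The stabiliser of a singular point. -/
theorem exists_point_stab (hQ : (polarBilin Q).Nondegenerate) (hn : 7 ≤ finrank F V) :
    ∃ a : V, a ≠ 0 ∧ (Pst Q a).relIndex (Om Q) = Nat.card (SPt Q) := by
  obtain ⟨e, he0, he⟩ := FiniteForms.exists_singular Q (show 3 ≤ finrank F V by omega)
  exact ⟨e, he0, relIndex_pst hQ (by omega) he0 he⟩

theorem spt_count {Z N : ℕ} (hZ : cnt Q (0 : F) = Z) (hN : (Fintype.card F - 1) * N + 1 = Z) :
    Nat.card (SPt Q) = N := by
  have h := sing_card (Q := Q)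
  rw [sing_card_spt, hZ] at h
  exact Nat.eq_of_mul_eq_mul_left (show 0 < Fintype.card F - 1 by have := Fintype.one_lt_card (α := F); omega) (by omega)

end CfsgLib.OmegaMin
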