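import Mathlib
import Cfsg.Agent.Lib.OmegaMin.LineStep
import Cfsg.Agent.Lib.OmegaMin.PointStep

/-! A totally singular plane in a four-dimensional middle, and orbits of totally singular subspaces. -/

set_option autoImplicit false
set_option maxHeartbeats 1000000

namespace CfsgLib.OmegaMin

open QuadraticMap CfsgLib.WittExtension Module CfsgLib.SpinorNorm CfsgLib.Eichler CfsgLib.OmegaSimple

universe uF uV

variable {F : Type uF} {V : Type uV} [Field F] [Fintype F] [AddCommGroup V] [Module F V] [FiniteDimensional F V]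
  {Q : QuadraticForm F V} {v x v' x' : V}

/-- A hyperbolic basis of the middle adapted to a plane. -/
structure Dual4 (h : Fr Q v x v' x') (A : Submodule F V) (a b a' b' : V) : Prop where
  fr : Fr Q a b a' b'
  ma : a ∈ Mid Q v x v' x'
  mb : b ∈ Mid Q v x v' x'
  ma' : a' ∈ Mid Q v x v' x'
  mb' : b' ∈ Mid Q v x v' x'
  span : A = Submodule.span F {a, b}
  dec : ∀ y ∈ Mid Q v x v' x', y = polar Q a' y • a + polar Q b' y • b + polar Q a y • a' + polar Q b y • b'

theorem exists_dual (hQ : (polarBilin Q).Nondegenerate) (h : Fr Q v x v' x') {A : Submodule F V}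
    (hA : A ≤ Mid Q v x v' x') (hs : ∀ a ∈ A, Q a = 0) (h2 : finrank F A = 2)
    (h4 : finrank F (Mid Q v x v' x') = 4) : ∃ a b a' b', Dual4 h A a b a' b' := by
  set M := Mid Q v x v' x' with hMdef
  have hnd := h.mid_nondeg hQ
  have hiso : ∀ a ∈ A, ∀ b ∈ A, polar Q a b = 0 := fun a ha b hb => by
    simp only [QuadraticMap.polar, hs _ (add_mem ha hb), hs a ha, hs b hb, sub_zero]
  obtain ⟨a, ha, ha0⟩ := (Submodule.ne_bot_iff _).1 (show A ≠ ⊥ from fun e => by rw [e, finrank_bot] at h2; omega)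
  obtain ⟨a', hQa', haa'⟩ := exists_partner (Q.comp M.subtype) hnd (e := ⟨a, hA ha⟩)
    (fun e => ha0 (congrArg Subtype.val e)) (hs a ha)
  rw [sub_polar] at haa'
  obtain ⟨b0, hb0, hb0a⟩ : ∃ b ∈ A, b ∉ Submodule.span F {a} := by
    by_contra hc
    push Not at hc
    have := Submodule.finrank_mono (show A ≤ Submodule.span F {a} from hc)
    rw [finrank_span_singleton ha0] at this
    omega
  set b := b0 - polar Q a'.1 b0 • a with hb
  have hbA : b ∈ A := sub_mem hb0 (Submodule.smul_mem _ _ ha)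
  have hbne : b ≠ 0 := fun e => hb0a (Submodule.mem_span_singleton.2 ⟨polar Q a'.1 b0, (sub_eq_zero.1 e).symm⟩)
  have hba' : polar Q a'.1 b = 0 := by
    rw [hb, sub_eq_add_neg, ← neg_smul, polar_add_right, polar_smul_right, pol_symm Q a'.1 a, haa']
    simp
  have hh : Hyp Q a a'.1 := ⟨hs a ha, hQa', haa'⟩
  have hM : Hyp (Q.comp M.subtype) ⟨a, hA ha⟩ a' := ⟨hs a ha, hQa', by rw [sub_polar]; exact haa'⟩
  obtain ⟨b', hQb', hbb'⟩ := exists_partner
    ((Q.comp M.subtype).comp (perp (Q.comp M.subtype) ⟨a, hA ha⟩ a').subtype)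
    (perp_nondeg (Q.comp M.subtype) hnd hM.qv hM.qw hM.vw)
    (e := ⟨⟨b, hA hbA⟩, (mem_perp _).2 ⟨by rw [sub_polar]; exact hiso a ha b hbA, by rw [sub_polar]; exact hba'⟩⟩)
    (fun e => hbne (congrArg (fun z => z.1.1) e :)) (hs b hbA)
  rw [sub_polar, sub_polar] at hbb'
  obtain ⟨p1, p2⟩ := (mem_perp _).1 b'.2
  rw [sub_polar] at p1 p2
  have hfr : Fr Q a b a'.1 b'.1.1 :=
    ⟨hh, ⟨hs b hbA, hQb', hbb'⟩, (mem_perp Q).2 ⟨hiso a ha b hbA, hba'⟩, (mem_perp Q).2 ⟨p1, p2⟩⟩
  refine ⟨a, b, a'.1, b'.1.1, hfr, hA ha, hA hbA, a'.2, b'.1.2, ?_, ?_⟩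
  · refine (Submodule.eq_of_le_of_finrank_le (Submodule.span_le.2 ?_) ?_).symm
    · rintro z (rfl | rfl)
      · exact ha
      · exact hbA
    · rw [h2]
      have hli : LinearIndependent F ![a, b] := (LinearIndependent.pair_iff' ha0).2 fun r hr => by
        have := congrArg (polar Q b'.1.1) hr
        rw [polar_smul_right, pol_symm Q b'.1.1 a, p1, smul_zero, pol_symm Q b'.1.1 b, hbb'] at this
        exact zero_ne_one this
      have := finrank_span_eq_card hli
      rw [Matrix.range_cons, Matrix.range_cons, Matrix.range_empty, Set.union_empty, Set.singleton_union,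
        Fintype.card_fin] at this
      omega
  · obtain ⟨c1, c2, c3, c4, c5, c6, c7, c8⟩ := hfr.pol
    let φ : (F × F) × (F × F) →ₗ[F] M :=
      LinearMap.coprod
        (LinearMap.coprod (LinearMap.toSpanSingleton F M ⟨a, hA ha⟩) (LinearMap.toSpanSingleton F M ⟨b, hA hbA⟩))
        (LinearMap.coprod (LinearMap.toSpanSingleton F M a') (LinearMap.toSpanSingleton F M b'.1))
    have hφ : ∀ p, (φ p).1 = p.1.1 • a + p.1.2 • b + (p.2.1 • a'.1 + p.2.2 • b'.1.1) := fun p => rfl
    have coord : ∀ p, polar Q a'.1 (φ p).1 = p.1.1 ∧ polar Q b'.1.1 (φ p).1 = p.1.2 ∧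
        polar Q a (φ p).1 = p.2.1 ∧ polar Q b (φ p).1 = p.2.2 := fun p => by
      rw [hφ]
      simp only [polar_add_right, polar_smul_right, hfr.h1.vw, hfr.h1.wv, hfr.h2.vw, hfr.h2.wv,
        pol_sing Q hfr.h1.qv, pol_sing Q hfr.h1.qw, pol_sing Q hfr.h2.qv, pol_sing Q hfr.h2.qw,
        hfr.h1.qv, hfr.h1.qw, hfr.h2.qv, hfr.h2.qw, c1, c2, c3, c4, c5, c6, c7, c8]
      simp
    have hinj : Function.Injective φ := by
      rw [injective_iff_map_eq_zero]
      intro p hp
      obtain ⟨e1, e2, e3, e4⟩ := coord p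
      rw [hp] at e1 e2 e3 e4
      simp at e1 e2 e3 e4
      exact Prod.ext (Prod.ext e1.symm e2.symm) (Prod.ext e3.symm e4.symm)
    have hsurj : Function.Surjective φ := (LinearMap.injective_iff_surjective_of_finrank_eq_finrank (by
      rw [Module.finrank_prod, Module.finrank_prod, Module.finrank_self]; exact h4.symm)).1 hinj
    intro y hy
    obtain ⟨p, hp⟩ := hsurj ⟨y, hy⟩
    obtain ⟨e1, e2, e3, e4⟩ := coord p
    have hy' : (φ p).1 = y := congrArg Subtype.val hp
    rw [hy'] at e1 e2 e3 e4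
    rw [e1, e2, e3, e4]
    conv_lhs => rw [← hy', hφ]
    abel

theorem Dual4.memA {h : Fr Q v x v' x'} {A : Submodule F V} {a b a' b' : V} (D : Dual4 h A a b a' b') :
    a ∈ A ∧ b ∈ A ∧ ∀ y ∈ A, y = polar Q a' y • a + polar Q b' y • b := by
  have ha : a ∈ A := D.span ▸ Submodule.subset_span (Set.mem_insert _ _)
  have hb : b ∈ A := D.span ▸ Submodule.subset_span (Set.mem_insert_of_mem _ rfl)
  refine ⟨ha, hb, fun y hy => ?_⟩
  rw [D.span, Submodule.mem_span_pair] at hy
  obtain ⟨r, s, rfl⟩ := hy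
  obtain ⟨c1, c2, c3, c4, c5, c6, c7, c8⟩ := D.fr.pol
  simp [polar_add_right, polar_smul_right, D.fr.h1.wv, D.fr.h2.wv, c5, c4, pol_symm Q b' a, c2]

variable (hQ : (polarBilin Q).Nondegenerate) (hn : 7 ≤ finrank F V)
include hQ hn

/-- An element fixing the frame and the plane, without fixed vectors on the middle. -/
theorem exists_fpf (h : Fr Q v x v' x') {A : Submodule F V} {a b a' b' : V} (D : Dual4 h A a b a' b') :
    ∃ g ∈ Om Q, g.1 v = v ∧ g.1 x = x ∧ g.1 v' = v' ∧ g.1 x' = x' ∧ (∀ y ∈ A, g.1 y ∈ A) ∧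
      (∀ y ∈ Mid Q v x v' x', g.1 y = y → y = 0) := by
  obtain ⟨c1, c2, c3, c4, c5, c6, c7, c8⟩ := D.fr.pol
  have q1 : polar Q a b' = 0 := c2
  have q2 : polar Q b (-a') = 0 := by rw [polar_neg_right, c7, neg_zero]
  obtain ⟨f1, f2, f3, f4⟩ := eg_frame h D.fr.h1.qv q1 D.ma D.mb'
  obtain ⟨g1, g2, g3, g4⟩ := eg_frame h D.fr.h2.qv q2 D.mb (neg_mem D.ma')
  have hform : ∀ y, (eg Q a b' * eg Q b (-a')).1 y = y + polar Q b y • (-a') + polar Q a' y • b +
      polar Q a y • b' + (-(polar Q b' y) - polar Q a' y) • a + polar Q b y • (-b') := by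
    intro y
    rw [mul_app, eg_app D.fr.h2.qv q2, QuadraticMap.map_neg, D.fr.h1.qw, eg_app D.fr.h1.qv q1, D.fr.h2.qw]
    simp only [polar_neg_left, neg_neg, zero_mul, sub_zero, polar_add_right, polar_smul_right, polar_neg_right,
      D.fr.h1.vw, c1, D.fr.h2.wv, c8, c2, pol_symm Q b' a', c6, smul_eq_mul, mul_zero, mul_one, mul_neg, add_zero,
      neg_zero]
    module
  refine ⟨eg Q a b' * eg Q b (-a'), mul_mem (eg_mem Q hQ (by omega) D.fr.h1.qv q1) (eg_mem Q hQ (by omega) D.fr.h2.qv q2),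
    by rw [mul_app, g1, f1], by rw [mul_app, g2, f2], by rw [mul_app, g3, f3], by rw [mul_app, g4, f4], ?_, ?_⟩
  · intro y hy
    obtain ⟨ha, hb, hdec⟩ := D.memA
    have e1 : polar Q a y = 0 := by
      rw [hdec y hy, polar_add_right, polar_smul_right, polar_smul_right, pol_sing Q D.fr.h1.qv, c1]; simp
    have e2 : polar Q b y = 0 := by
      rw [hdec y hy, polar_add_right, polar_smul_right, polar_smul_right, pol_sing Q D.fr.h2.qv, c3]; simp
    rw [hform, e1, e2, zero_smul, zero_smul, zero_smul, add_zero, add_zero, add_zero]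
    exact add_mem (add_mem hy (Submodule.smul_mem _ _ hb)) (Submodule.smul_mem _ _ ha)
  · intro y hy hfix
    rw [hform] at hfix
    have k1 := congrArg (polar Q a) hfix
    have k2 := congrArg (polar Q b) hfix
    have k3 := congrArg (polar Q b') hfix
    have k4 := congrArg (polar Q a') hfix
    simp only [polar_add_right, polar_smul_right, polar_neg_right, D.fr.h1.vw, D.fr.h1.wv, D.fr.h2.vw, D.fr.h2.wv,
      pol_sing Q D.fr.h1.qv, pol_sing Q D.fr.h2.qv, pol_sing Q D.fr.h1.qw, pol_sing Q D.fr.h2.qw,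
      c1, c2, c3, c4, c5, c6, c7, c8, pol_symm Q b' a, pol_symm Q b' a', smul_eq_mul, mul_zero, mul_one, mul_neg,
      add_zero, neg_zero] at k1 k2 k3 k4
    have e1 : polar Q b y = 0 := by linear_combination -k1
    have e2 : polar Q a y = 0 := by linear_combination k2 + e1
    have e3 : polar Q a' y = 0 := by linear_combination k3
    have e4 : polar Q b' y = 0 := by linear_combination -k4 - e3
    rw [D.dec y hy, e1, e2, e3, e4]
    simp

/-- The `q` translates of the plane in the middle. -/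
theorem plane_moves (h : Fr Q v x v' x') {A : Submodule F V} {a b a' b' : V} (D : Dual4 h A a b a' b') :
    ∃ gs : F → quadIso Q, (∀ t, gs t ∈ Om Q ∧ (gs t).1 v = v ∧ (gs t).1 x = x ∧ (gs t).1 v' = v' ∧ (gs t).1 x' = x') ∧
      ∀ s t, A.map ((gs s).1 : V →ₗ[F] V) = A.map ((gs t).1 : V →ₗ[F] V) → s = t := by
  obtain ⟨c1, c2, c3, c4, c5, c6, c7, c8⟩ := D.fr.pol
  have q : ∀ t : F, polar Q a' (t • b') = 0 := fun t => by rw [polar_smul_right, c6, smul_zero]
  refine ⟨fun t => eg Q a' (t • b'), fun t => ⟨eg_mem Q hQ (by omega) D.fr.h1.qw (q t),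
    eg_frame h D.fr.h1.qw (q t) D.ma' (Submodule.smul_mem _ _ D.mb')⟩, fun s t e => ?_⟩
  obtain ⟨ha, hb, hdec⟩ := D.memA
  have ha' : ∀ t : F, (eg Q a' (t • b')).1 a = a + t • b' := fun t => by
    rw [eg_app D.fr.h1.qw (q t), D.fr.h1.wv, one_smul, QuadraticMap.map_smul, D.fr.h2.qw, polar_smul_left,
      pol_symm Q b' a, c2]
    simp
  have hm : (eg Q a' (s • b')).1 a ∈ A.map ((eg Q a' (t • b')).1 : V →ₗ[F] V) := e ▸ ⟨a, ha, rfl⟩
  obtain ⟨z, hz, hze⟩ := hm
  have hz' := hdec z hz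
  have hb'' : (eg Q a' (t • b')).1 b = b + (-t) • a' := by
    rw [eg_app D.fr.h1.qw (q t), pol_symm Q a' b, c7, polar_smul_left, D.fr.h2.wv]
    simp
  change (eg Q a' (t • b')).1 z = _ at hze
  rw [hz', map_add, map_smul, map_smul, ha', hb'', ha'] at hze
  have k1 := congrArg (polar Q a') hze
  have k2 := congrArg (polar Q b) hze
  simp only [polar_add_right, polar_smul_right, D.fr.h1.wv, D.fr.h2.vw, pol_sing Q D.fr.h1.qw,
    pol_sing Q D.fr.h2.qv, c1, c3, c7, c6, pol_symm Q a' b, smul_eq_mul, mul_zero, mul_one, add_zero, zero_add] at k1 k2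
  rw [k1, one_mul] at k2
  exact k2.symm

omit hn in
/-- The counts in dimension eight. -/
theorem count8 (h : Fr Q v x v' x') {A : Submodule F V} {a b a' b' : V} (D : Dual4 h A a b a' b')
    (h4 : finrank F (Mid Q v x v' x') = 4) :
    (Sing (Q.comp (perp Q v v').subtype)).ncard =
        (Fintype.card F - 1) * ((Fintype.card F ^ 2 + 1) * (Fintype.card F ^ 2 + Fintype.card F + 1)) ∧
      Nat.card (SPt Q) = (Fintype.card F ^ 3 + 1) * (Fintype.card F ^ 3 + Fintype.card F ^ 2 + Fintype.card F + 1) := by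
  set q := Fintype.card F with hq'
  have hq : 2 ≤ q := Fintype.one_lt_card
  set M := Mid Q v x v' x'
  set QM := Q.comp M.subtype with hQM
  have hnd := h.mid_nondeg hQ
  have hA : Hyp QM ⟨a, D.ma⟩ ⟨a', D.ma'⟩ := ⟨D.fr.h1.qv, D.fr.h1.qw, by rw [sub_polar]; exact D.fr.h1.vw⟩
  have hd1 := hA.finrank_perp
  set QP := QM.comp (perp QM ⟨a, D.ma⟩ ⟨a', D.ma'⟩).subtype with hQP
  obtain ⟨c1, c2, c3, c4, c5, c6, c7, c8⟩ := D.fr.pol
  have hB : Hyp QP ⟨⟨b, D.mb⟩, (mem_perp _).2 ⟨by rw [sub_polar]; exact c1, by rw [sub_polar]; exact c5⟩⟩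
      ⟨⟨b', D.mb'⟩, (mem_perp _).2 ⟨by rw [sub_polar]; exact c2, by rw [sub_polar]; exact c6⟩⟩ :=
    ⟨D.fr.h2.qv, D.fr.h2.qw, by rw [sub_polar, sub_polar]; exact D.fr.h2.vw⟩
  have hd2 := hB.finrank_perp
  have hP : cnt QP (0 : F) = q * 1 + (q - 1) * q ^ 0 := by
    rw [hB.cnt_split 0, ← hq']
    have e : finrank F (perp QP ⟨⟨b, D.mb⟩, (mem_perp _).2 ⟨by rw [sub_polar]; exact c1, by rw [sub_polar]; exact c5⟩⟩
        ⟨⟨b', D.mb'⟩, (mem_perp _).2 ⟨by rw [sub_polar]; exact c2, by rw [sub_polar]; exact c6⟩⟩) = 0 := by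
      have : finrank F (perp QM ⟨a, D.ma⟩ ⟨a', D.ma'⟩) = 2 := by omega
      omega
    rw [e]
    congr 2
    haveI : Finite V := finite_space F V
    rw [cnt]
    have e0 := (Submodule.eq_bot_iff _).1 (Submodule.finrank_eq_zero.1 e)
    refine Nat.card_eq_one_iff_unique.2 ⟨⟨fun s t => Subtype.ext ?_⟩, ⟨⟨0, QuadraticMap.map_zero _⟩⟩⟩
    exact Subtype.ext ((e0 _ s.1.2).trans (e0 _ t.1.2).symm)
  have hMc : cnt QM (0 : F) = q * (q * 1 + (q - 1) * q ^ 0) + (q - 1) * q ^ 2 := by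
    rw [hA.cnt_split 0, ← hq', ← hP, show finrank F (perp QM ⟨a, D.ma⟩ ⟨a', D.ma'⟩) = 2 by omega]
  set QV := Q.comp (perp Q v v').subtype
  have hX : Hyp QV ⟨x, h.hx⟩ ⟨x', h.hx'⟩ := ⟨h.h2.qv, h.h2.qw, by rw [sub_polar]; exact h.h2.vw⟩
  have hd3 := h.h1.finrank_perp
  have hd4 : finrank F M + 4 = finrank F V := h.finrank_mid
  have e4 : cnt (QV.comp (perp QV ⟨x, h.hx⟩ ⟨x', h.hx'⟩).subtype) (0 : F) = cnt QM (0 : F) := by
    rw [cnt, cnt]
    refine Nat.card_congr
      { toFun := fun z => ⟨⟨z.1.1.1, z.1.1.2, (mem_perp Q).2 (by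
            have := (mem_perp QV).1 z.1.2
            rw [sub_polar, sub_polar] at this
            exact this)⟩, z.2⟩
        invFun := fun z => ⟨⟨⟨z.1.1, z.1.2.1⟩, (mem_perp QV).2 (by
            rw [sub_polar, sub_polar]; exact (mem_perp Q).1 z.1.2.2)⟩, z.2⟩
        left_inv := fun z => rfl
        right_inv := fun z => rfl }
  have hVc : cnt QV (0 : F) = q * (q * (q * 1 + (q - 1) * q ^ 0) + (q - 1) * q ^ 2) + (q - 1) * q ^ 4 := by
    rw [hX.cnt_split 0, ← hq', e4, hMc,
      show finrank F (perp QV ⟨x, h.hx⟩ ⟨x', h.hx'⟩) = 4 by have := hX.finrank_perp; omega]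
  have hall : cnt Q (0 : F) = q * cnt QV (0 : F) + (q - 1) * q ^ 6 := by
    rw [h.h1.cnt_split 0, ← hq', show finrank F (perp Q v v') = 6 by omega]
  obtain ⟨r, hr⟩ : ∃ r, q = r + 1 := ⟨q - 1, by omega⟩
  constructor
  · have := sing_card (Q := QV)
    rw [hVc, hr, Nat.add_sub_cancel] at this
    rw [hr, Nat.add_sub_cancel]
    refine Nat.add_right_cancel (this.trans ?_)
    ring
  · have := sing_card (Q := Q)
    rw [sing_card_spt, hall, hVc, ← hq'] at this
    rw [hr, Nat.add_sub_cancel] at this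
    rw [hr]
    refine Nat.eq_of_mul_eq_mul_left (show 0 < r by omega) (Nat.add_right_cancel (this.trans ?_))
    ring

/-- Images of a totally singular subspace through one of its vectors bound the index. -/
theorem sub_orbit {w : V} (h : Hyp Q v w) (hd : 5 ≤ finrank F (perp Q v w)) (K : Subgroup (quadIso Q))
    (hK : K ≤ Pst Q v) {B : Submodule F V} (hB : B ≤ perp Q v w) {a : V} (ha : a ∈ B) (ha0 : a ≠ 0)
    (hQa : Q a = 0) (hKB : ∀ g ∈ K, ∀ y ∈ B, act Q v w g y ∈ B) {κ : Type*} (gs : κ → quadIso Q)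
    (hgs : ∀ i, gs i ∈ Pst Q v ∧ act Q v w (gs i) a = a)
    (hinj : ∀ i j, act Q v w (gs i) '' (B : Set V) = act Q v w (gs j) '' (B : Set V) → i = j) :
    (Sing (Q.comp (perp Q v w).subtype)).ncard * Nat.card κ ≤ K.relIndex (Pst Q v) * (Nat.card B - 1) := by
  classical
  haveI : Finite V := finite_space F V
  set U := perp Q v w
  have haU : a ∈ U := hB ha
  let act2 : quadIso Q → V × Set V → V × Set V := fun g p => (act Q v w g p.1, act Q v w g '' p.2)
  let T : Set (V × Set V) := ((B : Set V) \ {0}) ×ˢ {(B : Set V)}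
  have hmove : ∀ y : Sing (Q.comp U.subtype), ∃ g ∈ Pst Q v, act Q v w g a = y.1.1 := fun y => by
    obtain ⟨g, hg, -, -, -, e⟩ := perp_move hQ (by omega) h hd haU y.1.2 ha0
      (fun e => y.2.1 (Subtype.ext e)) (hQa.trans (y.2.2 : Q y.1.1 = 0).symm)
    exact ⟨g, hg, e⟩
  choose gy hgy egy using hmove
  have himg : ∀ g ∈ Pst Q v, ∀ k ∈ Pst Q v,
      act Q v w (g * k) '' (B : Set V) = act Q v w g '' (act Q v w k '' (B : Set V)) := fun g hg k hk => by
    rw [Set.image_image]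
    exact Set.image_congr fun z hz => act_mul h hg.1 hk.1 (hB hz)
  let f : Sing (Q.comp U.subtype) × κ → V × Set V := fun p => act2 (gy p.1 * gs p.2) (a, (B : Set V))
  have hf1 : ∀ p, (f p).1 = p.1.1.1 := fun p => by
    show act Q v w (gy p.1 * gs p.2) a = _
    rw [act_mul h (hgy p.1).1 (hgs p.2).1.1 haU, (hgs p.2).2, egy]
  have hfinj : Function.Injective f := by
    rintro ⟨y, i⟩ ⟨y', i'⟩ e
    have e1 := congrArg Prod.fst e
    rw [hf1, hf1] at e1
    obtain rfl : y = y' := Subtype.ext (Subtype.ext e1)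
    have e2 : act Q v w (gy y * gs i) '' (B : Set V) = act Q v w (gy y * gs i') '' (B : Set V) := congrArg Prod.snd e
    rw [himg _ (hgy y) _ (hgs i).1, himg _ (hgy y) _ (hgs i').1] at e2
    refine Prod.ext rfl (hinj i i' ?_)
    have hinjU : Set.InjOn (act Q v w (gy y)) U := fun s hs t ht est => by
      have := congrArg (act Q v w (gy y)⁻¹) est
      rwa [← act_mul h (inv_mem (hgy y).1) (hgy y).1 hs, ← act_mul h (inv_mem (hgy y).1) (hgy y).1 ht, inv_mul_cancel,
        (act_fix h (one_app Q v) (one_app Q w) hs).1, (act_fix h (one_app Q v) (one_app Q w) ht).1] at this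
    exact (hinjU.image_eq_image_iff (Set.image_subset_iff.2 fun z _ => act_mem h _ z)
      (Set.image_subset_iff.2 fun z _ => act_mem h _ z)).1 e2
  have hT : T.ncard ≤ Nat.card B - 1 := by
    rw [Set.ncard_prod, Set.ncard_singleton, mul_one]
    have := Set.ncard_sdiff_singleton_add_one (show (0 : V) ∈ (B : Set V) from zero_mem _) (Set.toFinite _)
    rw [← Nat.card_coe_set_eq (B : Set V)] at this
    have e : Nat.card (B : Set V) = Nat.card B := rfl
    omega
  have hcard := card_le_relIndex_mul act2 (Pst Q v) K hK (a, (B : Set V))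
    (fun g hg k hk => Prod.ext (act_mul h hg.1 hk.1 haU) (himg g hg k hk)) (Set.range f) T
    (fun g hg => ⟨⟨hKB g hg a ha, fun e => ha0 (by
      have e' : act Q v w g a = 0 := e
      have := congrArg (act Q v w g⁻¹) e'
      rw [← act_mul h (inv_mem (hK hg).1) (hK hg).1 haU, inv_mul_cancel,
        (act_fix h (one_app Q v) (one_app Q w) haU).1, one_app] at this
      rw [this, act]; simp [proj])⟩, by
      show act Q v w g '' (B : Set V) = (B : Set V)
      refine Set.eq_of_subset_of_ncard_le (Set.image_subset_iff.2 fun y hy => hKB g hg y hy) ?_ (Set.toFinite _)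
      rw [Set.ncard_image_of_injOn]
      intro s hs t ht est
      have := congrArg (act Q v w g⁻¹) est
      rwa [← act_mul h (inv_mem (hK hg).1) (hK hg).1 (hB hs), ← act_mul h (inv_mem (hK hg).1) (hK hg).1 (hB ht),
        inv_mul_cancel, (act_fix h (one_app Q v) (one_app Q w) (hB hs)).1,
        (act_fix h (one_app Q v) (one_app Q w) (hB ht)).1] at this⟩)
    (by rintro _ ⟨p, rfl⟩; exact ⟨gy p.1 * gs p.2, mul_mem (hgy p.1) (hgs p.2).1, rfl⟩)
  rw [← Nat.card_coe_set_eq, Nat.card_range_of_injective hfinj, Nat.card_prod, Nat.card_coe_set_eq] at hcard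
  exact hcard.trans (Nat.mul_le_mul_left _ hT)

/-- Plane orbits. -/
theorem plane_bound {w : V} (h : Hyp Q v w) (hd : finrank F (perp Q v w) = 6) (K : Subgroup (quadIso Q))
    (hK : K ≤ Pst Q v) {a b a' b' : V} (hfr : Fr Q a b a' b') (ha : a ∈ perp Q v w) (hb : b ∈ perp Q v w)
    (ha' : a' ∈ perp Q v w) (hb' : b' ∈ perp Q v w)
    (hKB : ∀ g ∈ K, ∀ y ∈ Submodule.span F {a, b}, act Q v w g y ∈ Submodule.span F {a, b}) :
    (Sing (Q.comp (perp Q v w).subtype)).ncard * Fintype.card F ^ 2 ≤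
      K.relIndex (Pst Q v) * (Fintype.card F ^ 2 - 1) := by
  haveI : Finite V := finite_space F V
  set q := Fintype.card F with hq'
  set U := perp Q v w
  have hU := perp_nondeg Q hQ h.qv h.qw h.vw
  have hfU : Fr (Q.comp U.subtype) ⟨a, ha⟩ ⟨b, hb⟩ ⟨a', ha'⟩ ⟨b', hb'⟩ :=
    ⟨⟨hfr.h1.qv, hfr.h1.qw, by rw [sub_polar]; exact hfr.h1.vw⟩,
     ⟨hfr.h2.qv, hfr.h2.qw, by rw [sub_polar]; exact hfr.h2.vw⟩,
     (mem_perp _).2 ⟨by rw [sub_polar]; exact ((mem_perp Q).1 hfr.hx).1, by rw [sub_polar]; exact ((mem_perp Q).1 hfr.hx).2⟩,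
     (mem_perp _).2 ⟨by rw [sub_polar]; exact ((mem_perp Q).1 hfr.hx').1, by rw [sub_polar]; exact ((mem_perp Q).1 hfr.hx').2⟩⟩
  have hm := hfU.finrank_mid
  set M2 := Mid (Q.comp U.subtype) ⟨a, ha⟩ ⟨b, hb⟩ ⟨a', ha'⟩ ⟨b', hb'⟩
  have hz : ∀ z : M2, polar Q b' z.1.1 = 0 ∧ polar Q a z.1.1 = 0 ∧ polar Q a' z.1.1 = 0 ∧ polar Q b z.1.1 = 0 :=
    fun z => by
      obtain ⟨e1, e2, e3, e4, -⟩ := mid4 z.2
      rw [sub_polar] at e1 e2 e3 e4
      exact ⟨e4, e1, e2, e3⟩
  obtain ⟨c1, c2, c3, c4, c5, c6, c7, c8⟩ := hfr.pol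
  have hg : ∀ z : M2, eg Q b' z.1.1 ∈ Pst Q v ∧ (eg Q b' z.1.1).1 v = v ∧ (eg Q b' z.1.1).1 w = w := fun z =>
    eg_fix_pair hQ (by omega) hfr.h2.qw (hz z).1 hb' z.1.2
  have hga : ∀ z : M2, (eg Q b' z.1.1).1 a = a := fun z =>
    eg_fix hfr.h2.qw (hz z).1 (by rw [pol_symm]; exact c2) (by rw [pol_symm]; exact (hz z).2.1)
  have hgb : ∀ z : M2, (eg Q b' z.1.1).1 b = b + z.1.1 + (-Q z.1.1) • b' := fun z => by
    rw [eg_app hfr.h2.qw (hz z).1, hfr.h2.wv, one_smul, pol_symm Q z.1.1 b, (hz z).2.2.2, add_assoc]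
    simp
  have hB : Submodule.span F {a, b} ≤ U := Submodule.span_le.2 (by rintro z (rfl | rfl) <;> assumption)
  have hsub := sub_orbit hQ hn h (show 5 ≤ finrank F U by omega) K hK hB (Submodule.subset_span (Set.mem_insert _ _)) hfr.h1.ne_left
    hfr.h1.qv hKB (κ := M2) (fun z => eg Q b' z.1.1)
    (fun z => ⟨(hg z).1, by rw [(act_fix h (hg z).2.1 (hg z).2.2 ha).1, hga]⟩) (fun z z' e => by
      have hm' : act Q v w (eg Q b' z.1.1) b ∈ act Q v w (eg Q b' z'.1.1) '' (Submodule.span F {a, b} : Set V) :=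
        e ▸ ⟨b, Submodule.subset_span (Set.mem_insert_of_mem _ rfl), rfl⟩
      obtain ⟨y, hy, hye⟩ := hm'
      rw [(act_fix h (hg z').2.1 (hg z').2.2 (hB hy)).1, (act_fix h (hg z).2.1 (hg z).2.2 hb).1] at hye
      rw [SetLike.mem_coe, Submodule.mem_span_pair] at hy
      obtain ⟨r, s, rfl⟩ := hy
      rw [map_add, map_smul, map_smul, hga, hgb, hgb] at hye
      have k1 := congrArg (polar Q b') hye
      obtain ⟨z1, z2, z3, z4⟩ := hz z
      obtain ⟨w1, w2, w3, w4⟩ := hz z'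
      simp only [polar_add_right, polar_smul_right, hfr.h2.wv, pol_sing Q hfr.h2.qw, pol_symm Q b' a, c2, z1, w1,
        smul_eq_mul, mul_zero, mul_one, add_zero, zero_add] at k1
      rw [k1, one_smul] at hye
      have k2 := congrArg (fun y => y - polar Q a' y • a - polar Q b' y • b - polar Q b y • b') hye
      simp only [polar_add_right, polar_smul_right, hfr.h2.wv, hfr.h2.vw, hfr.h1.wv, pol_sing Q hfr.h2.qw,
        pol_sing Q hfr.h2.qv, pol_symm Q b' a, c2, c5, c6, c3, z1, z3, z4, w1, w3, w4, smul_eq_mul, mul_zero, mul_one,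
        add_zero, zero_add] at k2
      refine Subtype.ext (Subtype.ext ?_)
      have k3 : z'.1.1 = z.1.1 := by
        refine Eq.trans ?_ (k2.trans ?_) <;> module
      exact k3.symm)
  have h2 : Nat.card M2 = q ^ 2 := by
    rw [Module.natCard_eq_pow_finrank (K := F), Nat.card_eq_fintype_card, ← hq']
    congr 1
    have : finrank F U = 6 := hd
    have hm2 : finrank F M2 + 4 = finrank F U := hm
    exact Nat.add_right_cancel (m := 4) (hm2.trans this)
  have h3 : Nat.card (Submodule.span F {a, b}) - 1 ≤ q ^ 2 - 1 := by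
    have : Nat.card (Submodule.span F {a, b}) ≤ q ^ 2 := by
      rw [Module.natCard_eq_pow_finrank (K := F), Nat.card_eq_fintype_card, ← hq']
      refine Nat.pow_le_pow_right Fintype.card_pos ?_
      classical
      have h' := finrank_span_le_card (R := F) ({a, b} : Set V)
      have h'' : ({a, b} : Set V).toFinset.card ≤ 2 := by simp; exact Finset.card_le_two
      omega
    omega
  rw [h2] at hsub
  exact hsub.trans (Nat.mul_le_mul_left _ h3)

/-- Solid orbits. -/
theorem solid_bound {w : V} (h : Hyp Q v w) (hd : finrank F (perp Q v w) = 6) (K : Subgroup (quadIso Q))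
    (hK : K ≤ Pst Q v) {a b a' b' c c' : V} (hfr : Fr Q a b a' b') (hc : Hyp Q c c')
    (hcm : c ∈ Mid Q a b a' b') (hcm' : c' ∈ Mid Q a b a' b') (ha : a ∈ perp Q v w) (hb : b ∈ perp Q v w)
    (hb' : b' ∈ perp Q v w) (hcU : c ∈ perp Q v w) (hcU' : c' ∈ perp Q v w)
    (hKB : ∀ g ∈ K, ∀ y ∈ Submodule.span F {a, b, c}, act Q v w g y ∈ Submodule.span F {a, b, c}) :
    (Sing (Q.comp (perp Q v w).subtype)).ncard * (Fintype.card F + 1) ≤
      K.relIndex (Pst Q v) * (Fintype.card F ^ 3 - 1) := by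
  haveI : Finite V := finite_space F V
  set q := Fintype.card F with hq'
  obtain ⟨c1, c2, c3, c4, c5, c6, c7, c8⟩ := hfr.pol
  obtain ⟨m1, m2, m3, m4, n1, n2, n3, n4⟩ := mid4 hcm
  obtain ⟨o1, o2, o3, o4, r1, r2, r3, r4⟩ := mid4 hcm'
  have qu : ∀ t : F, polar Q b' (t • c') = 0 := fun t => by rw [polar_smul_right, o4, smul_zero]
  have ql : polar Q b c = 0 := m3
  let up : F → quadIso Q := fun t => eg Q b' (t • c')
  have hup : ∀ t, up t ∈ Pst Q v ∧ (up t).1 v = v ∧ (up t).1 w = w := fun t =>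
    eg_fix_pair hQ (by omega) hfr.h2.qw (qu t) hb' (Submodule.smul_mem _ _ hcU')
  have hlo : eg Q b c ∈ Pst Q v ∧ (eg Q b c).1 v = v ∧ (eg Q b c).1 w = w :=
    eg_fix_pair hQ (by omega) hfr.h2.qv ql hb hcU
  have ua : ∀ t, (up t).1 a = a := fun t =>
    eg_fix hfr.h2.qw (qu t) (by rw [pol_symm]; exact c2) (by rw [polar_smul_left, r1, smul_zero])
  have ub : ∀ t, (up t).1 b = b + t • c' := fun t => by
    show (eg Q b' (t • c')).1 b = _
    rw [eg_app hfr.h2.qw (qu t), hfr.h2.wv, one_smul, QuadraticMap.map_smul, hc.qw, polar_smul_left, r3]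
    simp
  have uc : ∀ t, (up t).1 c = c + (-t) • b' := fun t => by
    show (eg Q b' (t • c')).1 c = _
    rw [eg_app hfr.h2.qw (qu t), m4, polar_smul_left, hc.wv]
    simp
  have uc' : ∀ t, (up t).1 c' = c' := fun t =>
    eg_fix hfr.h2.qw (qu t) o4 (by rw [polar_smul_left, pol_sing Q hc.qw, smul_zero])
  have ub' : ∀ t, (up t).1 b' = b' := fun t => eg_self hfr.h2.qw (qu t)
  have la : (eg Q b c).1 a = a := eg_fix hfr.h2.qv ql c3 n1
  have lc' : (eg Q b c).1 c' = c' + (-1 : F) • b := by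
    rw [eg_app hfr.h2.qv ql, o3, hc.vw]; simp
  have lb' : (eg Q b c).1 b' = b' + c := by
    rw [eg_app hfr.h2.qv ql, hfr.h2.vw, hc.qv, n4]; simp
  have lb : (eg Q b c).1 b = b := eg_self hfr.h2.qv ql
  have lc : (eg Q b c).1 c = c := eg_fix hfr.h2.qv ql m3 (pol_sing Q hc.qv)
  let gs : Option F → quadIso Q := fun o => o.elim (up 1 * eg Q b c * up 1) up
  have hgs : ∀ o, gs o ∈ Pst Q v ∧ (gs o).1 v = v ∧ (gs o).1 w = w := by
    rintro (- | t)
    · refine ⟨mul_mem (mul_mem (hup 1).1 hlo.1) (hup 1).1, ?_, ?_⟩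
      · show (up 1 * eg Q b c * up 1).1 v = v
        rw [mul_app, mul_app, (hup 1).2.1, hlo.2.1, (hup 1).2.1]
      · show (up 1 * eg Q b c * up 1).1 w = w
        rw [mul_app, mul_app, (hup 1).2.2, hlo.2.2, (hup 1).2.2]
    · exact hup t
  have ga : ∀ o, (gs o).1 a = a := by
    rintro (- | t)
    · show (up 1 * eg Q b c * up 1).1 a = a
      rw [mul_app, mul_app, ua, la, ua]
    · exact ua t
  have gb : ∀ o, (gs o).1 b = (Option.elim o c' fun t => b + t • c') := by
    rintro (- | t)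
    · show (up 1 * eg Q b c * up 1).1 b = c'
      rw [mul_app, mul_app, ub, map_add, map_smul, lb, lc', map_add, map_smul, map_add, map_smul, ub, uc']
      module
    · exact ub t
  have gc : ∀ o, (gs o).1 c = (Option.elim o ((-1 : F) • b') fun t => c + (-t) • b') := by
    rintro (- | t)
    · show (up 1 * eg Q b c * up 1).1 c = (-1 : F) • b'
      rw [mul_app, mul_app, uc, map_add, map_smul, lc, lb', map_add, map_smul, map_add, uc, ub']
      module
    · exact uc t
  set B := Submodule.span F ({a, b, c} : Set V)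
  have hB : B ≤ perp Q v w := Submodule.span_le.2 (by rintro z (rfl | rfl | rfl) <;> assumption)
  have hmemB : ∀ y ∈ B, ∃ r s t : F, y = r • a + s • b + t • c := fun y hy => by
    obtain ⟨r, z, hz, rfl⟩ := Submodule.mem_span_insert.1 hy
    obtain ⟨s, t, rfl⟩ := Submodule.mem_span_pair.1 hz
    exact ⟨r, s, t, by rw [add_assoc]⟩
  have hsub := sub_orbit hQ hn h (by omega) K hK hB (Submodule.subset_span (Set.mem_insert _ _)) hfr.h1.ne_left
    hfr.h1.qv hKB (κ := Option F) gs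
    (fun o => ⟨(hgs o).1, by rw [(act_fix h (hgs o).2.1 (hgs o).2.2 ha).1, ga]⟩) (fun i j e => by
      have hm' : act Q v w (gs i) b ∈ act Q v w (gs j) '' (B : Set V) :=
        e ▸ ⟨b, Submodule.subset_span (Set.mem_insert_of_mem _ (Set.mem_insert _ _)), rfl⟩
      obtain ⟨y, hy, hye⟩ := hm'
      rw [(act_fix h (hgs j).2.1 (hgs j).2.2 (hB hy)).1, (act_fix h (hgs i).2.1 (hgs i).2.2 hb).1] at hye
      obtain ⟨r, s, t, rfl⟩ := hmemB y hy
      rw [map_add, map_add, map_smul, map_smul, map_smul, ga, gb, gc, gb] at hye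
      have k1 := congrArg (polar Q b') hye
      have k2 := congrArg (polar Q c) hye
      rcases i with - | si <;> rcases j with - | sj
      · rfl
      · simp only [Option.elim, polar_add_right, polar_smul_right, hfr.h2.wv, pol_sing Q hfr.h2.qw,
          pol_symm Q b' a, c2, m4, o4, hc.vw, pol_sing Q hc.qv, pol_symm Q c a, m1, n3, n4, smul_eq_mul, mul_zero,
          mul_one, add_zero, zero_add] at k1 k2
        exfalso
        rw [k1, zero_mul] at k2
        exact zero_ne_one k2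
      · simp only [Option.elim, polar_add_right, polar_smul_right, hfr.h2.wv, pol_sing Q hfr.h2.qw,
          pol_symm Q b' a, c2, m4, o4, hc.vw, pol_sing Q hc.qv, pol_symm Q c a, m1, n3, n4, smul_eq_mul, mul_zero,
          mul_one, add_zero, zero_add] at k1 k2
        exact absurd k1 zero_ne_one
      · simp only [Option.elim, polar_add_right, polar_smul_right, hfr.h2.wv, pol_sing Q hfr.h2.qw,
          pol_symm Q b' a, c2, m4, o4, hc.vw, pol_sing Q hc.qv, pol_symm Q c a, m1, n3, n4, smul_eq_mul, mul_zero,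
          mul_one, add_zero, zero_add] at k1 k2
        rw [k1, one_mul] at k2
        rw [k2])
  have h2 : Nat.card (Option F) = q + 1 := by rw [Nat.card_eq_fintype_card, Fintype.card_option]
  have h3 : Nat.card B - 1 ≤ q ^ 3 - 1 := by
    have : Nat.card B ≤ q ^ 3 := by
      rw [Module.natCard_eq_pow_finrank (K := F), Nat.card_eq_fintype_card, ← hq']
      refine Nat.pow_le_pow_right Fintype.card_pos ?_
      classical
      have h' := finrank_span_le_card (R := F) ({a, b, c} : Set V)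
      have h'' : ({a, b, c} : Set V).toFinset.card ≤ 3 := by simp; exact Finset.card_le_three
      show finrank F (Submodule.span F ({a, b, c} : Set V)) ≤ 3
      omega
    omega
  rw [h2] at hsub
  exact hsub.trans (Nat.mul_le_mul_left _ h3)

end CfsgLib.OmegaMin
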