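import Mathlib
import Cfsg.Agent.Lib.OmegaMin.Plane
import Cfsg.Agent.Lib.OmegaMin.Levi

/-! The double of a totally singular plane inside the radical: normalisation by conjugation. -/

set_option autoImplicit false
set_option maxHeartbeats 1000000

namespace CfsgLib.OmegaMin

open QuadraticMap CfsgLib.WittExtension Module CfsgLib.SpinorNorm CfsgLib.Eichler CfsgLib.OmegaSimple

universe uF uV

variable {F : Type uF} {V : Type uV} [Field F] [AddCommGroup V] [Module F V] {Q : QuadraticForm F V} {v x v' x' : V}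

/-- Conjugation by an element fixing the frame. -/
theorem conj_uel (h : Fr Q v x v' x') {g : quadIso Q} (hv : g.1 v = v) (hx : g.1 x = x) {α β : V}
    (hα : α ∈ Mid Q v x v' x') (hβ : β ∈ Mid Q v x v' x') (t : F) :
    g * uel Q v x α β t * g⁻¹ = uel Q v x (g.1 α) (g.1 β) t := by
  obtain ⟨a1, a2, -⟩ := uel_ok h hα hβ t
  rw [uel, uel, show g * (eg Q v (α + t • x) * eg Q x β) * g⁻¹ =
    (g * eg Q v (α + t • x) * g⁻¹) * (g * eg Q x β * g⁻¹) by group, eg_conj h.h1.qv a1, eg_conj h.h2.qv a2, map_add,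
    map_smul, hv, hx]

/-- Conjugation by a torus element of the first pair. -/
theorem conj_torus (h : Fr Q v x v' x') {g : quadIso Q} {c : F} (hv : g.1 v = c • v) (hx : g.1 x = x) {α β : V}
    (hα : α ∈ Mid Q v x v' x') (hβ : β ∈ Mid Q v x v' x') (hgα : g.1 α = α) (hgβ : g.1 β = β) (t : F) :
    g * uel Q v x α β t * g⁻¹ = uel Q v x (c • α) β (c * t) := by
  obtain ⟨a1, a2, -⟩ := uel_ok h hα hβ t
  rw [uel, uel, show g * (eg Q v (α + t • x) * eg Q x β) * g⁻¹ =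
    (g * eg Q v (α + t • x) * g⁻¹) * (g * eg Q x β * g⁻¹) by group, eg_conj h.h1.qv a1, eg_conj h.h2.qv a2, map_add,
    map_smul, hv, hx, hgα, hgβ, eg_smul_left h.h1.qv a1, smul_add, smul_smul]

theorem uel_conj (h : Fr Q v x v' x') {a b α β : V} (ha : a ∈ Mid Q v x v' x') (hb : b ∈ Mid Q v x v' x')
    (hα : α ∈ Mid Q v x v' x') (hβ : β ∈ Mid Q v x v' x') (r t : F) :
    uel Q v x a b r * uel Q v x α β t * (uel Q v x a b r)⁻¹ =
      uel Q v x α β (t - polar Q b α + polar Q β a) := by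
  rw [uel_mul h ha hb hα hβ, uel_inv h ha hb, uel_mul h (add_mem ha hα) (add_mem hb hβ) (neg_mem ha) (neg_mem hb),
    add_neg_cancel_comm, add_neg_cancel_comm, polar_neg_right, polar_add_left]
  congr 1
  ring

theorem central_comm (h : Fr Q v x v' x') {a b : V} (ha : a ∈ Mid Q v x v' x') (hb : b ∈ Mid Q v x v' x') (r s : F) :
    uel Q v x 0 0 r * uel Q v x a b s = uel Q v x a b s * uel Q v x 0 0 r := by
  rw [uel_mul h (zero_mem _) (zero_mem _) ha hb, uel_mul h ha hb (zero_mem _) (zero_mem _), polar_zero_left,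
    polar_zero_right, zero_add, zero_add, add_zero, add_zero, sub_zero, sub_zero, add_comm]

theorem root_swap (h : Fr Q v x v' x') (t : F) : eg Q x (t • v) = eg Q v (-t • x) := by
  have hv' : Q (-t • v) = 0 := by rw [QuadraticMap.map_smul, h.h1.qv, smul_zero]
  have := eg_swap (e := -t • v) hv' h.h2.qv (by rw [polar_smul_left, h.pol.1, smul_zero])
  rw [neg_smul, neg_neg, ← neg_smul, eg_smul_left h.h1.qv h.pol.1] at this
  exact this

theorem uel_left (h : Fr Q v x v' x') (α : V) : uel Q v x α 0 (0 : F) = eg Q v α := by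
  rw [uel, zero_smul, add_zero, eg_zero h.h2.qv, mul_one]

theorem uel_right (h : Fr Q v x v' x') (β : V) : uel Q v x 0 β (0 : F) = eg Q x β := by
  rw [uel, zero_smul, add_zero, eg_zero h.h1.qv, one_mul]

theorem mem_conj {H : Subgroup (quadIso Q)} {c g : quadIso Q} :
    g ∈ H.map (MulAut.conj c).toMonoidHom ↔ c⁻¹ * g * c ∈ H := by
  rw [Subgroup.mem_map]
  constructor
  · rintro ⟨k, hk, rfl⟩
    convert hk using 1
    simp [mul_assoc]
  · intro hk
    exact ⟨_, hk, by simp [mul_assoc]⟩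

theorem conj_relIndex (H : Subgroup (quadIso Q)) {c : quadIso Q} :
    (H.map (MulAut.conj c).toMonoidHom).relIndex (Om Q) = H.relIndex (Om Q) := by
  have e : (Om Q).map (MulAut.conj c).toMonoidHom = Om Q := by
    refine le_antisymm ?_ fun g hg => ?_
    · rintro _ ⟨k, hk, rfl⟩
      exact conj_mem_om Q c hk
    · exact mem_conj.2 (by simpa using conj_mem_om Q c⁻¹ hg)
  conv_lhs => rw [← e]
  exact Subgroup.relIndex_map_map_of_injective _ _ (MulAut.conj c).injective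

/-- The part of the radical over the double of `A`. -/
noncomputable def AA (h : Fr Q v x v' x') {A : Submodule F V} (hA : A ≤ Mid Q v x v' x') : Subgroup (quadIso Q) where
  carrier := {g | ∃ α ∈ A, ∃ β ∈ A, ∃ t : F, g = uel Q v x α β t}
  mul_mem' := by
    rintro g g' ⟨a, ha, b, hb, t, rfl⟩ ⟨a', ha', b', hb', t', rfl⟩
    exact ⟨_, add_mem ha ha', _, add_mem hb hb', _, uel_mul h (hA ha) (hA hb) (hA ha') (hA hb') t t'⟩
  one_mem' := ⟨0, zero_mem _, 0, zero_mem _, 0, (uel_zero h).symm⟩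
  inv_mem' := by
    rintro g ⟨a, ha, b, hb, t, rfl⟩
    exact ⟨_, neg_mem ha, _, neg_mem hb, _, uel_inv h (hA ha) (hA hb) t⟩

/-- The normalised configuration. -/
structure Norm (h : Fr Q v x v' x') (A : Submodule F V) (H : Subgroup (quadIso Q)) : Prop where
  le : H ≤ Om Q
  free : Free Q v x H
  sub : ∀ p ∈ Wl h H, p.1 ∈ A ∧ p.2 ∈ A
  mem : ∀ α ∈ A, ∀ β ∈ A, uel Q v x α β 0 ∈ H

theorem special_span (h : Fr Q v x v' x') {A : Submodule F V} {H : Subgroup (quadIso Q)}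
    (hsp : Submodule.span F (Wl h H : Set (V × V)) = A.prod A) : ∀ p ∈ Wl h H, p.1 ∈ A ∧ p.2 ∈ A := fun p hp => by
  have : p ∈ Submodule.span F (Wl h H : Set (V × V)) := Submodule.subset_span hp
  rw [hsp] at this
  exact this

variable [Fintype F] [FiniteDimensional F V]

theorem plane_card {A : Submodule F V} (h2 : finrank F A = 2) : Nat.card A = Fintype.card F ^ 2 := by
  rw [Module.natCard_eq_pow_finrank (K := F), Nat.card_eq_fintype_card, h2]

variable (hQ : (polarBilin Q).Nondegenerate) (hn : 7 ≤ finrank F V)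
include hQ hn

omit hn in
theorem norm_n0 (h : Fr Q v x v' x') {A : Submodule F V} {H : Subgroup (quadIso Q)} (hf : Free Q v x H)
    (hW : ∀ p ∈ Wl h H, p.1 ∈ A ∧ p.2 ∈ A) (h2 : finrank F A = 2) (h4 : finrank F (Mid Q v x v' x') = 4) :
    Fintype.card F ^ 5 ≤ H.relIndex (UL h) ∧ (¬ (∀ α ∈ A, ∀ β ∈ A, (α, β) ∈ Wl h H) →
      2 * Fintype.card F ^ 5 ≤ H.relIndex (UL h)) := by
  haveI : Finite V := finite_space F V
  set q := Fintype.card F with hq'
  have hq : 2 ≤ q := Fintype.one_lt_card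
  have hN := relIndex_UL h hf
  rw [h4, ← hq'] at hN
  let ι : A × A →+ V × V := AddMonoidHom.prodMap A.subtype.toAddMonoidHom A.subtype.toAddMonoidHom
  have hι : Function.Injective ι := fun a b e =>
    Prod.ext (Subtype.ext (congrArg Prod.fst e)) (Subtype.ext (congrArg Prod.snd e))
  set S := (Wl h H).comap ι with hS
  have hcS : Nat.card S = Nat.card (Wl h H) := by
    refine Nat.card_congr (Equiv.ofBijective (fun s : S => (⟨ι s.1, s.2⟩ : Wl h H)) ⟨fun a b e =>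
      Subtype.ext (hι (congrArg Subtype.val e)), ?_⟩)
    rintro ⟨p, hp⟩
    exact ⟨⟨(⟨p.1, (hW p hp).1⟩, ⟨p.2, (hW p hp).2⟩), hp⟩, rfl⟩
  have hmul := S.card_mul_index
  rw [Nat.card_prod, plane_card h2, ← hq', hcS] at hmul
  refine ⟨?_, fun hne => ?_⟩
  · refine Nat.le_of_mul_le_mul_right ?_ (show 0 < q ^ 2 * q ^ 2 by positivity)
    calc q ^ 5 * (q ^ 2 * q ^ 2) = q ^ (2 * 4 + 1) := by ring
      _ = H.relIndex (UL h) * Nat.card (Wl h H) := hN.symm
      _ ≤ _ := Nat.mul_le_mul_left _ (hmul ▸ Nat.le_mul_of_pos_right _ (Nat.pos_of_ne_zero AddSubgroup.index_ne_zero_of_finite))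
  · have hi : 2 ≤ S.index := by
      have h0 : S.index ≠ 0 := AddSubgroup.index_ne_zero_of_finite
      by_contra hc
      refine hne fun α hα β hβ => ?_
      have h1 := AddSubgroup.index_eq_one.1 (show S.index = 1 by omega)
      have : ((⟨α, hα⟩, ⟨β, hβ⟩) : A × A) ∈ S := by rw [h1]; trivial
      exact this
    refine Nat.le_of_mul_le_mul_right ?_ (show 0 < q ^ 2 * q ^ 2 by positivity)
    calc 2 * q ^ 5 * (q ^ 2 * q ^ 2) = 2 * q ^ (2 * 4 + 1) := by ring
      _ = 2 * (H.relIndex (UL h) * Nat.card (Wl h H)) := by rw [hN]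
      _ = H.relIndex (UL h) * (Nat.card (Wl h H) * 2) := by ring
      _ ≤ _ := Nat.mul_le_mul_left _ (hmul ▸ Nat.mul_le_mul_left _ hi)

/-- The image is the whole double. -/
theorem norm_full (h : Fr Q v x v' x') {A : Submodule F V} {a b a' b' : V} (D : Dual4 h A a b a' b')
    {H : Subgroup (quadIso Q)} (hf : Free Q v x H) (hsp : Submodule.span F (Wl h H : Set (V × V)) = A.prod A)
    (h2 : finrank F A = 2) (h4 : finrank F (Mid Q v x v' x') = 4)
    (hlt : H.relIndex (Om Q) < 2 * Fintype.card F ^ 6) : ∀ α ∈ A, ∀ β ∈ A, (α, β) ∈ Wl h H := by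
  by_contra hc
  have hN := (norm_n0 hQ h hf (special_span h hsp) h2 h4).2 hc
  obtain ⟨gs, hgs, hinj⟩ := plane_moves hQ hn h D
  have key : ∀ g : quadIso Q, ∀ a, a ∈ A.map (g.1 : V →ₗ[F] V) ↔
      (a, (0 : V)) ∈ (A.prod A).map (LinearMap.prodMap (g.1 : V →ₗ[F] V) (g.1 : V →ₗ[F] V)) := fun g a => by
    constructor
    · rintro ⟨a', ha', rfl⟩
      exact ⟨(a', 0), ⟨ha', zero_mem _⟩, by simp⟩
    · rintro ⟨r, hr, e⟩
      exact ⟨r.1, hr.1, congrArg Prod.fst e⟩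
  have := line_bound h hQ H (ul_le hQ hn h) gs
    (fun t => LinearMap.prodMap ((gs t).1 : V →ₗ[F] V) ((gs t).1 : V →ₗ[F] V)) (fun t => (hgs t).1)
    (fun t => acts_fix h (hgs t).2.1 (hgs t).2.2.1 (hgs t).2.2.2.1 (hgs t).2.2.2.2) fun s t e => hinj s t (by
      ext a
      rw [key, key, ← hsp, Submodule.map_span, Submodule.map_span, e])
  rw [Nat.card_eq_fintype_card] at this
  have h3 := Nat.mul_le_mul_right (Fintype.card F) hN
  have e : 2 * Fintype.card F ^ 5 * Fintype.card F = 2 * Fintype.card F ^ 6 := by ring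
  omega

/-- Elements preserving the double lift to `H`. -/
theorem lift_norm (h : Fr Q v x v' x') {A : Submodule F V} {a b a' b' : V} (D : Dual4 h A a b a' b')
    (hA : A ≤ Mid Q v x v' x') {H : Subgroup (quadIso Q)} (hf : Free Q v x H)
    (hW : ∀ p ∈ Wl h H, p.1 ∈ A ∧ p.2 ∈ A) (hfull : ∀ α ∈ A, ∀ β ∈ A, (α, β) ∈ Wl h H)
    (h2 : finrank F A = 2) (h4 : finrank F (Mid Q v x v' x') = 4)
    (hlt : H.relIndex (Om Q) < 2 * Fintype.card F ^ 6) {g : quadIso Q} {L : V × V →ₗ[F] V × V} (hg : g ∈ Om Q)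
    (hact : Acts h g L) (hLA : ∀ α ∈ A, ∀ β ∈ A, (L (α, β)).1 ∈ A ∧ (L (α, β)).2 ∈ A) :
    ∃ u ∈ UL h, g * u ∈ H := by
  classical
  haveI : Finite V := finite_space F V
  set q := Fintype.card F with hq'
  set X := Subgroup.normalizer (UL h : Set (quadIso Q)) ⊓ Om Q with hX
  have hUX : UL h ≤ X := le_inf Subgroup.le_normalizer (ul_le hQ hn h)
  set M0 := AA h hA with hM0
  -- elements of `H` normalising the radical preserve the double
  have hHN : ∀ k ∈ H ⊓ X, ∀ m ∈ M0, k * m * k⁻¹ ∈ M0 := by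
    rintro k hk m ⟨α, hα, β, hβ, t, rfl⟩
    have hN : ∀ z, z ∈ UL h ↔ k * z * k⁻¹ ∈ UL h := Subgroup.mem_normalizer_iff.1 hk.2.1
    obtain ⟨hαM, hβM, t0, ht0⟩ := hfull α hα β hβ
    obtain ⟨a1, ha1, b1, hb1, t1, ht1⟩ := (hN _).1 ⟨α, hαM, β, hβM, t0, rfl⟩
    have hm : uel Q v x a1 b1 t1 ∈ H := ht1 ▸ mul_mem (mul_mem hk.1 ht0) (inv_mem hk.1)
    obtain ⟨hA1, hB1⟩ := hW (a1, b1) ⟨ha1, hb1, t1, hm⟩
    obtain ⟨s, hs⟩ := central_eq h hQ ((hN _).1 ⟨0, zero_mem _, 0, zero_mem _, t - t0, rfl⟩) (fun w hw => by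
      obtain ⟨c, hc, d, hd, r, hr⟩ := (hN (k⁻¹ * w * k)).2 (by simpa [mul_assoc] using hw)
      have hw' : w = k * uel Q v x c d r * k⁻¹ := by rw [← hr]; group
      rw [hw']
      calc k * uel Q v x 0 0 (t - t0) * k⁻¹ * (k * uel Q v x c d r * k⁻¹)
          = k * (uel Q v x 0 0 (t - t0) * uel Q v x c d r) * k⁻¹ := by group
        _ = k * (uel Q v x c d r * uel Q v x 0 0 (t - t0)) * k⁻¹ := by rw [central_comm h hc hd]
        _ = _ := by group)
    have e0 : uel Q v x α β t = uel Q v x 0 0 (t - t0) * uel Q v x α β t0 := by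
      rw [uel_mul h (zero_mem _) (zero_mem _) hαM hβM, polar_zero_left, zero_add, zero_add, sub_add_cancel, sub_zero]
    rw [e0, show k * (uel Q v x 0 0 (t - t0) * uel Q v x α β t0) * k⁻¹ =
      (k * uel Q v x 0 0 (t - t0) * k⁻¹) * (k * uel Q v x α β t0 * k⁻¹) by group, hs, ht1,
      uel_mul h (zero_mem _) (zero_mem _) ha1 hb1, zero_add, zero_add]
    exact ⟨a1, hA1, b1, hB1, _, rfl⟩
  have hUN : ∀ k ∈ UL h, ∀ m ∈ M0, k * m * k⁻¹ ∈ M0 := by
    rintro k ⟨c, hc, d, hd, r, rfl⟩ m ⟨α, hα, β, hβ, t, rfl⟩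
    exact ⟨α, hα, β, hβ, _, uel_conj h hc hd (hA hα) (hA hβ) r t⟩
  have norm : ∀ {Y : Subgroup (quadIso Q)}, (∀ k ∈ Y, ∀ m ∈ M0, k * m * k⁻¹ ∈ M0) →
      Y ≤ Subgroup.normalizer (M0 : Set (quadIso Q)) := fun {Y} hY k hk =>
    Subgroup.mem_normalizer_iff.2 fun m => ⟨hY k hk m, fun hm => by
      have := hY k⁻¹ (inv_mem hk) _ hm
      simpa [mul_assoc] using this⟩
  have hK : (H ⊓ X) ⊔ UL h ≤ Subgroup.normalizer (M0 : Set (quadIso Q)) := sup_le (norm hHN) (norm hUN)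
  -- and so does `g`
  have hgN : g ∈ Subgroup.normalizer (M0 : Set (quadIso Q)) := by
    rw [Subgroup.mem_normalizer_iff]
    have hmaps : Set.MapsTo (fun k : quadIso Q => g * k * g⁻¹) (M0 : Set (quadIso Q)) M0 := by
      rintro k ⟨α, hα, β, hβ, t, rfl⟩
      obtain ⟨-, -, lk⟩ := hact α (hA hα) β (hA hβ)
      obtain ⟨t', ht'⟩ := lk t
      exact ⟨_, (hLA α hα β hβ).1, _, (hLA α hα β hβ).2, t', ht'⟩
    have hinj : Set.InjOn (fun k : quadIso Q => g * k * g⁻¹) (M0 : Set (quadIso Q)) := fun a _ b _ e =>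
      mul_left_cancel (mul_right_cancel e)
    intro k
    refine ⟨fun hk => hmaps hk, fun hk => ?_⟩
    obtain ⟨k', hk', e⟩ := ((Set.toFinite _).injOn_iff_bijOn_of_mapsTo hmaps).1 hinj |>.surjOn hk
    rwa [← show k' = k from mul_left_cancel (mul_right_cancel e)]
  -- doubling
  have hgK : g ∈ (H ⊓ X) ⊔ UL h := by
    by_contra hgn
    obtain ⟨gs, hgs, hinj⟩ := plane_moves hQ hn h D
    have hgX : g ∈ X := ⟨acts_norm hact, hg⟩
    have hgsX : ∀ t, gs t ∈ X := fun t =>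
      ⟨acts_norm (acts_fix h (hgs t).2.1 (hgs t).2.2.1 (hgs t).2.2.2.1 (hgs t).2.2.2.2), (hgs t).1⟩
    have hplane : ∀ s t, (gs s)⁻¹ * gs t ∈ Subgroup.normalizer (M0 : Set (quadIso Q)) → s = t := by
      intro s t hm
      refine (hinj t s ?_).symm
      obtain ⟨-, s1, s2, s3, s4⟩ := hgs s
      obtain ⟨-, t1, t2, t3, t4⟩ := hgs t
      set k := (gs s)⁻¹ * gs t with hk
      have k1 : k.1 v = v := by rw [hk, mul_app, t1, inv_app_eq _ s1]
      have k2 : k.1 x = x := by rw [hk, mul_app, t2, inv_app_eq _ s2]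
      have k3 : k.1 v' = v' := by rw [hk, mul_app, t3, inv_app_eq _ s3]
      have k4 : k.1 x' = x' := by rw [hk, mul_app, t4, inv_app_eq _ s4]
      have hsub : ∀ y ∈ A, k.1 y ∈ A := fun y hy => by
        have h1 := (Subgroup.mem_normalizer_iff.1 hm _).1 (show uel Q v x y 0 0 ∈ M0 from
          ⟨y, hy, 0, zero_mem _, 0, rfl⟩)
        rw [conj_uel h k1 k2 (hA hy) (zero_mem _)] at h1
        obtain ⟨α, hα, β, hβ, r, e⟩ := h1
        obtain ⟨l1, l2, -⟩ := acts_fix h k1 k2 k3 k4 y (hA hy) 0 (zero_mem _)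
        obtain ⟨e1, -, -⟩ := uel_inj h l1 l2 (hA hα) (hA hβ) e
        change k.1 y = α at e1
        rw [e1]; exact hα
      refine Submodule.eq_of_le_of_finrank_le ?_ ?_
      · rintro _ ⟨y, hy, rfl⟩
        refine ⟨k.1 y, hsub y hy, ?_⟩
        show (gs s).1 (((gs s)⁻¹ * gs t).1 y) = (gs t).1 y
        rw [mul_app, app_inv_app]
      · exact le_of_eq ((LinearEquiv.finrank_map_eq _ _).trans (LinearEquiv.finrank_map_eq _ _).symm)
    have hcard := relIndex_family (ι := F × Bool) H X (UL h) hUX (fun k => k ∈ (H ⊓ X) ⊔ UL h) (fun k hk => hk)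
      (fun i => gs i.1 * if i.2 then g else 1)
      (fun i => mul_mem (hgsX _) (by split_ifs <;> simp [hgX, one_mem]))
      (fun i j hij => by
        obtain ⟨s, bs⟩ := i
        obtain ⟨t, bt⟩ := j
        have e : ∀ b : Bool, (if b then g else 1) ∈ Subgroup.normalizer (M0 : Set (quadIso Q)) := fun b => by
          cases b <;> simp [hgN, one_mem]
        have hst : s = t := hplane s t (by
          have := mul_mem (mul_mem (e bs) (hK hij)) (inv_mem (e bt))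
          convert this using 1
          group)
        subst hst
        simp only [mul_inv_rev, mul_assoc, inv_mul_cancel_left] at hij
        cases bs <;> cases bt <;> simp at hij ⊢
        · exact hgn hij
        · exact hgn hij)
    rw [Nat.card_eq_fintype_card, Fintype.card_prod, Fintype.card_bool, ← hq'] at hcard
    have h5 := (norm_n0 hQ h hf hW h2 h4).1
    have h6 := Nat.mul_le_mul_right (q * 2) h5
    have e : q ^ 5 * (q * 2) = 2 * q ^ 6 := by ring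
    have h7 := relIndex_mono H (show X ≤ Om Q from inf_le_right)
    rw [← hq'] at h6
    omega
  suffices g ∈ X ∧ ∃ u ∈ UL h, g * u ∈ H from this.2
  refine Subgroup.closure_induction (p := fun k _ => k ∈ X ∧ ∃ u ∈ UL h, k * u ∈ H) ?_ ?_ ?_ ?_
    (show g ∈ Subgroup.closure (↑(H ⊓ X) ∪ ↑(UL h) : Set (quadIso Q)) by
      rw [Subgroup.closure_union, Subgroup.closure_eq, Subgroup.closure_eq]; exact hgK)
  · rintro k (hk | hk)
    · exact ⟨hk.2, 1, one_mem _, by rw [mul_one]; exact hk.1⟩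
    · exact ⟨hUX hk, k⁻¹, inv_mem hk, by rw [mul_inv_cancel]; exact one_mem _⟩
  · exact ⟨one_mem _, 1, one_mem _, by rw [one_mul]; exact one_mem _⟩
  · rintro c d - - ⟨hc, u, hu, hcu⟩ ⟨hd, w, hw, hdw⟩
    refine ⟨mul_mem hc hd, (d⁻¹ * u * d) * w, mul_mem ((Subgroup.mem_normalizer_iff''.1 hd.1 u).1 hu) hw, ?_⟩
    have := mul_mem hcu hdw
    convert this using 1
    group
  · rintro c - ⟨hc, u, hu, hcu⟩
    refine ⟨inv_mem hc, c * u⁻¹ * c⁻¹, (Subgroup.mem_normalizer_iff.1 hc.1 _).1 (inv_mem hu), ?_⟩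
    have := inv_mem hcu
    convert this using 1
    group

/-- Conjugation normalises the double, with a torus element. -/
theorem normalise (h : Fr Q v x v' x') {A : Submodule F V} {a b a' b' : V} (D : Dual4 h A a b a' b')
    (hA : A ≤ Mid Q v x v' x') (hs : ∀ y ∈ A, Q y = 0) {H : Subgroup (quadIso Q)} (hH : H ≤ Om Q)
    (hf : Free Q v x H) (hsp : Submodule.span F (Wl h H : Set (V × V)) = A.prod A)
    (h2 : finrank F A = 2) (h4 : finrank F (Mid Q v x v' x') = 4)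
    (hlt : H.relIndex (Om Q) < 2 * Fintype.card F ^ 6) :
    ∃ H', H'.relIndex (Om Q) = H.relIndex (Om Q) ∧ Norm h A H' ∧
      ∀ s : F, s ≠ 0 → s * s ≠ 1 → ∃ H'', H''.relIndex (Om Q) = H.relIndex (Om Q) ∧ Norm h A H'' ∧
        ∃ T ∈ H'', T.1 v = (s * s) • v ∧ T.1 v' = (s * s)⁻¹ • v' ∧ ∀ y ∈ perp Q v v', T.1 y = y := by
  classical
  haveI : Finite V := finite_space F V
  have hfull := norm_full hQ hn h D hf hsp h2 h4 hlt
  have hW := special_span h hsp
  have hiso : ∀ y ∈ A, ∀ z ∈ A, polar Q y z = 0 := fun y hy z hz => by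
    simp only [QuadraticMap.polar, hs _ (add_mem hy hz), hs y hy, hs z hz, sub_zero]
  set M := Mid Q v x v' x'
  -- conjugation by elements of the radical
  have conjR : ∀ {K : Subgroup (quadIso Q)}, Free Q v x K → K ≤ Om Q → ∀ c ∈ UL h,
      K.map (MulAut.conj c).toMonoidHom ≤ Om Q ∧ Free Q v x (K.map (MulAut.conj c).toMonoidHom) ∧
      ∀ p ∈ Wl h (K.map (MulAut.conj c).toMonoidHom), p ∈ Wl h K := by
    intro K hfK hKO c hc
    obtain ⟨p, hp, q, hq, r, rfl⟩ := hc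
    refine ⟨?_, fun t ht hm => hfK t ht ?_, ?_⟩
    · rintro _ ⟨k, hk, rfl⟩
      exact conj_mem_om Q _ (hKO hk)
    · rw [mem_conj, ← uel_r h] at hm
      rw [← uel_r h]
      rwa [show (uel Q v x p q r)⁻¹ * uel Q v x 0 0 t * uel Q v x p q r = uel Q v x 0 0 t by
        rw [mul_assoc, central_comm h hp hq, inv_mul_cancel_left]] at hm
    · rintro ⟨α, β⟩ ⟨hα, hβ, t, ht⟩
      rw [mem_conj, uel_inv h hp hq] at ht
      rw [show uel Q v x p q r = (uel Q v x (-p) (-q) (-r - polar Q q p))⁻¹ by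
        rw [← uel_inv h hp hq, inv_inv], uel_conj h (neg_mem hp) (neg_mem hq) hα hβ] at ht
      exact ⟨hα, hβ, _, ht⟩
  -- first step
  obtain ⟨g, hg, g1, g2, g3, g4, gA, gfix⟩ := exists_fpf hQ hn h D
  have gact := acts_fix h g1 g2 g3 g4
  obtain ⟨u, hu, hgu⟩ := lift_norm hQ hn h D hA hf hW hfull h2 h4 hlt hg gact fun α hα β hβ => ⟨gA α hα, gA β hβ⟩
  obtain ⟨ua, hua, ub, hub, ur, rfl⟩ := hu
  have gM : ∀ y ∈ M, g⁻¹.1 y ∈ M := fun y hy => by
    obtain ⟨l, -, -⟩ := acts_fix h (inv_app_eq g g1) (inv_app_eq g g2) (inv_app_eq g g3) (inv_app_eq g g4) y hy 0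
      (zero_mem _)
    exact l
  let φ : M →ₗ[F] M := LinearMap.id - ((g⁻¹.1 : V →ₗ[F] V).restrict gM)
  have hφ : Function.Surjective φ := by
    refine LinearMap.injective_iff_surjective.1 ((injective_iff_map_eq_zero φ).2 fun y hy => ?_)
    have e : y.1 - g⁻¹.1 y.1 = 0 := congrArg Subtype.val hy
    refine Subtype.ext (gfix y.1 y.2 ?_)
    conv_lhs => rw [sub_eq_zero.1 e]
    exact app_inv_app Q g y.1
  obtain ⟨p, hp⟩ := hφ ⟨ua, hua⟩
  obtain ⟨q, hq⟩ := hφ ⟨ub, hub⟩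
  have hp' : p.1 - g⁻¹.1 p.1 = ua := congrArg Subtype.val hp
  have hq' : q.1 - g⁻¹.1 q.1 = ub := congrArg Subtype.val hq
  set c := uel Q v x p.1 q.1 0 with hc
  have hcU : c ∈ UL h := ⟨_, p.2, _, q.2, 0, rfl⟩
  set H1 := H.map (MulAut.conj c).toMonoidHom with hH1
  obtain ⟨hO1, hf1, hW1⟩ := conjR hf hH c hcU
  obtain ⟨r0, hgz⟩ : ∃ r, g * uel Q v x 0 0 r ∈ H1 := by
    have hm : c * (g * uel Q v x ua ub ur) * c⁻¹ ∈ H1 := mem_conj.2 (by simpa [mul_assoc] using hgu)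
    have e : g⁻¹ * c * g = uel Q v x (g⁻¹.1 p.1) (g⁻¹.1 q.1) 0 := by
      have := conj_uel h (inv_app_eq g g1) (inv_app_eq g g2) p.2 q.2 (0 : F)
      rwa [inv_inv] at this
    rw [show c * (g * uel Q v x ua ub ur) * c⁻¹ = g * ((g⁻¹ * c * g) * uel Q v x ua ub ur * c⁻¹) by group, e, hc,
      uel_mul h (gM _ p.2) (gM _ q.2) hua hub, uel_inv h p.2 q.2,
      uel_mul h (add_mem (gM _ p.2) hua) (add_mem (gM _ q.2) hub) (neg_mem p.2) (neg_mem q.2),
      show g⁻¹.1 p.1 + ua + -p.1 = 0 by rw [← hp']; abel, show g⁻¹.1 q.1 + ub + -q.1 = 0 by rw [← hq']; abel] at hm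
    exact ⟨_, hm⟩
  have hfull1 : ∀ α ∈ A, ∀ β ∈ A, (α, β) ∈ Wl h H1 := fun α hα β hβ => by
    obtain ⟨hαM, hβM, t, ht⟩ := hfull α hα β hβ
    refine ⟨hαM, hβM, t - polar Q q.1 α + polar Q β p.1, ?_⟩
    rw [← uel_conj h p.2 q.2 hαM hβM 0 t, ← hc, hH1, mem_conj]
    simpa [mul_assoc] using ht
  have hmem1 : ∀ α ∈ A, ∀ β ∈ A, uel Q v x α β 0 ∈ H1 := by
    have hsur : ∀ y ∈ A, ∃ z ∈ A, g.1 z - z = y := by
      let ψ : A →ₗ[F] A := ((g.1 : V →ₗ[F] V).restrict gA) - LinearMap.id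
      have : Function.Surjective ψ := by
        refine LinearMap.injective_iff_surjective.1 ((injective_iff_map_eq_zero ψ).2 fun y hy => ?_)
        have e : g.1 y.1 - y.1 = 0 := congrArg Subtype.val hy
        exact Subtype.ext (gfix y.1 (hA y.2) (sub_eq_zero.1 e))
      intro y hy
      obtain ⟨z, hz⟩ := this ⟨y, hy⟩
      exact ⟨z.1, z.2, congrArg Subtype.val hz⟩
    intro α hα β hβ
    obtain ⟨α0, hα0, eα⟩ := hsur α hα
    obtain ⟨β0, hβ0, eβ⟩ := hsur β hβ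
    obtain ⟨-, -, t, ht⟩ := hfull1 α0 hα0 β0 hβ0
    have h1 := mul_mem (mul_mem hgz ht) (inv_mem hgz)
    have ez : uel Q v x 0 0 r0 * uel Q v x α0 β0 t * (uel Q v x 0 0 r0)⁻¹ = uel Q v x α0 β0 t := by
      rw [central_comm h (hA hα0) (hA hβ0), mul_inv_cancel_right]
    rw [mul_inv_rev, show g * uel Q v x 0 0 r0 * uel Q v x α0 β0 t * ((uel Q v x 0 0 r0)⁻¹ * g⁻¹) =
      g * (uel Q v x 0 0 r0 * uel Q v x α0 β0 t * (uel Q v x 0 0 r0)⁻¹) * g⁻¹ by group, ez,
      conj_uel h g1 g2 (hA hα0) (hA hβ0)] at h1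
    have h3 := mul_mem h1 (inv_mem ht)
    rw [uel_inv h (hA hα0) (hA hβ0),
      uel_mul h (hA (gA α0 hα0)) (hA (gA β0 hβ0)) (neg_mem (hA hα0)) (neg_mem (hA hβ0))] at h3
    rw [← eα, ← eβ]
    convert h3 using 2
    · abel
    · abel
    · rw [polar_neg_right, hiso _ hβ0 _ hα0, hiso _ (gA β0 hβ0) _ hα0]; ring
  have hN1 : Norm h A H1 := ⟨hO1, hf1, fun p hp => hW p (hW1 p hp), hmem1⟩
  refine ⟨H1, conj_relIndex H, hN1, fun s hs0 hs1 => ?_⟩
  -- second step
  obtain ⟨T, hT, tv, tw, ty⟩ := square_torus h.h1 hs0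
  set lam := s * s with hlam
  have hl0 : lam ≠ 0 := mul_ne_zero hs0 hs0
  have tx : T.1 x = x := ty x h.hx
  have tA : ∀ y ∈ M, T.1 y = y := fun y hy => ty y hy.1
  have tact : Acts h T (LinearMap.prodMap (lam • LinearMap.id) LinearMap.id) := fun α hα β hβ =>
    ⟨Submodule.smul_mem _ _ hα, hβ, fun t => ⟨lam * t, conj_torus h tv tx hα hβ (tA α hα) (tA β hβ) t⟩⟩
  obtain ⟨w, hw, hTw⟩ := lift_norm hQ hn h D hA hf1 hN1.sub hfull1 h2 h4
    (by rw [conj_relIndex H]; exact hlt) hT tact fun α hα β hβ => ⟨Submodule.smul_mem _ _ hα, hβ⟩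
  obtain ⟨wa, hwa, wb, hwb, wr, rfl⟩ := hw
  have hcomm : ∀ α ∈ A, ∀ β ∈ A, - polar Q wb α + polar Q β wa = 0 := by
    intro α hα β hβ
    have h1 := mul_mem (mul_mem hTw (hmem1 α hα β hβ)) (inv_mem hTw)
    rw [mul_inv_rev, show T * uel Q v x wa wb wr * uel Q v x α β 0 * ((uel Q v x wa wb wr)⁻¹ * T⁻¹) =
      T * (uel Q v x wa wb wr * uel Q v x α β 0 * (uel Q v x wa wb wr)⁻¹) * T⁻¹ by group,
      uel_conj h hwa hwb (hA hα) (hA hβ), conj_torus h tv tx (hA hα) (hA hβ) (tA α (hA hα)) (tA β (hA hβ))] at h1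
    have h3 := h.free_unique hf1 (Submodule.smul_mem _ _ (hA hα)) (hA hβ) h1
      (hmem1 _ (Submodule.smul_mem _ _ hα) _ hβ)
    have := (mul_eq_zero.1 h3).resolve_left hl0
    linear_combination this
  obtain ⟨ha, hb, -⟩ := D.memA
  have inA : ∀ z ∈ M, polar Q a z = 0 → polar Q b z = 0 → z ∈ A := fun z hz e1 e2 => by
    rw [D.dec z hz, e1, e2, zero_smul, zero_smul, add_zero, add_zero]
    exact add_mem (Submodule.smul_mem _ _ ha) (Submodule.smul_mem _ _ hb)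
  have hwaA : wa ∈ A := inA wa hwa
    (by have := hcomm 0 (zero_mem _) a ha; simpa using this)
    (by have := hcomm 0 (zero_mem _) b hb; simpa using this)
  have hwbA : wb ∈ A := inA wb hwb
    (by have := hcomm a ha 0 (zero_mem _); rw [pol_symm]; simpa using this)
    (by have := hcomm b hb 0 (zero_mem _); rw [pol_symm]; simpa using this)
  have hTr : T * uel Q v x 0 0 wr ∈ H1 := by
    have := mul_mem hTw (hmem1 _ (neg_mem hwaA) _ (neg_mem hwbA))
    rwa [mul_assoc, uel_mul h hwa hwb (neg_mem hwa) (neg_mem hwb), add_neg_cancel, add_neg_cancel, polar_neg_right,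
      hiso _ hwbA _ hwaA, neg_zero, add_zero, sub_zero] at this
  have hl1 : (1 : F) - lam⁻¹ ≠ 0 := sub_ne_zero.2 fun e => hs1 (inv_eq_one.1 e.symm)
  set d := uel Q v x 0 0 (wr * (1 - lam⁻¹)⁻¹) with hd
  have hdU : d ∈ UL h := ⟨0, zero_mem _, 0, zero_mem _, _, rfl⟩
  obtain ⟨hO2, hf2, hW2⟩ := conjR hf1 hO1 d hdU
  refine ⟨H1.map (MulAut.conj d).toMonoidHom, (conj_relIndex H1).trans (conj_relIndex H),
    ⟨hO2, hf2, fun p hp => hN1.sub p (hW2 p hp), fun α hα β hβ => mem_conj.2 ?_⟩, T, mem_conj.2 ?_, tv, tw, ty⟩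
  · rw [mul_assoc, hd, ← central_comm h (hA hα) (hA hβ), inv_mul_cancel_left]
    exact hmem1 α hα β hβ
  · have e : T⁻¹ * d * T = uel Q v x 0 0 (lam⁻¹ * (wr * (1 - lam⁻¹)⁻¹)) := by
      have := conj_torus h (g := T⁻¹) (c := lam⁻¹)
        (inv_app_eq T (by rw [map_smul, tv, smul_smul, inv_mul_cancel₀ hl0, one_smul])) (inv_app_eq T tx)
        (zero_mem _) (zero_mem _) (map_zero _) (map_zero _) (wr * (1 - lam⁻¹)⁻¹)
      rwa [inv_inv, smul_zero, ← hd] at this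
    have e2 : d⁻¹ * T * d = T * uel Q v x 0 0 wr := by
      rw [show d⁻¹ * T * d = T * ((T⁻¹ * d⁻¹ * T) * d) by group,
        show T⁻¹ * d⁻¹ * T = (T⁻¹ * d * T)⁻¹ by group, e, hd, uel_inv h (zero_mem _) (zero_mem _), neg_zero,
        uel_mul h (zero_mem _) (zero_mem _) (zero_mem _) (zero_mem _)]
      congr 2
      · rw [add_zero]
      · rw [add_zero]
      · simp only [polar_zero_left, sub_zero]
        field_simp
        ring
    rw [e2]
    exact hTr

end CfsgLib.OmegaMin
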