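import Mathlib
import Cfsg.Agent.Lib.OmegaMin.SpecialNorm

/-! The parameters of a point on the normalised configuration: a totally singular solid. -/

set_option autoImplicit false
set_option maxHeartbeats 1000000

namespace CfsgLib.OmegaMin

open QuadraticMap CfsgLib.WittExtension Module CfsgLib.SpinorNorm CfsgLib.Eichler CfsgLib.OmegaSimple

universe uF uV

variable {F : Type uF} {V : Type uV} [Field F] [AddCommGroup V] [Module F V] {Q : QuadraticForm F V} {v w : V}

theorem act_quad (h : Hyp Q v w) {g : quadIso Q} (hg : g ∈ Line Q v) {y : V} (hy : y ∈ perp Q v w) :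
    Q (act Q v w g y) = polar Q w (g.1 v) * polar Q w (g.1 v) * Q y := by
  have h2 : Q (proj Q v w (g.1 y)) = Q y := by
    have := (h.parts (h.proj_mem (g.1 y)) (polar Q w (g.1 y)) (polar Q v (g.1 y))).2.2
    rw [← h.decomp, g.2, perp_map h hg hy, mul_zero, add_zero] at this
    exact this.symm
  rw [act, QuadraticMap.map_smul, h2, smul_eq_mul]

theorem act_add (g : quadIso Q) (y z : V) : act Q v w g (y + z) = act Q v w g y + act Q v w g z := by
  simp only [act, map_add, proj_add, smul_add]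

theorem act_smul (g : quadIso Q) (c : F) (y : V) : act Q v w g (c • y) = c • act Q v w g y := by
  simp only [act, map_smul, proj_smul, smul_comm c]

theorem act_pol (h : Hyp Q v w) {g : quadIso Q} (hg : g ∈ Line Q v) {y z : V} (hy : y ∈ perp Q v w)
    (hz : z ∈ perp Q v w) :
    polar Q (act Q v w g y) (act Q v w g z) = polar Q w (g.1 v) * polar Q w (g.1 v) * polar Q y z := by
  simp only [QuadraticMap.polar, ← act_add, act_quad h hg (add_mem hy hz), act_quad h hg hy, act_quad h hg hz]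
  ring

theorem act_injOn (h : Hyp Q v w) {g : quadIso Q} (hg : g ∈ Line Q v) : Set.InjOn (act Q v w g) (perp Q v w : Set V) :=
  fun a ha b hb e => by
    have := congrArg (act Q v w g⁻¹) e
    rwa [← act_mul h (inv_mem hg) hg ha, ← act_mul h (inv_mem hg) hg hb, inv_mul_cancel,
      (act_fix h (one_app Q v) (one_app Q w) ha).1, (act_fix h (one_app Q v) (one_app Q w) hb).1] at this

section
variable [Fintype F] [FiniteDimensional F V]

/-- The elements of the point stabiliser preserving a subspace of the radical. -/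
noncomputable def Stab (h : Hyp Q v w) {B : Submodule F V} (hB : B ≤ perp Q v w) : Subgroup (quadIso Q) where
  carrier := {g | g ∈ Pst Q v ∧ ∀ y ∈ B, act Q v w g y ∈ B}
  mul_mem' := fun {g k} hg hk => ⟨mul_mem hg.1 hk.1, fun y hy => by
    rw [act_mul h hg.1.1 hk.1.1 (hB hy)]; exact hg.2 _ (hk.2 y hy)⟩
  one_mem' := ⟨one_mem _, fun y hy => by rwa [(act_fix h (one_app Q v) (one_app Q w) (hB hy)).1, one_app]⟩
  inv_mem' := fun {g} hg => ⟨inv_mem hg.1, fun y hy => by
    haveI : Finite V := finite_space F V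
    have hmaps : Set.MapsTo (act Q v w g) B B := fun z hz => hg.2 z hz
    obtain ⟨z, hz, rfl⟩ :=
      ((Set.toFinite (B : Set V)).injOn_iff_bijOn_of_mapsTo hmaps).1 ((act_injOn h hg.1.1).mono hB) |>.surjOn hy
    rwa [← act_mul h (inv_mem hg.1.1) hg.1.1 (hB hz), inv_mul_cancel,
      (act_fix h (one_app Q v) (one_app Q w) (hB hz)).1, one_app]⟩

theorem sup_le_stab (hQ : (polarBilin Q).Nondegenerate) (hn : 5 ≤ finrank F V) (h : Hyp Q v w) {B : Submodule F V}
    (hB : B ≤ perp Q v w) (H : Subgroup (quadIso Q))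
    (hinv : ∀ g ∈ H, g ∈ Pst Q v → ∀ y ∈ B, act Q v w g y ∈ B) : (H ⊓ Pst Q v) ⊔ EG Q h ≤ Stab h hB := by
  refine sup_le (fun g hg => ⟨hg.2, hinv g hg.1 hg.2⟩) fun g hg => ⟨EG_le hQ hn h hg, ?_⟩
  obtain ⟨z, hz, rfl⟩ := hg
  intro y hy
  rwa [act_eg h hz (hB hy)]

/-- The singular vectors of the parameters orthogonal to all of them span an invariant subspace. -/
theorem radical_invariant (hQ : (polarBilin Q).Nondegenerate) (hn : 5 ≤ finrank F V) (h : Hyp Q v w)
    (H : Subgroup (quadIso Q)) {g : quadIso Q} (hg : g ∈ H) (hg' : g ∈ Pst Q v) :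
    ∀ y ∈ Submodule.span F {y | y ∈ Wp Q h H ∧ Q y = 0 ∧ ∀ z ∈ Wp Q h H, polar Q y z = 0},
      act Q v w g y ∈ Submodule.span F {y | y ∈ Wp Q h H ∧ Q y = 0 ∧ ∀ z ∈ Wp Q h H, polar Q y z = 0} := by
  haveI : Finite V := finite_space F V
  have hmaps : Set.MapsTo (act Q v w g) (Wp Q h H : Set V) (Wp Q h H) := fun z hz =>
    wp_invariant hQ hn h hg hg' hz
  have hsurj := (((Set.toFinite (Wp Q h H : Set V)).injOn_iff_bijOn_of_mapsTo hmaps).1
    ((act_injOn h hg'.1).mono fun z hz => hz.1)).surjOn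
  intro y hy
  induction hy using Submodule.span_induction with
  | mem y hy =>
    refine Submodule.subset_span ⟨hmaps hy.1, ?_, fun z hz => ?_⟩
    · rw [act_quad h hg'.1 hy.1.1, hy.2.1, mul_zero]
    · obtain ⟨z0, hz0, rfl⟩ := hsurj hz
      rw [act_pol h hg'.1 hy.1.1 hz0.1, hy.2.2 z0 hz0, mul_zero]
  | zero => rw [show act Q v w g 0 = 0 by simp [act, proj]]; exact zero_mem _
  | add a b _ _ ha hb => rw [act_add]; exact add_mem ha hb
  | smul c a _ ha => rw [act_smul]; exact Submodule.smul_mem _ _ ha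

end

theorem Dual4.symm {v x v' x' : V} {h : Fr Q v x v' x'} {A : Submodule F V} {a b a' b' : V}
    (D : Dual4 h A a b a' b') : Dual4 h.symm A a b a' b' := by
  obtain ⟨f, m1, m2, m3, m4, sp, dec⟩ := D
  constructor
  all_goals first | exact f | exact sp | (rw [mid_symm]; assumption)

variable [Fintype F] [FiniteDimensional F V]
variable (hQ : (polarBilin Q).Nondegenerate) (hn : 7 ≤ finrank F V)
include hQ hn

/-- The parameters of the point are a totally singular plane extending `A`, with full stabiliser. -/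
theorem point_solid {x v' x' : V} (h : Fr Q v x v' x') {A : Submodule F V} {a b a' b' : V}
    (D : Dual4 h A a b a' b') (hs : ∀ y ∈ A, Q y = 0) (h4 : finrank F (Mid Q v x v' x') = 4)
    {H : Subgroup (quadIso Q)} (hev : ∀ y ∈ A, eg Q v y ∈ H) (hex : ∀ y ∈ A, eg Q x y ∈ H)
    (hker : ∀ y ∈ Wp Q h.h1 H, polar Q x y = 0 → y ∈ A) (hlt : H.relIndex (Om Q) < 2 * Fintype.card F ^ 6) :
    (∀ y, y ∈ Wp Q h.h1 H ↔ y ∈ Submodule.span F ({a, b, x'} : Set V)) ∧
      Nat.card (Submodule.span F ({a, b, x'} : Set V)) = Fintype.card F ^ 3 ∧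
      Fintype.card F ^ 3 * (Fintype.card F ^ 3 + Fintype.card F ^ 2 + Fintype.card F + 1) ≤ H.relIndex (Pst Q v) ∧
      ∀ g ∈ Pst Q v, (∀ y ∈ Submodule.span F ({a, b, x'} : Set V),
        act Q v v' g y ∈ Submodule.span F ({a, b, x'} : Set V)) → ∃ y ∈ perp Q v v', g * eg Q v y ∈ H := by
  classical
  haveI : Finite V := finite_space F V
  set q := Fintype.card F with hq'
  have hq : 2 ≤ q := Fintype.one_lt_card
  set U := perp Q v v'
  set P := Submodule.span F ({a, b, x'} : Set V)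
  obtain ⟨ha, hb, hdA⟩ := D.memA
  obtain ⟨c1, c2, c3, c4, c5, c6, c7, c8⟩ := D.fr.pol
  have hd6 : finrank F (perp Q v v') = 6 := by
    have := h.finrank_mid; have := h.h1.finrank_perp; omega
  have hn5 : 5 ≤ finrank F V := by omega
  have hAsp : Submodule.span F {a, b} = A := D.span.symm
  have hAM : A ≤ Mid Q v x v' x' := by
    rw [← hAsp, Submodule.span_le]
    rintro z (rfl | rfl)
    exacts [D.ma, D.mb]
  have hiso : ∀ y ∈ A, ∀ z ∈ A, polar Q y z = 0 := fun y hy z hz => by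
    simp only [QuadraticMap.polar, hs _ (add_mem hy hz), hs y hy, hs z hz, sub_zero]
  have haP : a ∈ P := Submodule.subset_span (Set.mem_insert _ _)
  have hbP : b ∈ P := Submodule.subset_span (Set.mem_insert_of_mem _ (Set.mem_insert _ _))
  have hxP : x' ∈ P := Submodule.subset_span (Set.mem_insert_of_mem _ (Set.mem_insert_of_mem _ rfl))
  have hAP : A ≤ P := by
    rw [← hAsp, Submodule.span_le]
    rintro z (rfl | rfl)
    exacts [haP, hbP]
  have hPU : P ≤ U := Submodule.span_le.2 (by rintro z (rfl | rfl | rfl); exacts [D.ma.1, D.mb.1, h.hx'])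
  set W := Wp Q h.h1 H
  have hAW : ∀ y ∈ A, y ∈ W := fun y hy => ⟨(hAM hy).1, hev y hy⟩
  -- the components of a parameter
  have hpart : ∀ y ∈ W, ∃ m ∈ A, y = m + polar Q x' y • x + polar Q x y • x' := by
    intro y hy
    have hyU : y ∈ U := hy.1
    set m := proj Q x x' y with hm
    have hmM : m ∈ Mid Q v x v' x' :=
      ⟨sub_mem (sub_mem hyU (Submodule.smul_mem _ _ h.hx)) (Submodule.smul_mem _ _ h.hx'), h.h2.proj_mem _⟩
    have key : ∀ β ∈ A, polar Q β m = 0 := by
      intro β hβ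
      obtain ⟨b1, b2, b3, b4, b5, b6, b7, b8⟩ := mid4 (hAM hβ)
      obtain ⟨mp, f1, f2⟩ := eg_fix_pair hQ hn5 h.h2.qv b3 h.hx (hAM hβ).1
      have hw := wp_invariant hQ hn5 h.h1 (hex β hβ) mp hy
      rw [(act_fix h.h1 f1 f2 hyU).1, eg_app h.h2.qv b3, hs β hβ, zero_mul, sub_zero] at hw
      have hd := sub_mem hw hy
      rw [add_sub_cancel_left] at hd
      have hdA' := hker _ hd (by
        simp [polar_add_right, polar_smul_right, b3, pol_sing Q h.h2.qv, h.h2.qv])
      have e := sub_mem hdA' (Submodule.smul_mem A (polar Q x y) hβ)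
      rw [add_sub_cancel_left] at e
      have e2 := (mid4 (hAM e)).2.2.2.1
      rw [polar_smul_right, h.h2.wv, smul_eq_mul, mul_one, neg_eq_zero] at e2
      rw [hm, proj]
      simp [sub_eq_add_neg, polar_add_right, polar_neg_right, polar_smul_right, e2, b7, b8]
    refine ⟨m, ?_, h.h2.decomp y⟩
    rw [D.dec m hmM, key a ha, key b hb, zero_smul, zero_smul, add_zero, add_zero]
    exact add_mem (Submodule.smul_mem _ _ ha) (Submodule.smul_mem _ _ hb)
  -- the index at the radical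
  have hE := relIndex_EG h.h1 H
  rw [hd6, ← hq'] at hE
  set E0 := H.relIndex (EG Q h.h1)
  have hWcard : Nat.card W ≤ q ^ 3 := by
    choose m hmA hmy using fun y : W => hpart y.1 y.2
    refine (Nat.card_le_card_of_injective (fun y : W => ((⟨m y, hmA y⟩ : A), polar Q x y.1)) fun y z e => ?_).trans ?_
    · simp only [Prod.mk.injEq, Subtype.mk.injEq] at e
      have hd := hker (y.1 - z.1) (sub_mem y.2 z.2) (by
        rw [sub_eq_add_neg, polar_add_right, polar_neg_right, e.2, add_neg_cancel])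
      have e3 : y.1 - z.1 = (polar Q x' y.1 - polar Q x' z.1) • x := by
        rw [hmy y, hmy z, e.1, e.2, sub_smul]
        simp only [polar_add_right, polar_smul_right, h.h2.wv, pol_sing Q h.h2.qw, (mid4 (hAM (hmA z))).2.2.2.1,
          smul_eq_mul, mul_one, mul_zero, zero_add, add_zero]
        abel
      have e4 := (mid4 (hAM hd)).2.2.2.1
      rw [e3, polar_smul_right, h.h2.wv, smul_eq_mul, mul_one] at e4
      rw [e4, zero_smul, sub_eq_zero] at e3
      exact Subtype.ext e3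
    · rw [Nat.card_prod, plane_card (show finrank F A = 2 by
        rw [← hAsp]
        have hli : LinearIndependent F ![a, b] := (LinearIndependent.pair_iff' D.fr.h1.ne_left).2 fun r hr => by
          have := congrArg (polar Q b') hr
          rw [polar_smul_right, c4, D.fr.h2.wv, smul_zero] at this
          exact zero_ne_one this
        have := finrank_span_eq_card hli
        rwa [Matrix.range_cons, Matrix.range_cons, Matrix.range_empty, Set.union_empty, Set.singleton_union,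
          Fintype.card_fin] at this), Nat.card_eq_fintype_card, ← hq']
      exact le_of_eq (by ring)
  have hE3 : q ^ 3 ≤ E0 := by
    refine Nat.le_of_mul_le_mul_right ?_ (show 0 < q ^ 3 by positivity)
    rw [← pow_add, show 3 + 3 = 6 from rfl, ← hE]
    exact Nat.mul_le_mul_left _ hWcard
  set K := (H ⊓ Pst Q v) ⊔ EG Q h.h1
  have hKP : K ≤ Pst Q v := sup_le inf_le_right (EG_le hQ hn5 h.h1)
  have hsplit : E0 * K.relIndex (Pst Q v) ≤ H.relIndex (Pst Q v) := relIndex_split H _ _ (EG_le hQ hn5 h.h1)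
  have hcv := pst_index_le hQ H v
  obtain ⟨hsing, -⟩ := count8 hQ h D h4
  rw [← hq'] at hsing
  -- a preserved line or plane inside the middle is impossible
  have hplane : (∀ g ∈ H, g ∈ Pst Q v → ∀ y ∈ A, act Q v v' g y ∈ A) → False := by
    intro hinv
    have hKS := sup_le_stab hQ hn5 h.h1 (B := A) (fun y hy => (hAM hy).1) H hinv
    have hpb := plane_bound hQ hn h.h1 hd6 K hKP D.fr D.ma.1 D.mb.1 D.ma'.1 D.mb'.1 (by
      rw [hAsp]; exact fun g hg y hy => (hKS hg).2 y hy)
    rw [hsing, ← hq'] at hpb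
    have h1 : q ^ 2 - 1 = (q - 1) * (q + 1) := by
      obtain ⟨r, hr⟩ : ∃ r, q = r + 1 := ⟨q - 1, by omega⟩
      rw [hr, Nat.add_sub_cancel, show (r + 1) ^ 2 = r * (r + 1 + 1) + 1 by ring, Nat.add_sub_cancel]
    rw [h1] at hpb
    have h2 : (q ^ 2 + 1) * (q ^ 2 + q + 1) * q ^ 2 ≤ K.relIndex (Pst Q v) * (q + 1) := by
      refine Nat.le_of_mul_le_mul_left ?_ (show 0 < q - 1 by omega)
      exact le_trans (le_of_eq (by ring)) (hpb.trans (le_of_eq (by ring)))
    have h5 : 2 * q ^ 3 ≤ K.relIndex (Pst Q v) := by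
      refine Nat.le_of_mul_le_mul_right (le_trans ?_ h2) (show 0 < q + 1 by omega)
      have : 2 * q * (q + 1) ≤ (q ^ 2 + 1) * (q ^ 2 + q + 1) :=
        calc 2 * q * (q + 1) ≤ q * q * (q + 1) := Nat.mul_le_mul_right _ (Nat.mul_le_mul_right _ hq)
          _ ≤ (q ^ 2 + 1) * (q ^ 2 + q + 1) := Nat.mul_le_mul (by rw [pow_two]; omega) (by omega)
      calc 2 * q ^ 3 * (q + 1) = 2 * q * (q + 1) * q ^ 2 := by ring
        _ ≤ _ := Nat.mul_le_mul_right _ this
    have h6 := Nat.mul_le_mul hE3 h5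
    have e : q ^ 3 * (2 * q ^ 3) = 2 * q ^ 6 := by ring
    omega
  -- all parameters lie in the plane `A + x'`
  have hWP : ∀ y ∈ W, y ∈ P := by
    by_contra hc
    push Not at hc
    obtain ⟨y0, hy0, hy0P⟩ := hc
    obtain ⟨m0, hm0, e0⟩ := hpart y0 hy0
    have hr0 : polar Q x' y0 ≠ 0 := fun e => hy0P (by
      rw [e0, e, zero_smul, add_zero]
      exact add_mem (hAP hm0) (Submodule.smul_mem _ _ hxP))
    have hS : Submodule.span F {y | y ∈ W ∧ Q y = 0 ∧ ∀ z ∈ W, polar Q y z = 0} = A := by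
      refine le_antisymm (Submodule.span_le.2 ?_) fun z hz => Submodule.subset_span ⟨hAW z hz, hs z hz, fun y hy => ?_⟩
      · rintro z ⟨hz, hQz, hzW⟩
        obtain ⟨m, hm, e⟩ := hpart z hz
        obtain ⟨a1, a2, a3, a4, a5, a6, a7, a8⟩ := mid4 (hAM hm)
        refine hker z hz ?_
        by_contra hs0
        have hp : Q z = polar Q x' z * polar Q x z := by
          have := (h.h2.parts (show m ∈ perp Q x x' from (hAM hm).2) (polar Q x' z) (polar Q x z)).2.2
          rwa [← e, hs m hm, zero_add] at this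
        rw [hQz] at hp
        have hr : polar Q x' z = 0 := (mul_eq_zero.1 hp.symm).resolve_right hs0
        have hh := hzW y0 hy0
        rw [e, hr, zero_smul, add_zero, polar_add_left, polar_smul_left] at hh
        have hm' : polar Q m y0 = 0 := by
          rw [e0]; simp [polar_add_right, polar_smul_right, hiso m hm m0 hm0, a7, a8]
        rw [hm', zero_add, smul_eq_mul] at hh
        exact hr0 ((mul_eq_zero.1 hh).resolve_left hs0)
      · obtain ⟨m, hm, e⟩ := hpart y hy
        obtain ⟨a1, a2, a3, a4, a5, a6, a7, a8⟩ := mid4 (hAM hz)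
        rw [e]; simp [polar_add_right, polar_smul_right, hiso z hz m hm, a7, a8]
    refine hplane fun g hg hg' y hy => ?_
    have := radical_invariant hQ hn5 h.h1 H hg hg' y (by rw [hS]; exact hy)
    rwa [hS] at this
  -- the plane
  have hPeq : ∀ y ∈ P, ∃ r s t : F, y = r • a + s • b + t • x' := fun y hy => by
    obtain ⟨r, z, hz, rfl⟩ := Submodule.mem_span_insert.1 hy
    obtain ⟨s, t, rfl⟩ := Submodule.mem_span_pair.1 hz
    exact ⟨r, s, t, by rw [add_assoc]⟩
  obtain ⟨p1, p2, p3, p4, p5, p6, p7, p8⟩ := mid4 D.ma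
  obtain ⟨q1, q2, q3, q4, q5, q6, q7, q8⟩ := mid4 D.mb
  obtain ⟨r1, r2, r3, r4, r5, r6, r7, r8⟩ := mid4 D.ma'
  obtain ⟨s1, s2, s3, s4, s5, s6, s7, s8⟩ := mid4 D.mb'
  have hPcard : Nat.card P = q ^ 3 := by
    let f : F × F × F → P := fun p => ⟨p.1 • a + p.2.1 • b + p.2.2 • x',
      add_mem (add_mem (Submodule.smul_mem _ _ haP) (Submodule.smul_mem _ _ hbP)) (Submodule.smul_mem _ _ hxP)⟩
    have hf : Function.Bijective f := by
      refine ⟨fun p p' e => ?_, fun y => ?_⟩
      · have e' : p.1 • a + p.2.1 • b + p.2.2 • x' = p'.1 • a + p'.2.1 • b + p'.2.2 • x' := congrArg Subtype.val e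
        have k1 := congrArg (polar Q a') e'
        have k2 := congrArg (polar Q b') e'
        have k3 := congrArg (polar Q x) e'
        simp only [polar_add_right, polar_smul_right, D.fr.h1.wv, D.fr.h2.wv, c5, c4, p3, q3, r8, s8, h.h2.vw,
          smul_eq_mul, mul_one, mul_zero, add_zero, zero_add] at k1 k2 k3
        exact Prod.ext k1 (Prod.ext k2 k3)
      · obtain ⟨r, s, t, e⟩ := hPeq y.1 y.2
        exact ⟨(r, s, t), Subtype.ext e.symm⟩
    rw [← Nat.card_congr (Equiv.ofBijective f hf), Nat.card_prod, Nat.card_prod, Nat.card_eq_fintype_card, ← hq']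
    ring
  -- the point lies outside the middle
  obtain ⟨y1, hy1, hy1A⟩ : ∃ y ∈ W, y ∉ A := by
    by_contra hc
    push Not at hc
    exact hplane fun g hg hg' y hy => hc _ (wp_invariant hQ hn5 h.h1 hg hg' (hAW y hy))
  have hs1 : polar Q x y1 ≠ 0 := fun e => hy1A (hker y1 hy1 e)
  have hQP : ∀ y ∈ P, Q y = 0 := fun y hy => by
    obtain ⟨r, s, t, rfl⟩ := hPeq y hy
    rw [QuadraticMap.map_add Q (r • a + s • b), QuadraticMap.map_add Q (r • a), QuadraticMap.map_smul,
      QuadraticMap.map_smul, QuadraticMap.map_smul, D.fr.h1.qv, D.fr.h2.qv, h.h2.qw]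
    simp [polar_add_left, polar_smul_left, polar_smul_right, c1, p8, q8]
  have hPiso : ∀ y ∈ P, ∀ z ∈ P, polar Q y z = 0 := fun y hy z hz => by
    simp only [QuadraticMap.polar, hQP _ (add_mem hy hz), hQP y hy, hQP z hz, sub_zero]
  have hS : Submodule.span F {y | y ∈ W ∧ Q y = 0 ∧ ∀ z ∈ W, polar Q y z = 0} = P := by
    refine le_antisymm (Submodule.span_le.2 fun z hz => hWP z hz.1) ?_
    have hsub : ∀ z ∈ W, z ∈ Submodule.span F {y | y ∈ W ∧ Q y = 0 ∧ ∀ z ∈ W, polar Q y z = 0} := fun z hz =>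
      Submodule.subset_span ⟨hz, hQP z (hWP z hz), fun u hu => hPiso z (hWP z hz) u (hWP u hu)⟩
    rw [Submodule.span_le]
    rintro z (rfl | rfl | rfl)
    · exact hsub _ (hAW _ ha)
    · exact hsub _ (hAW _ hb)
    · obtain ⟨m, hm, e⟩ := hpart y1 hy1
      obtain ⟨r, s, t, e'⟩ := hPeq y1 (hWP y1 hy1)
      have hr : polar Q z y1 = 0 := hPiso z hxP y1 (hWP y1 hy1)
      rw [hr, zero_smul, add_zero] at e
      have := sub_mem (hsub y1 hy1) (hsub m (hAW m hm))
      rw [e, add_sub_cancel_left] at this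
      exact (Submodule.smul_mem_iff _ hs1).1 this
  have hinvP : ∀ g ∈ H, g ∈ Pst Q v → ∀ y ∈ P, act Q v v' g y ∈ P := fun g hg hg' y hy => by
    have := radical_invariant hQ hn5 h.h1 H hg hg' y (by rw [hS]; exact hy)
    rwa [hS] at this
  have hKS : K ≤ Stab h.h1 hPU := sup_le_stab hQ hn5 h.h1 hPU H hinvP
  have hSP : Stab h.h1 hPU ≤ Pst Q v := fun g hg => hg.1
  have hsolid := solid_bound hQ hn h.h1 hd6 (Stab h.h1 hPU) hSP D.fr h.h2.symm
    (show x' ∈ Mid Q a b a' b' from ⟨(mem_perp Q).2 ⟨p8, r8⟩, (mem_perp Q).2 ⟨q8, s8⟩⟩)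
    (show x ∈ Mid Q a b a' b' from ⟨(mem_perp Q).2 ⟨p7, r7⟩, (mem_perp Q).2 ⟨q7, s7⟩⟩)
    D.ma.1 D.mb.1 D.mb'.1 h.hx' h.hx (fun g hg => hg.2)
  rw [hsing, ← hq'] at hsolid
  set S3 := q ^ 3 + q ^ 2 + q + 1 with hS3
  have hS3le : S3 ≤ (Stab h.h1 hPU).relIndex (Pst Q v) := by
    obtain ⟨r, hr⟩ : ∃ r, q = r + 1 := ⟨q - 1, by omega⟩
    have h1 : q ^ 3 - 1 = r * (q ^ 2 + q + 1) := by
      rw [hr, show (r + 1) ^ 3 = r * ((r + 1) ^ 2 + (r + 1) + 1) + 1 by ring, Nat.add_sub_cancel]
    rw [h1, show q - 1 = r by omega] at hsolid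
    refine Nat.le_of_mul_le_mul_right ?_ (show 0 < r * (q ^ 2 + q + 1) from Nat.mul_pos (by omega) (by positivity))
    exact le_trans (le_of_eq (by rw [hS3]; ring)) hsolid
  have hmul := Subgroup.relIndex_mul_relIndex K (Stab h.h1 hPU) (Pst Q v) hKS hSP
  have hS3q : q ^ 3 ≤ S3 := by omega
  -- all the plane is in `H`
  have hWall : ∀ y, y ∈ W ↔ y ∈ P := by
    refine fun y => ⟨hWP y, fun hy => ?_⟩
    by_contra hne
    let S := W.comap P.subtype.toAddMonoidHom
    have hcS : Nat.card S = Nat.card W := by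
      refine Nat.card_congr (Equiv.ofBijective (fun s : S => (⟨s.1.1, s.2⟩ : W)) ⟨fun u z e =>
        Subtype.ext (Subtype.ext (congrArg Subtype.val e :)), ?_⟩)
      rintro ⟨p, hp⟩
      exact ⟨⟨⟨p, hWP p hp⟩, hp⟩, rfl⟩
    have hmulS := S.card_mul_index
    rw [hcS, hPcard] at hmulS
    have hi : 2 ≤ S.index := by
      have h0 : S.index ≠ 0 := AddSubgroup.index_ne_zero_of_finite
      by_contra hc
      have h1 := AddSubgroup.index_eq_one.1 (show S.index = 1 by omega)
      have : (⟨y, hy⟩ : P) ∈ S := by rw [h1]; trivial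
      exact hne this
    have hE6 : 2 * q ^ 3 ≤ E0 := by
      refine Nat.le_of_mul_le_mul_right ?_ (show 0 < q ^ 3 by positivity)
      calc 2 * q ^ 3 * q ^ 3 = 2 * q ^ 6 := by ring
        _ = E0 * (Nat.card W * 2) := by rw [← hE]; ring
        _ ≤ _ := Nat.mul_le_mul_left _ (hmulS ▸ Nat.mul_le_mul_left _ hi)
    have h1 : q ^ 3 ≤ K.relIndex (Pst Q v) := by
      rw [← hmul]
      exact le_trans (hS3q.trans hS3le) (Nat.le_mul_of_pos_left _ (relIndex_pos _ _))
    have h2 := Nat.mul_le_mul hE6 h1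
    have e : 2 * q ^ 3 * q ^ 3 = 2 * q ^ 6 := by ring
    omega
  have hKindex : S3 ≤ K.relIndex (Pst Q v) := by
    rw [← hmul]
    exact le_trans hS3le (Nat.le_mul_of_pos_left _ (relIndex_pos _ _))
  refine ⟨hWall, hPcard, (Nat.mul_le_mul hE3 hKindex).trans hsplit, fun g hg hgP => sup_decomp hQ hn5 h.h1 ?_⟩
  -- no doubling
  have hKeq : Stab h.h1 hPU ≤ K := by
    rw [← Subgroup.relIndex_eq_one]
    have h0 := relIndex_pos K (Stab h.h1 hPU)
    by_contra hc
    have h2 : 2 * S3 ≤ K.relIndex (Pst Q v) := by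
      rw [← hmul]
      exact Nat.mul_le_mul (by omega) hS3le
    have h3 := Nat.mul_le_mul hE3 h2
    have h4' := Nat.mul_le_mul_left (q ^ 3) hS3q
    have e1 : q ^ 3 * (2 * S3) = 2 * (q ^ 3 * S3) := by ring
    have e2 : q ^ 3 * q ^ 3 = q ^ 6 := by ring
    omega
  exact hKeq ⟨hg, hgP⟩

end CfsgLib.OmegaMin
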