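import Mathlib
import Cfsg.Agent.Lib.OmegaMin.SpecialPoint

/-! Over two or three field elements: a point whose radical is not contained in the subgroup. -/

set_option autoImplicit false
set_option maxHeartbeats 1000000

namespace CfsgLib.OmegaMin

open QuadraticMap CfsgLib.WittExtension Module CfsgLib.SpinorNorm CfsgLib.Eichler CfsgLib.OmegaSimple

universe uF uV

variable {F : Type uF} {V : Type uV} [Field F] [AddCommGroup V] [Module F V] {Q : QuadraticForm F V} {v w : V}

/-- The elements of a field with at most three elements. -/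
theorem small_elems [Fintype F] (hq : Fintype.card F ≤ 3) (a : F) : a = 0 ∨ a = 1 ∨ a = -1 := by
  classical
  by_contra hc
  push Not at hc
  obtain ⟨h0, h1, h2⟩ := hc
  by_cases h : (1 : F) = -1
  · have h20 : (2 : F) = 0 := by linear_combination h
    have hc2 : ringChar F = 2 := CharP.ringChar_of_prime_eq_zero Nat.prime_two (by exact_mod_cast h20)
    have heven := FiniteField.even_card_of_char_two hc2
    have : ({0, 1, a} : Finset F).card = 3 := Finset.card_eq_three.2 ⟨0, 1, a, zero_ne_one, h0.symm, h1.symm, rfl⟩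
    have h3 := Finset.card_le_univ ({0, 1, a} : Finset F)
    omega
  · have h4 : ({0, 1, -1, a} : Finset F).card = 4 := by
      rw [Finset.card_insert_of_notMem (by simp [h0.symm]),
        Finset.card_eq_three.2 ⟨1, -1, a, h, h1.symm, h2.symm, rfl⟩]
    have h5 := Finset.card_le_univ ({0, 1, -1, a} : Finset F)
    omega

theorem small_sq [Fintype F] (hq : Fintype.card F ≤ 3) {a : F} (ha : a ≠ 0) : a * a = 1 := by
  rcases small_elems hq a with rfl | rfl | rfl
  · exact absurd rfl ha
  · simp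
  · simp

theorem small_smul [Fintype F] (hq : Fintype.card F ≤ 3) {W : AddSubgroup V} (c : F) {y : V} (hy : y ∈ W) :
    c • y ∈ W := by
  rcases small_elems hq c with rfl | rfl | rfl
  · rw [zero_smul]; exact zero_mem _
  · rwa [one_smul]
  · rw [neg_one_smul]; exact neg_mem hy

section
variable [Fintype F] [FiniteDimensional F V]

/-- Translates of a subspace through one of its vectors bound the index. -/
theorem level_orbit (hQ : (polarBilin Q).Nondegenerate) (hn : 5 ≤ finrank F V) (h : Hyp Q v w)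
    (hd : 5 ≤ finrank F (perp Q v w)) (K : Subgroup (quadIso Q)) (hK : K ≤ Pst Q v) {B : Submodule F V}
    (hB : B ≤ perp Q v w) {a : V} (ha : a ∈ B) (ha0 : a ≠ 0) (T0 : Set V) (hT0 : T0 ⊆ (B : Set V))
    (hKa : ∀ g ∈ K, act Q v w g a ∈ T0) (hKB : ∀ g ∈ K, ∀ y ∈ B, act Q v w g y ∈ B) {κ : Type*}
    (gs : κ → quadIso Q) (hgs : ∀ i, gs i ∈ Pst Q v ∧ act Q v w (gs i) a = a)
    (hinj : ∀ i j, act Q v w (gs i) '' (B : Set V) = act Q v w (gs j) '' (B : Set V) → i = j) :
    {y : V | y ∈ perp Q v w ∧ y ≠ 0 ∧ Q y = Q a}.ncard * Nat.card κ ≤ K.relIndex (Pst Q v) * T0.ncard := by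
  classical
  haveI : Finite V := finite_space F V
  set U := perp Q v w
  set L := {y : V | y ∈ U ∧ y ≠ 0 ∧ Q y = Q a}
  have haU : a ∈ U := hB ha
  let act2 : quadIso Q → V × Set V → V × Set V := fun g p => (act Q v w g p.1, act Q v w g '' p.2)
  let T : Set (V × Set V) := T0 ×ˢ {(B : Set V)}
  have hmove : ∀ y : L, ∃ g ∈ Pst Q v, act Q v w g a = y.1 := fun y => by
    obtain ⟨g, hg, -, -, -, e⟩ := perp_move hQ hn h hd haU y.2.1 ha0 y.2.2.1 y.2.2.2.symm
    exact ⟨g, hg, e⟩
  choose gy hgy egy using hmove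
  have himg : ∀ g ∈ Pst Q v, ∀ k ∈ Pst Q v,
      act Q v w (g * k) '' (B : Set V) = act Q v w g '' (act Q v w k '' (B : Set V)) := fun g hg k hk => by
    rw [Set.image_image]
    exact Set.image_congr fun z hz => act_mul h hg.1 hk.1 (hB hz)
  let f : L × κ → V × Set V := fun p => act2 (gy p.1 * gs p.2) (a, (B : Set V))
  have hf1 : ∀ p, (f p).1 = p.1.1 := fun p => by
    show act Q v w (gy p.1 * gs p.2) a = _
    rw [act_mul h (hgy p.1).1 (hgs p.2).1.1 haU, (hgs p.2).2, egy]
  have hfinj : Function.Injective f := by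
    rintro ⟨y, i⟩ ⟨y', i'⟩ e
    have e1 := congrArg Prod.fst e
    rw [hf1, hf1] at e1
    obtain rfl : y = y' := Subtype.ext e1
    have e2 : act Q v w (gy y * gs i) '' (B : Set V) = act Q v w (gy y * gs i') '' (B : Set V) := congrArg Prod.snd e
    rw [himg _ (hgy y) _ (hgs i).1, himg _ (hgy y) _ (hgs i').1] at e2
    exact Prod.ext rfl (hinj i i' (((act_injOn h (hgy y).1).image_eq_image_iff
      (Set.image_subset_iff.2 fun z _ => act_mem h _ z) (Set.image_subset_iff.2 fun z _ => act_mem h _ z)).1 e2))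
  have hcard := card_le_relIndex_mul act2 (Pst Q v) K hK (a, (B : Set V))
    (fun g hg k hk => Prod.ext (act_mul h hg.1 hk.1 haU) (himg g hg k hk)) (Set.range f) T
    (fun g hg => ⟨hKa g hg, by
      show act Q v w g '' (B : Set V) = (B : Set V)
      refine Set.eq_of_subset_of_ncard_le (Set.image_subset_iff.2 fun y hy => hKB g hg y hy) ?_ (Set.toFinite _)
      rw [Set.ncard_image_of_injOn ((act_injOn h (hK hg).1).mono hB)]⟩)
    (by rintro _ ⟨p, rfl⟩; exact ⟨gy p.1 * gs p.2, mul_mem (hgy p.1) (hgs p.2).1, rfl⟩)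
  rw [← Nat.card_coe_set_eq, Nat.card_range_of_injective hfinj, Nat.card_prod, Nat.card_coe_set_eq,
    Set.ncard_prod, Set.ncard_singleton, mul_one] at hcard
  exact hcard

/-- The orthogonal of the parameters inside the radical. -/
theorem exists_ann (hQ : (polarBilin Q).Nondegenerate) (hn : 5 ≤ finrank F V) (hq : Fintype.card F ≤ 3)
    (h : Hyp Q v w) (H : Subgroup (quadIso Q)) (hne : ∃ z ∈ perp Q v w, eg Q v z ∉ H) :
    ∃ A : Submodule F V, A ≤ perp Q v w ∧ 1 ≤ finrank F A ∧
      H.relIndex (EG Q h) = Fintype.card F ^ finrank F A ∧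
      (∀ g ∈ (H ⊓ Pst Q v) ⊔ EG Q h, ∀ y ∈ A, act Q v w g y ∈ A) := by
  haveI : Finite V := finite_space F V
  set U := perp Q v w
  set B := polarBilin (Q.comp U.subtype)
  have hB : B.Nondegenerate := perp_nondeg Q hQ h.qv h.qw h.vw
  let W' : Submodule F U :=
    { carrier := {y | y.1 ∈ Wp Q h H}
      add_mem' := fun {a b} ha hb => (Wp Q h H).add_mem ha hb
      zero_mem' := zero_mem (Wp Q h H)
      smul_mem' := fun c y hy => show c • y.1 ∈ Wp Q h H from small_smul (W := Wp Q h H) hq c hy }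
  set A' := LinearMap.BilinForm.orthogonal B W'
  have hrank : finrank F A' = finrank F U - finrank F W' := LinearMap.BilinForm.finrank_orthogonal hB W'
  have hWlt : finrank F W' < finrank F U := by
    refine Submodule.finrank_lt fun htop => ?_
    obtain ⟨z, hz, hzH⟩ := hne
    exact hzH (show (⟨z, hz⟩ : U) ∈ W' by rw [htop]; trivial).2
  refine ⟨A'.map U.subtype, Submodule.map_subtype_le _ _, ?_, ?_, ?_⟩
  · rw [Submodule.finrank_map_subtype_eq]; omega
  · have hE := relIndex_EG h H
    have hc : Nat.card (Wp Q h H) = Fintype.card F ^ finrank F W' := by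
      rw [← Nat.card_eq_fintype_card (α := F), ← Module.natCard_eq_pow_finrank (K := F) (V := W')]
      exact Nat.card_congr
        { toFun := fun y => ⟨⟨y.1, y.2.1⟩, y.2⟩
          invFun := fun y => ⟨y.1.1, y.2⟩
          left_inv := fun y => rfl
          right_inv := fun y => rfl }
    rw [hc] at hE
    rw [Submodule.finrank_map_subtype_eq, hrank]
    refine Nat.eq_of_mul_eq_mul_right (show 0 < Fintype.card F ^ finrank F W' from pow_pos Fintype.card_pos _)
      (hE.trans ?_)
    rw [← pow_add]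
    congr 1
    have : finrank F (perp Q v w) = finrank F U := rfl
    omega
  · have hinv : ∀ g ∈ H, g ∈ Pst Q v → ∀ y ∈ A'.map U.subtype, act Q v w g y ∈ A'.map U.subtype := by
      rintro g hg hg' _ ⟨y, hy, rfl⟩
      refine ⟨⟨_, act_mem h g y.1⟩, ?_, rfl⟩
      rw [SetLike.mem_coe, LinearMap.BilinForm.mem_orthogonal_iff]
      intro n hn'
      show polar (Q.comp U.subtype) n ⟨_, act_mem h g y.1⟩ = 0
      rw [sub_polar]
      have hmaps : Set.MapsTo (act Q v w g) (Wp Q h H : Set V) (Wp Q h H) := fun z hz =>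
        wp_invariant hQ hn h hg hg' hz
      obtain ⟨z, hz, e⟩ := (((Set.toFinite (Wp Q h H : Set V)).injOn_iff_bijOn_of_mapsTo hmaps).1
        ((act_injOn h hg'.1).mono fun z hz => hz.1)).surjOn (show n.1 ∈ (Wp Q h H : Set V) from hn')
      rw [← e, act_pol h hg'.1 hz.1 y.2]
      have h0 : polar (Q.comp U.subtype) (⟨z, hz.1⟩ : U) y = 0 := (LinearMap.BilinForm.mem_orthogonal_iff.1 hy) ⟨z, hz.1⟩ hz
      rw [sub_polar] at h0
      rw [h0, mul_zero]
    intro g hg y hy
    exact (sup_le_stab hQ hn h (B := A'.map U.subtype) (Submodule.map_subtype_le _ _) H hinv hg).2 y hy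

/-- The index in the point stabiliser from a non-contained radical. -/
theorem second_bound (hQ : (polarBilin Q).Nondegenerate) (hn : 7 ≤ finrank F V) (hq : Fintype.card F ≤ 3)
    (h : Hyp Q v w) (H : Subgroup (quadIso Q)) (hne : ∃ z ∈ perp Q v w, eg Q v z ∉ H) :
    Fintype.card F ^ finrank F (perp Q v w) ≤ H.relIndex (Pst Q v) ∨
      ∃ c : F, Fintype.card F * {y : V | y ∈ perp Q v w ∧ y ≠ 0 ∧ Q y = c}.ncard ≤
        (Fintype.card F - 1) * H.relIndex (Pst Q v) := by
  classical
  haveI : Finite V := finite_space F V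
  have hn5 : 5 ≤ finrank F V := by omega
  have hd2 := h.finrank_perp
  obtain ⟨A, hAU, hA1, hE, hKA⟩ := exists_ann hQ hn5 hq h H hne
  set q := Fintype.card F with hq'
  have hq2 : 2 ≤ q := Fintype.one_lt_card
  set U := perp Q v w with hUdef
  set d := finrank F U with hd'
  have hd : 5 ≤ d := by
    have : finrank F (perp Q v w) = d := rfl
    omega
  set i := finrank F A with hi'
  set K := (H ⊓ Pst Q v) ⊔ EG Q h with hK'
  have hKP : K ≤ Pst Q v := sup_le inf_le_right (EG_le hQ hn5 h)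
  have hsplit : H.relIndex (EG Q h) * K.relIndex (Pst Q v) ≤ H.relIndex (Pst Q v) :=
    relIndex_split H _ _ (EG_le hQ hn5 h)
  rw [hE] at hsplit
  have hQact : ∀ g ∈ K, ∀ y ∈ U, Q (act Q v w g y) = Q y := fun g hg y hy => by
    rw [act_quad h (hKP hg).1 hy, small_sq hq (line_scalar h (hKP hg).1).2, one_mul]
  have hne0 : ∀ g ∈ K, ∀ y ∈ U, y ≠ 0 → act Q v w g y ≠ 0 := fun g hg y hy hy0 e =>
    hy0 (act_injOn h (hKP hg).1 hy (zero_mem U) (by rw [e]; simp [act, proj]))
  -- one class is small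
  by_cases hsmall : ∃ a ∈ A, a ≠ 0 ∧ {y : V | y ∈ A ∧ y ≠ 0 ∧ Q y = Q a}.ncard ≤ (q - 1) * q ^ (i - 1)
  · obtain ⟨a, ha, ha0, hT⟩ := hsmall
    refine Or.inr ⟨Q a, ?_⟩
    set T := {y : V | y ∈ A ∧ y ≠ 0 ∧ Q y = Q a} with hT'
    have hb := point_bound hQ hn5 h hd H T (fun g hg hg' y hy => by
      have hgK : g ∈ K := Subgroup.mem_sup_left ⟨hg, hg'⟩
      exact ⟨hKA g hgK y hy.1, hne0 g hgK y (hAU hy.1) hy.2.1, by rw [hQact g hgK y (hAU hy.1)]; exact hy.2.2⟩)
      (fun y hy => hAU hy.1) (a := a) ⟨ha, ha0, rfl⟩ ha0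
    rw [hE] at hb
    refine Nat.le_of_mul_le_mul_left ?_ (pow_pos (show 0 < q by omega) (i - 1))
    have e : q ^ i = q ^ (i - 1) * q := by rw [← pow_succ]; congr 1; omega
    rw [← mul_assoc, ← e]
    calc q ^ i * {y : V | y ∈ perp Q v w ∧ y ≠ 0 ∧ Q y = Q a}.ncard ≤ H.relIndex (Pst Q v) * T.ncard := hb
      _ ≤ H.relIndex (Pst Q v) * ((q - 1) * q ^ (i - 1)) := Nat.mul_le_mul_left _ hT
      _ = _ := by ring
  push Not at hsmall
  have hAcard : Nat.card A = q ^ i := by rw [Module.natCard_eq_pow_finrank (K := F), Nat.card_eq_fintype_card]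
  have hA0 : ((A : Set V) \ {0}).ncard + 1 = q ^ i := by
    rw [Set.ncard_sdiff_singleton_add_one (show (0 : V) ∈ (A : Set V) from zero_mem _) (Set.toFinite _),
      ← Nat.card_coe_set_eq]
    exact hAcard
  have hpow : q ^ i = q ^ (i - 1) * q := by rw [← pow_succ]; congr 1; omega
  -- one class only
  have hone : ∀ a ∈ A, a ≠ 0 → ∀ b ∈ A, b ≠ 0 → Q a = Q b := by
    intro a ha ha0 b hb hb0
    by_contra hab
    have h1 := hsmall a ha ha0
    have h2 := hsmall b hb hb0
    have h3 : {y : V | y ∈ A ∧ y ≠ 0 ∧ Q y = Q a}.ncard + {y : V | y ∈ A ∧ y ≠ 0 ∧ Q y = Q b}.ncard ≤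
        ((A : Set V) \ {0}).ncard := by
      rw [← Set.ncard_union_eq (Set.disjoint_left.2 fun y hy hy' => hab (hy.2.2.symm.trans hy'.2.2)) (Set.toFinite _)
        (Set.toFinite _)]
      exact Set.ncard_le_ncard (fun y hy => hy.elim (fun h => ⟨h.1, h.2.1⟩) (fun h => ⟨h.1, h.2.1⟩)) (Set.toFinite _)
    have h4 : q ^ (i - 1) * q ≤ q ^ (i - 1) * (2 * (q - 1)) := Nat.mul_le_mul_left _ (by omega)
    have e : q ^ (i - 1) * (2 * (q - 1)) = 2 * ((q - 1) * q ^ (i - 1)) := by ring
    omega
  obtain ⟨a, ha, ha0⟩ : ∃ a ∈ A, a ≠ 0 := (Submodule.ne_bot_iff _).1 fun e => by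
    rw [e, finrank_bot] at hi'; omega
  have hi2 : 2 ≤ i := by
    by_contra hc
    have h1 := hsmall a ha ha0
    have h2 : {y : V | y ∈ A ∧ y ≠ 0 ∧ Q y = Q a}.ncard ≤ ((A : Set V) \ {0}).ncard :=
      Set.ncard_le_ncard (fun y hy => ⟨hy.1, hy.2.1⟩) (Set.toFinite _)
    rw [show i - 1 = 0 by omega, pow_zero, mul_one] at h1
    rw [show i = 1 by omega, pow_one] at hA0
    omega
  -- a second vector
  obtain ⟨b, hb, hba⟩ : ∃ b ∈ A, b ∉ Submodule.span F {a} := by
    by_contra hc
    push Not at hc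
    have := Submodule.finrank_mono (show A ≤ Submodule.span F {a} from hc)
    rw [finrank_span_singleton ha0] at this
    omega
  have hb0 : b ≠ 0 := fun e => hba (e ▸ zero_mem _)
  have hsum0 : a + b ≠ 0 := fun e => hba (by
    rw [show b = -a from eq_neg_of_add_eq_zero_right e]
    exact neg_mem (Submodule.mem_span_singleton_self a))
  by_cases hc0 : Q a = 0
  · -- totally singular
    left
    have hs : ∀ y ∈ A, Q y = 0 := fun y hy => by
      by_cases hy0 : y = 0
      · rw [hy0, QuadraticMap.map_zero]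
      · rw [hone y hy hy0 a ha ha0, hc0]
    have hiso : ∀ y ∈ A, ∀ z ∈ A, polar Q y z = 0 := fun y hy z hz => by
      simp only [QuadraticMap.polar, hs _ (add_mem hy hz), hs y hy, hs z hz, sub_zero]
    -- the totally singular subspace is small
    have hU := perp_nondeg Q hQ h.qv h.qw h.vw
    obtain ⟨a', hQa', haa'⟩ := exists_partner (Q.comp U.subtype) hU (e := ⟨a, hAU ha⟩)
      (fun e => ha0 (congrArg Subtype.val e)) (hs a ha)
    have hP : Hyp (Q.comp U.subtype) ⟨a, hAU ha⟩ a' := ⟨hs a ha, hQa', haa'⟩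
    rw [sub_polar] at haa'
    set b1 := b - polar Q a'.1 b • a with hb1
    have hb1A : b1 ∈ A := sub_mem hb (Submodule.smul_mem _ _ ha)
    have hb10 : b1 ≠ 0 := fun e => hba (Submodule.mem_span_singleton.2 ⟨polar Q a'.1 b, (sub_eq_zero.1 e).symm⟩)
    have hb1a' : polar Q a'.1 b1 = 0 := by
      rw [hb1, sub_eq_add_neg, ← neg_smul, polar_add_right, polar_smul_right, pol_symm Q a'.1 a, haa']
      simp
    set P1 : Submodule F U := perp (Q.comp U.subtype) ⟨a, hAU ha⟩ a'
    have hb1P : (⟨b1, hAU hb1A⟩ : U) ∈ P1 :=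
      (mem_perp _).2 ⟨by rw [sub_polar]; exact hiso a ha b1 hb1A, by rw [sub_polar]; exact hb1a'⟩
    obtain ⟨b', hQb', hbb'⟩ := exists_partner ((Q.comp U.subtype).comp P1.subtype)
      (perp_nondeg _ hU hP.qv hP.qw hP.vw) (e := ⟨⟨b1, hAU hb1A⟩, hb1P⟩)
      (fun e => hb10 (congrArg (fun z => z.1.1) e :)) (hs b1 hb1A)
    have hP2 : Hyp ((Q.comp U.subtype).comp P1.subtype) ⟨⟨b1, hAU hb1A⟩, hb1P⟩ b' := ⟨hs b1 hb1A, hQb', hbb'⟩
    rw [sub_polar, sub_polar] at hbb'
    obtain ⟨p1, p2⟩ := (mem_perp _).1 b'.2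
    rw [sub_polar] at p1 p2
    set M3 := perp ((Q.comp U.subtype).comp P1.subtype) ⟨⟨b1, hAU hb1A⟩, hb1P⟩ b' with hM3
    have hd1 : finrank F P1 + 2 = d := hP.finrank_perp
    have hd3 : finrank F M3 + 2 = finrank F P1 := hP2.finrank_perp
    set M2 : Submodule F V := U ⊓ Mid Q a b1 a'.1 b'.1.1 with hM2
    have hz : ∀ z : M2, polar Q a z.1 = 0 ∧ polar Q a'.1 z.1 = 0 ∧ polar Q b1 z.1 = 0 ∧
        polar Q b'.1.1 z.1 = 0 := fun z => ⟨z.2.2.1.1, z.2.2.1.2, z.2.2.2.1, z.2.2.2.2⟩
    let e23 : M3 ≃ₗ[F] M2 :=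
      { toFun := fun z => ⟨z.1.1.1, z.1.1.2, by
          obtain ⟨e1, e2⟩ := (mem_perp _).1 z.1.2
          obtain ⟨e3, e4⟩ := (mem_perp _).1 z.2
          rw [sub_polar] at e1 e2
          rw [sub_polar, sub_polar] at e3 e4
          exact ⟨(mem_perp Q).2 ⟨e1, e2⟩, (mem_perp Q).2 ⟨e3, e4⟩⟩⟩
        map_add' := fun _ _ => rfl
        map_smul' := fun _ _ => rfl
        invFun := fun z => ⟨⟨⟨z.1, z.2.1⟩, (mem_perp _).2 ⟨by rw [sub_polar]; exact (hz z).1,
            by rw [sub_polar]; exact (hz z).2.1⟩⟩, (mem_perp _).2 ⟨by rw [sub_polar, sub_polar]; exact (hz z).2.2.1,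
            by rw [sub_polar, sub_polar]; exact (hz z).2.2.2⟩⟩
        left_inv := fun _ => rfl
        right_inv := fun _ => rfl }
    have hdM : finrank F M2 + 4 = d := by
      have : finrank F M3 = finrank F M2 := e23.finrank_eq
      omega
    -- the part of `A` in the middle
    let N : Submodule F M2 := A.comap M2.subtype
    have hNA : ∀ y ∈ A, ∃ z : M2, z ∈ N ∧ y = z.1 + polar Q a'.1 y • a + polar Q b'.1.1 y • b1 := by
      intro y hy
      set r := polar Q a'.1 y
      set s := polar Q b'.1.1 y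
      set z := y - r • a - s • b1 with hzdef
      have hzA : z ∈ A := sub_mem (sub_mem hy (Submodule.smul_mem _ _ ha)) (Submodule.smul_mem _ _ hb1A)
      have z1 : polar Q a z = 0 := hiso a ha z hzA
      have z2 : polar Q a'.1 z = 0 := by
        rw [hzdef]
        simp [sub_eq_add_neg, polar_add_right, polar_neg_right, polar_smul_right, pol_symm Q a'.1 a, haa', hb1a', r]
      have z3 : polar Q b1 z = 0 := hiso b1 hb1A z hzA
      have z4 : polar Q b'.1.1 z = 0 := by
        rw [hzdef]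
        simp [sub_eq_add_neg, polar_add_right, polar_neg_right, polar_smul_right, pol_symm Q b'.1.1 a, p1,
          pol_symm Q b'.1.1 b1, hbb', s]
      refine ⟨⟨z, hAU hzA, (mem_perp Q).2 ⟨z1, z2⟩, (mem_perp Q).2 ⟨z3, z4⟩⟩, hzA, ?_⟩
      show y = z + r • a + s • b1
      rw [hzdef]; abel
    have hNdim : finrank F N + 2 = i := by
      let φ : (F × F) × N →ₗ[F] A :=
        LinearMap.coprod (LinearMap.coprod (LinearMap.toSpanSingleton F A ⟨a, ha⟩) (LinearMap.toSpanSingleton F A ⟨b1, hb1A⟩))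
          ((M2.subtype ∘ₗ N.subtype).codRestrict A fun z => z.2)
      have hφ : ∀ p, (φ p).1 = p.1.1 • a + p.1.2 • b1 + p.2.1.1 := fun p => rfl
      have hbij : Function.Bijective φ := by
        refine ⟨(injective_iff_map_eq_zero φ).2 fun p hp => ?_, fun y => ?_⟩
        · obtain ⟨e1, e2, e3, e4⟩ := hz p.2.1
          have hp' : p.1.1 • a + p.1.2 • b1 + p.2.1.1 = 0 := (hφ p).symm.trans (congrArg Subtype.val hp)
          have k1 := congrArg (polar Q a'.1) hp'
          have k2 := congrArg (polar Q b'.1.1) hp'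
          simp only [polar_add_right, polar_smul_right, pol_symm Q a'.1 a, haa', hb1a', e2, pol_symm Q b'.1.1 a, p1,
            pol_symm Q b'.1.1 b1, hbb', e4, polar_zero_right, smul_eq_mul, mul_one, mul_zero, add_zero, zero_add] at k1 k2
          rw [k1, k2, zero_smul, zero_smul, zero_add, zero_add] at hp'
          exact Prod.ext (Prod.ext k1 k2) (Subtype.ext (Subtype.ext hp'))
        · obtain ⟨z, hzN, e⟩ := hNA y.1 y.2
          refine ⟨((polar Q a'.1 y.1, polar Q b'.1.1 y.1), ⟨z, hzN⟩), Subtype.ext ?_⟩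
          rw [hφ]
          conv_rhs => rw [e]
          abel
      have := (LinearEquiv.ofBijective φ hbij).finrank_eq
      rw [Module.finrank_prod, Module.finrank_prod, Module.finrank_self] at this
      omega
    -- twice the dimension is at most `d`
    have h2i : 2 * i ≤ d := by
      have hle : A.comap U.subtype ≤ LinearMap.BilinForm.orthogonal (polarBilin (Q.comp U.subtype)) (A.comap U.subtype) := by
        intro y hy
        rw [LinearMap.BilinForm.mem_orthogonal_iff]
        intro z hz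
        show polar (Q.comp U.subtype) z y = 0
        rw [sub_polar]
        exact hiso _ hz _ hy
      have h1 := Submodule.finrank_mono hle
      rw [LinearMap.BilinForm.finrank_orthogonal hU] at h1
      have eA : finrank F (A.comap U.subtype) = i := (Submodule.comapSubtypeEquivOfLe hAU).finrank_eq
      rw [eA] at h1
      have h1' : i ≤ d - i := h1
      omega
    -- translates
    obtain ⟨C, hC⟩ := N.exists_isCompl
    have hCdim := Submodule.finrank_add_eq_of_isCompl hC
    have hg : ∀ z : M2, polar Q b'.1.1 z.1 = 0 ∧ eg Q b'.1.1 z.1 ∈ Pst Q v ∧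
        (eg Q b'.1.1 z.1).1 v = v ∧ (eg Q b'.1.1 z.1).1 w = w := fun z =>
      ⟨(hz z).2.2.2, eg_fix_pair hQ hn5 (show Q b'.1.1 = 0 from hQb') (hz z).2.2.2 b'.1.2 z.2.1⟩
    have hga : ∀ z : M2, (eg Q b'.1.1 z.1).1 a = a := fun z =>
      eg_fix (show Q b'.1.1 = 0 from hQb') (hz z).2.2.2 (by rw [pol_symm]; exact p1) (by rw [pol_symm]; exact (hz z).1)
    have hlo := level_orbit hQ hn5 h hd K hKP hAU ha ha0 ((A : Set V) \ {0}) Set.sdiff_subset
      (fun g hg => ⟨hKA g hg a ha, hne0 g hg a (hAU ha) ha0⟩) hKA (κ := C) (fun z => eg Q b'.1.1 z.1.1)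
      (fun z => ⟨(hg z.1).2.1, by rw [(act_fix h (hg z.1).2.2.1 (hg z.1).2.2.2 (hAU ha)).1, hga]⟩) (fun z z' e => by
        have hm : act Q v w (eg Q b'.1.1 z.1.1) b1 ∈ act Q v w (eg Q b'.1.1 z'.1.1) '' (A : Set V) :=
          e ▸ ⟨b1, hb1A, rfl⟩
        obtain ⟨y, hy, hye⟩ := hm
        rw [(act_fix h (hg z'.1).2.2.1 (hg z'.1).2.2.2 (hAU hy)).1,
          (act_fix h (hg z.1).2.2.1 (hg z.1).2.2.2 (hAU hb1A)).1] at hye
        obtain ⟨n, hnN, ey⟩ := hNA y hy
        obtain ⟨y1, y2, y3, y4⟩ := hz n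
        obtain ⟨z1, z2, z3, z4⟩ := hz z.1
        obtain ⟨w1, w2, w3, w4⟩ := hz z'.1
        have hbq : Q b'.1.1 = 0 := hQb'
        rw [eg_app hbq w4, eg_app hbq z4, pol_symm Q b'.1.1 b1, hbb', one_smul,
          pol_symm Q z.1.1 b1, z3] at hye
        have k1 := congrArg (polar Q b'.1.1) hye
        simp only [polar_add_right, polar_smul_right, pol_symm Q b'.1.1 b1, hbb', pol_sing Q hbq, w4, z4, smul_eq_mul,
          mul_zero, add_zero] at k1
        rw [k1, one_smul, ey, k1, one_smul] at hye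
        have k2 := congrArg (fun u => u - polar Q a'.1 u • a - polar Q b'.1.1 u • b1 - polar Q b1 u • b'.1.1) hye
        simp only [polar_add_right, polar_smul_right, pol_symm Q a'.1 a, haa', hb1a', p2, y2, w2, z2,
          pol_symm Q b'.1.1 a, p1, pol_symm Q b'.1.1 b1, hbb', pol_sing Q hbq, y4, w4, z4, y3, w3, z3,
          hiso b1 hb1A a ha, hiso b1 hb1A b1 hb1A, smul_eq_mul, mul_zero, mul_one, add_zero, zero_add] at k2
        have k3 : n.1 + z'.1.1 = z.1.1 := by
          refine Eq.trans ?_ (k2.trans ?_) <;> module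
        have k4 : (z.1 : M2) - z'.1 = n := by
          refine Subtype.ext ?_
          show z.1.1 - z'.1.1 = n.1
          rw [← k3]; abel
        have k5 : (z.1 : M2) - z'.1 ∈ N ⊓ C := ⟨k4 ▸ hnN, sub_mem z.2 z'.2⟩
        rw [hC.inf_eq_bot, Submodule.mem_bot, sub_eq_zero] at k5
        exact Subtype.ext k5)
    rw [Module.natCard_eq_pow_finrank (K := F) (V := C), Nat.card_eq_fintype_card, ← hq',
      show finrank F C = d - 2 - i by omega] at hlo
    -- many singular vectors
    have hL : {y : V | y ∈ U ∧ y ≠ 0 ∧ Q y = Q a}.ncard + 1 = cnt (Q.comp U.subtype) (0 : F) := by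
      rw [← sing_card]
      congr 1
      rw [← Set.ncard_image_of_injective (Sing (Q.comp U.subtype)) Subtype.val_injective]
      congr 1
      ext y
      exact ⟨fun hy => ⟨⟨y, hy.1⟩, ⟨fun e => hy.2.1 (congrArg Subtype.val e), show Q y = 0 from hy.2.2.trans hc0⟩, rfl⟩,
        fun ⟨z, ⟨z0, zQ⟩, ez⟩ => ez ▸ ⟨z.2, fun e => z0 (Subtype.ext e), (show Q z.1 = 0 from zQ).trans hc0.symm⟩⟩
    have hcN : q ^ (i - 2) ≤ Nat.card {z : M3 // Q z.1.1.1 = 0} := by
      rw [show q ^ (i - 2) = Nat.card N by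
        rw [Module.natCard_eq_pow_finrank (K := F), Nat.card_eq_fintype_card, ← hq']; congr 1; omega]
      exact Nat.card_le_card_of_injective (fun z : N => ⟨e23.symm z.1, show Q (e23.symm z.1).1.1.1 = 0 from hs _ z.2⟩) fun z z' e =>
        Subtype.ext (e23.symm.injective (congrArg Subtype.val e :))
    have hc1 : q * q ^ (i - 2) + (q - 1) * q ^ (d - 4) ≤ cnt ((Q.comp U.subtype).comp P1.subtype) (0 : F) := by
      rw [hP2.cnt_split 0, ← hq', show finrank F M3 = d - 4 by omega]
      exact Nat.add_le_add_right (Nat.mul_le_mul_left _ hcN) _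
    have hc2 := hP.cnt_split 0
    rw [← hq', show finrank F P1 = d - 2 by omega, ← hL] at hc2
    -- arithmetic
    set L := {y : V | y ∈ U ∧ y ≠ 0 ∧ Q y = Q a}.ncard
    have hT : ((A : Set V) \ {0}).ncard = q ^ i - 1 := by omega
    rw [hT] at hlo
    have hc2' : L + 1 = q * cnt ((Q.comp U.subtype).comp P1.subtype) (0 : F) + (q - 1) * q ^ (d - 2) := hc2
    have hLbig : q ^ (i + 2) ≤ L + 1 := by
      rw [hc2']
      obtain ⟨r, hr⟩ : ∃ r, q = r + 1 := ⟨q - 1, by omega⟩
      have e1 : q * (q * q ^ (i - 2)) = q ^ i := by rw [← pow_succ', ← pow_succ']; congr 1; omega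
      have e2 : q * ((q - 1) * q ^ (d - 4)) + (q - 1) * q ^ (d - 2) = (q - 1) * (q + 1) * q ^ (d - 3) := by
        rw [show q ^ (d - 2) = q * q ^ (d - 3) by rw [← pow_succ']; congr 1; omega,
          show q * ((q - 1) * q ^ (d - 4)) = (q - 1) * (q * q ^ (d - 4)) by ring,
          show q * q ^ (d - 4) = q ^ (d - 3) by rw [← pow_succ']; congr 1; omega]
        ring
      have e3 : (q - 1) * (q + 1) * q ^ i + q ^ i = q ^ (i + 2) := by
        rw [hr, Nat.add_sub_cancel]; ring
      have h5 : (q - 1) * (q + 1) * q ^ i ≤ (q - 1) * (q + 1) * q ^ (d - 3) :=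
        Nat.mul_le_mul_left _ (Nat.pow_le_pow_right (by omega) (by omega))
      have h6 := Nat.mul_le_mul_left q hc1
      rw [mul_add] at h6
      omega
    have hL2 : q ^ 2 * (q ^ i - 1) ≤ L := by
      have : q ^ 2 * q ^ i = q ^ (i + 2) := by ring
      rw [Nat.mul_sub, mul_one, this]
      have : 1 ≤ q ^ 2 := Nat.one_le_pow _ _ (by omega)
      omega
    refine Nat.le_of_mul_le_mul_right ?_ (show 0 < q ^ i - 1 by
      have := Nat.one_lt_pow (show i ≠ 0 by omega) (show 1 < q by omega); omega)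
    calc q ^ d * (q ^ i - 1) = q ^ i * (q ^ (d - 2 - i) * (q ^ 2 * (q ^ i - 1))) := by
          rw [← mul_assoc, ← mul_assoc, ← pow_add, ← pow_add]; congr 2; omega
      _ ≤ q ^ i * (q ^ (d - 2 - i) * L) := Nat.mul_le_mul_left _ (Nat.mul_le_mul_left _ hL2)
      _ = q ^ i * (L * q ^ (d - 2 - i)) := by ring
      _ ≤ q ^ i * (K.relIndex (Pst Q v) * (q ^ i - 1)) := Nat.mul_le_mul_left _ hlo
      _ = q ^ i * K.relIndex (Pst Q v) * (q ^ i - 1) := by ring
      _ ≤ _ := Nat.mul_le_mul_right _ hsplit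
  · -- anisotropic
    right
    refine ⟨Q a, ?_⟩
    have hQb : Q b = Q a := hone b hb hb0 a ha ha0
    have hQab : Q (a + b) = Q a := hone _ (add_mem ha hb) hsum0 a ha ha0
    have hpab : polar Q a b = -Q a := by
      simp only [QuadraticMap.polar, hQab, hQb]; ring
    have h2 : (2 : F) = 0 := by
      by_contra h2
      have hd0 : a - b ≠ 0 := fun e => hba (by rw [← sub_eq_zero.1 e]; exact Submodule.mem_span_singleton_self a)
      have hQd : Q (a - b) = Q a := hone _ (sub_mem ha hb) hd0 a ha ha0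
      rw [sub_eq_add_neg, QuadraticMap.map_add Q a, QuadraticMap.map_neg, polar_neg_right, hpab, hQb] at hQd
      have : 2 * Q a = 0 := by linear_combination hQd
      exact hc0 ((mul_eq_zero.1 this).resolve_left h2)
    have hA2 : ∀ y ∈ A, y ∈ Submodule.span F ({a, b} : Set V) := by
      intro y hy
      by_contra hyn
      have hy0 : y ≠ 0 := fun e => hyn (e ▸ zero_mem _)
      have hya : a + y ≠ 0 := fun e => hyn (by
        rw [show y = -a from eq_neg_of_add_eq_zero_right e]
        exact neg_mem (Submodule.subset_span (Set.mem_insert _ _)))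
      have hyb : b + y ≠ 0 := fun e => hyn (by
        rw [show y = -b from eq_neg_of_add_eq_zero_right e]
        exact neg_mem (Submodule.subset_span (Set.mem_insert_of_mem _ rfl)))
      have hyab : a + b + y ≠ 0 := fun e => hyn (by
        rw [show y = -(a + b) from eq_neg_of_add_eq_zero_right e]
        exact neg_mem (add_mem (Submodule.subset_span (Set.mem_insert _ _))
          (Submodule.subset_span (Set.mem_insert_of_mem _ rfl))))
      have e1 := hone _ (add_mem ha hy) hya a ha ha0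
      have e2 := hone _ (add_mem hb hy) hyb a ha ha0
      have e3 := hone _ (add_mem (add_mem ha hb) hy) hyab a ha ha0
      rw [QuadraticMap.map_add Q a, hone y hy hy0 a ha ha0] at e1
      rw [QuadraticMap.map_add Q b, hone y hy hy0 a ha ha0, hQb] at e2
      rw [QuadraticMap.map_add Q (a + b), hQab, hone y hy hy0 a ha ha0, polar_add_left] at e3
      exact hc0 (by linear_combination e1 + e2 - e3)
    have hi : i = 2 := by
      have h1 := Submodule.finrank_mono (show A ≤ Submodule.span F ({a, b} : Set V) from hA2)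
      have h' := finrank_span_le_card (R := F) ({a, b} : Set V)
      have h'' : ({a, b} : Set V).toFinset.card ≤ 2 := by simp; exact Finset.card_le_two
      omega
    have hqe : q = 2 := by
      have hc2 : ringChar F = 2 := CharP.ringChar_of_prime_eq_zero Nat.prime_two (by exact_mod_cast h2)
      have := FiniteField.even_card_of_char_two hc2
      omega
    -- a singular vector orthogonal to the plane
    have hU := perp_nondeg Q hQ h.qv h.qw h.vw
    set A' := A.comap U.subtype
    set Bo := LinearMap.BilinForm.orthogonal (polarBilin (Q.comp U.subtype)) A' with hBo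
    have hBdim : finrank F Bo = d - 2 := by
      have eA : finrank F A' = i := (Submodule.comapSubtypeEquivOfLe hAU).finrank_eq
      rw [hBo, LinearMap.BilinForm.finrank_orthogonal hU, eA, hi]
    obtain ⟨u, hu0, hQu⟩ := FiniteForms.exists_singular ((Q.comp U.subtype).comp Bo.subtype)
      (show 3 ≤ finrank F Bo by omega)
    have hQu' : Q u.1.1 = 0 := hQu
    have hperp : ∀ y ∈ A, polar Q u.1.1 y = 0 := fun y hy => by
      have := (LinearMap.BilinForm.mem_orthogonal_iff.1 u.2) (⟨y, hAU hy⟩ : U) hy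
      rw [pol_symm, ← sub_polar (U := U) ⟨y, hAU hy⟩ u.1]
      exact this
    obtain ⟨gm, gv, gw⟩ := eg_fix_pair hQ hn5 hQu' (hperp a ha) u.1.2 (hAU ha)
    have haa : polar Q a a = 0 := by rw [ReflectionGen.pol_self, h2, zero_mul]
    have hga : (eg Q u.1.1 a).1 a = a := eg_fix hQu' (hperp a ha) (hperp a ha) haa
    have hgb : (eg Q u.1.1 a).1 b ∉ A := by
      intro hm
      rw [eg_app hQu' (hperp a ha), hperp b hb, zero_smul, zero_add, hpab, mul_zero, sub_zero, neg_neg] at hm
      have hu1 := sub_mem hm hb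
      rw [add_sub_cancel_left] at hu1
      have := hone u.1.1 ((Submodule.smul_mem_iff _ hc0).1 hu1)
        (fun e => hu0 (Subtype.ext (Subtype.ext e))) a ha ha0
      exact hc0 (this ▸ hQu')
    have hlo := level_orbit hQ hn5 h hd K hKP hAU ha ha0 ((A : Set V) \ {0}) Set.sdiff_subset
      (fun g hg => ⟨hKA g hg a ha, hne0 g hg a (hAU ha) ha0⟩) hKA (κ := Bool)
      (fun t => if t then eg Q u.1.1 a else 1)
      (fun t => by
        cases t
        · exact ⟨one_mem _, by simp [(act_fix h (one_app Q v) (one_app Q w) (hAU ha)).1, one_app]⟩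
        · exact ⟨gm, by simp [(act_fix h gv gw (hAU ha)).1, hga]⟩)
      (fun s t e => by
        have key : act Q v w (eg Q u.1.1 a) '' (A : Set V) ≠ act Q v w 1 '' (A : Set V) := fun e => hgb (by
          have hm : act Q v w (eg Q u.1.1 a) b ∈ act Q v w 1 '' (A : Set V) := e ▸ ⟨b, hb, rfl⟩
          obtain ⟨y, hy, hye⟩ := hm
          rw [(act_fix h gv gw (hAU hb)).1, (act_fix h (one_app Q v) (one_app Q w) (hAU hy)).1, one_app] at hye
          rw [← hye]; exact hy)
        cases s <;> cases t <;> simp at e ⊢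
        · exact key e.symm
        · exact key e)
    rw [Nat.card_eq_fintype_card, Fintype.card_bool] at hlo
    rw [hi, hqe] at hA0 hsplit
    rw [hqe]
    have h3 : ((A : Set V) \ {0}).ncard = 3 := by omega
    rw [h3] at hlo
    have hlo' : {y : V | y ∈ U ∧ y ≠ 0 ∧ Q y = Q a}.ncard * 2 ≤ K.relIndex (Pst Q v) * 3 := hlo
    omega

end

end CfsgLib.OmegaMin
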