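import Mathlib
import Cfsg.Agent.Lib.OmegaMin.SmallSub

/-! Over two or three field elements no proper subgroup makes all radicals trivial with a small index. -/

set_option autoImplicit false
set_option maxHeartbeats 1000000

namespace CfsgLib.OmegaMin

open QuadraticMap CfsgLib.WittExtension Module CfsgLib.SpinorNorm CfsgLib.Eichler CfsgLib.OmegaSimple

universe uF uV

variable {F : Type uF} {V : Type uV} [Field F] [AddCommGroup V] [Module F V]

section core

variable [Fintype F] [FiniteDimensional F V] {R : QuadraticForm F V}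

/-- No self-adjoint map without eigenvectors is normalised up to translations by the Eichler elements. -/
theorem no_twisted_map (hR : (polarBilin R).Nondegenerate) (hn : 3 ≤ finrank F V) (hq : Fintype.card F ≤ 3)
    (C : V →ₗ[F] V) (hsa : ∀ a b, polar R a (C b) = polar R b (C a))
    (heig : ∀ (p : V) (c : F), C p = c • p → p = 0)
    (hcomm : ∀ u z, R u = 0 → polar R u z = 0 →
      ∃ s : F, ∀ b, (eg R u z).1 (C b) = C ((eg R u z).1 b) - s • (eg R u z).1 b) : False := by
  classical
  -- the shape of the map at a hyperbolic pair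
  have shape : ∀ u u', Hyp R u u' → ∃ w ∈ perp R u u', C u = polar R u' (C u) • u + w ∧ w ≠ 0 ∧
      ∀ z ∈ perp R u u', C z = (polar R u' (C u) + polar R z w) • z + R z • w + polar R z w • u' +
          (-polar R u' (C z) - polar R z w * R z) • u ∧
        2 * polar R u' (C z) + polar R z w * R z = 0 := by
    intro u u' hh
    have hu0 := hh.ne_left
    have hd := hh.finrank_perp
    have hU := perp_nondeg R hR hh.qv hh.qw hh.vw
    -- the first column
    have huu : polar R u (C u) = 0 := by
      obtain ⟨y, z, hyz⟩ := exists_polar_one _ hU (show 0 < finrank F (perp R u u') by omega)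
      rw [sub_polar] at hyz
      have hy : polar R u y.1 = 0 := ((mem_perp R).1 y.2).1
      obtain ⟨s, hs⟩ := hcomm u y.1 hh.qv hy
      have e := hs u
      rw [eg_self hh.qv hy, eg_app hh.qv hy] at e
      have e2 := congrArg (polar R z.1) e
      simp only [sub_eq_add_neg, polar_add_right, polar_neg_right, polar_smul_right, pol_symm R z.1 y.1, hyz,
        pol_symm R z.1 u, ((mem_perp R).1 z.2).1, smul_eq_mul, mul_one, mul_zero, add_zero, neg_zero] at e2
      linear_combination e2
    set α := polar R u' (C u) with hα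
    set w := C u - α • u with hw
    have hwm : w ∈ perp R u u' := by
      refine (mem_perp R).2 ⟨?_, ?_⟩
      · simp [hw, sub_eq_add_neg, polar_add_right, polar_neg_right, polar_smul_right, huu, pol_sing R hh.qv, hh.qv]
      · simp [hw, sub_eq_add_neg, polar_add_right, polar_neg_right, polar_smul_right, hh.wv, ← hα]
    have hCu : C u = α • u + w := by rw [hw]; abel
    refine ⟨w, hwm, hCu, fun e => hu0 (heig u α (by rw [hCu, e, add_zero])), fun z hz => ?_⟩
    obtain ⟨z1, z2⟩ := (mem_perp R).1 hz
    obtain ⟨w1, w2⟩ := (mem_perp R).1 hwm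
    obtain ⟨s, hs⟩ := hcomm u z hh.qv z1
    have hzu : polar R z (C u) = polar R z w := by
      rw [hCu, polar_add_right, polar_smul_right, pol_symm R z u, z1, smul_zero, zero_add]
    have hsv : s = polar R z w := by
      have e := hs u
      rw [eg_self hh.qv z1, eg_app hh.qv z1, huu, hzu, zero_smul, zero_add, mul_zero, sub_zero] at e
      have e2 := congrArg (polar R u') e
      simp only [sub_eq_add_neg, polar_add_right, polar_neg_right, polar_smul_right, hh.wv, smul_eq_mul, mul_one] at e2
      linear_combination e2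
    set k := polar R u' (C z) with hk
    have hCz : C z = (α + polar R z w) • z + R z • w + polar R z w • u' + (-k - polar R z w * R z) • u := by
      have e := hs u'
      have hgu : (eg R u z).1 u' = u' + (z + (-(R z)) • u) := by
        rw [eg_app hh.qv z1, hh.vw, one_smul, pol_symm R z u', z2, mul_one, neg_zero, zero_sub]
      rw [hgu, eg_app hh.qv z1, hsa u u', ← hα, hsa z u', ← hk, map_add, map_add, map_smul, hCu, hsv] at e
      have e' := sub_eq_zero.2 e
      refine sub_eq_zero.1 (Eq.trans ?_ ((congrArg Neg.neg e').trans neg_zero))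
      module
    refine ⟨hCz, ?_⟩
    have e := congrArg (polar R u') hCz
    simp only [polar_add_right, polar_smul_right, ← hk, z2, w2, pol_sing R hh.qw, hh.wv, smul_eq_mul, mul_zero,
      mul_one, zero_add, add_zero] at e
    linear_combination e
  obtain ⟨u, u', hh⟩ := exists_hyp hR hn
  obtain ⟨w, hwm, hCu, hw0, hshape⟩ := shape u u' hh
  have hU := perp_nondeg R hR hh.qv hh.qw hh.vw
  obtain ⟨z, hz, hzw⟩ : ∃ z ∈ perp R u u', polar R z w = 1 := by
    obtain ⟨y, hy⟩ : ∃ y : perp R u u', polar R w y.1 ≠ 0 := by
      by_contra hc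
      push Not at hc
      exact hw0 (congrArg Subtype.val (hU.1 (⟨w, hwm⟩ : perp R u u') fun y => by
        show polar _ _ y = 0
        rw [sub_polar]; exact hc y))
    exact ⟨(polar R w y.1)⁻¹ • y.1, Submodule.smul_mem _ _ y.2, by
      rw [polar_smul_left, pol_symm R y.1 w, smul_eq_mul, inv_mul_cancel₀ hy]⟩
  by_cases h2 : (2 : F) = 0
  · -- two elements
    have elems : ∀ a : F, a ≠ 0 → a = 1 := fun a ha => by
      rcases small_elems hq a with e | e | e
      · exact absurd e ha
      · exact e
      · rw [e]; linear_combination -h2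
    have norm : ∀ y, y ≠ 0 → R y = 0 → R (C y) ≠ 0 := by
      intro y hy0 hy
      obtain ⟨y', hy', hyy⟩ := exists_partner R hR hy0 hy
      have hY : Hyp R y y' := ⟨hy, hy', hyy⟩
      obtain ⟨w1, hw1, hCy, hw10, hsh⟩ := shape y y' hY
      obtain ⟨t, ht⟩ : ∃ t : perp R y y', polar R t.1 w1 ≠ 0 := by
        by_contra hc
        push Not at hc
        exact hw10 (congrArg Subtype.val ((perp_nondeg R hR hY.qv hY.qw hY.vw).1 (⟨w1, hw1⟩ : perp R y y') fun t => by
          show polar _ _ t = 0
          rw [sub_polar, pol_symm]; exact hc t))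
      have ht1 := elems _ ht
      have a1 := (hsh t.1 t.2).2
      have a2 := (hsh (t.1 + w1) (add_mem t.2 hw1)).2
      have hww : polar R w1 w1 = 0 := by rw [ReflectionGen.pol_self, h2, zero_mul]
      rw [h2, zero_mul, zero_add, ht1, one_mul] at a1
      rw [h2, zero_mul, zero_add, polar_add_left, ht1, hww, add_zero, one_mul, QuadraticMap.map_add R t.1, a1, ht1,
        zero_add] at a2
      rw [hCy, QuadraticMap.map_add R (polar R y' (C y) • y), QuadraticMap.map_smul, hy, polar_smul_left,
        ((mem_perp R).1 hw1).1, smul_zero, smul_zero, zero_add, add_zero]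
      intro e
      rw [e, zero_add] at a2
      exact one_ne_zero a2
    have hz0 : ∀ y ∈ perp R u u', polar R y w = 1 → R y = 0 := fun y hy hyw => by
      have := (hshape y hy).2
      rwa [h2, zero_mul, zero_add, hyw, one_mul] at this
    have hww : polar R w w = 0 := by rw [ReflectionGen.pol_self, h2, zero_mul]
    have key : ∀ y ∈ perp R u u', polar R y w = 1 → C y = (polar R u' (C u) + 1) • y + u' + u := by
      intro y hy hyw
      have hR0 := hz0 y hy hyw
      have hy0 : y ≠ 0 := fun e => by rw [e, polar_zero_left] at hyw; exact zero_ne_one hyw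
      have e := (hshape y hy).1
      rw [hyw, hR0, zero_smul, add_zero, one_smul, mul_zero, sub_zero] at e
      have hne := norm y hy0 hR0
      rw [e] at hne
      have hf : -polar R u' (C y) = 1 := elems _ fun h0 => hne (by
        rw [h0, zero_smul, add_zero, QuadraticMap.map_add R ((polar R u' (C u) + 1) • y), QuadraticMap.map_smul, hR0,
          hh.qw, polar_smul_left, pol_symm R y u', ((mem_perp R).1 hy).2]
        simp)
      rw [e, hf, one_smul]
    have k1 := key z hz hzw
    have k2 := key (z + w) (add_mem hz hwm) (by rw [polar_add_left, hzw, hww, add_zero])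
    refine hw0 (heig w (polar R u' (C u) + 1) ?_)
    rw [map_add, k1] at k2
    have := sub_eq_zero.2 k2
    refine sub_eq_zero.1 (Eq.trans ?_ this)
    module
  · -- three elements
    obtain ⟨z1, z2⟩ := (mem_perp R).1 hz
    have ident : ∀ y ∈ perp R u u', polar R y w = 1 → w + R w • y = 0 := by
      intro y hy hyw
      have e1 := (hshape y hy).1
      have e2 := (hshape w hwm).1
      have e3 := (hshape (y + w) (add_mem hy hwm)).1
      generalize hk3 : polar R u' (C (y + w)) = k3 at e3
      generalize hk1 : polar R u' (C y) = k1 at e1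
      generalize hk2 : polar R u' (C w) = k2 at e2
      rw [polar_add_left, hyw, QuadraticMap.map_add R y, hyw, ReflectionGen.pol_self] at e3
      rw [hyw] at e1
      rw [ReflectionGen.pol_self] at e2
      rw [map_add, e1, e2] at e3
      set K := (-k3 - (1 + 2 * R w) * (R y + R w + 1)) - (-k1 - 1 * R y) - (-k2 - 2 * R w * R w) with hK
      have e4 : (2 : F) • (w + R w • y) + K • u = 0 := by
        refine Eq.trans ?_ (sub_eq_zero.2 e3.symm)
        rw [hK]
        module
      have hK0 : K = 0 := by
        have := congrArg (polar R u') e4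
        simpa [polar_add_right, polar_smul_right, hh.wv, ((mem_perp R).1 hwm).2, ((mem_perp R).1 hy).2] using this
      rw [hK0, zero_smul, add_zero] at e4
      exact (smul_eq_zero.1 e4).resolve_left h2
    have hRw : R w ≠ 0 := fun e => hw0 (by
      have := ident z hz hzw
      rwa [e, zero_smul, add_zero] at this)
    have honly : ∀ y ∈ perp R u u', polar R y w = 0 → y = 0 := fun y hy hyw => by
      have e1 := ident z hz hzw
      have e2 := ident (z + y) (add_mem hz hy) (by rw [polar_add_left, hzw, hyw, add_zero])
      rw [smul_add, ← add_assoc, e1, zero_add] at e2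
      exact (smul_eq_zero.1 e2).resolve_left hRw
    obtain ⟨w', hw', hCu', -, -⟩ := shape u' u hh.symm
    have hw'U : w' ∈ perp R u u' := (mem_perp R).2 ⟨((mem_perp R).1 hw').2, ((mem_perp R).1 hw').1⟩
    have hwW : polar R w w ≠ 0 := by rw [ReflectionGen.pol_self]; exact mul_ne_zero h2 hRw
    set c := polar R w' w * (polar R w w)⁻¹
    have hd := honly (w' - c • w) (sub_mem hw'U (Submodule.smul_mem _ _ hwm)) (by
      rw [sub_eq_add_neg, polar_add_left, polar_neg_left, polar_smul_left, smul_eq_mul, mul_assoc,
        inv_mul_cancel₀ hwW, mul_one, add_neg_cancel])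
    generalize hα : polar R u' (C u) = α at hCu
    rw [← hsa u' u, hα] at hCu'
    have hp := heig (u' - c • u) α (by
      rw [map_sub, map_smul, hCu, hCu', sub_eq_zero.1 hd]
      module)
    have := congrArg (polar R u) hp
    simp [sub_eq_add_neg, polar_add_right, polar_neg_right, polar_smul_right, hh.vw, hh.qv,
      pol_sing R hh.qv] at this

end core

variable {Q : QuadraticForm F V} {v x v' x' : V} [Fintype F] [FiniteDimensional F V]

/-- Trivial radicals everywhere contradict a small index. -/
theorem flat_absurd (hQ : (polarBilin Q).Nondegenerate) (hn : 7 ≤ finrank F V) (hq : Fintype.card F ≤ 3)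
    (h : Fr Q v x v' x') (H : Subgroup (quadIso Q))
    (hflat : ∀ u z, u ≠ 0 → Q u = 0 → polar Q u z = 0 → eg Q u z ∈ H → ∃ c : F, z = c • u)
    (hle : H.relIndex (Om Q) ≤ Fintype.card F ^ (finrank F V - 2)) : False := by
  classical
  haveI : Finite V := finite_space F V
  set q := Fintype.card F with hq'
  have hq2 : 2 ≤ q := Fintype.one_lt_card
  set M := Mid Q v x v' x' with hMdef
  set e := finrank F M with he
  have hdim : e + 4 = finrank F V := h.finrank_mid
  rw [show finrank F V - 2 = e + 2 by omega] at hle
  have hU := ul_le hQ hn h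
  obtain ⟨p1, p2, p3, p4, p5, p6, p7, p8⟩ := h.pol
  have hfree : Free Q v x H := fun t ht hm => by
    obtain ⟨c, hc⟩ := hflat v (t • x) h.h1.ne_left h.h1.qv (by rw [polar_smul_right, p1, smul_zero]) hm
    have := congrArg (polar Q x') hc
    rw [polar_smul_right, h.h2.wv, polar_smul_right, p4, smul_zero, smul_eq_mul, mul_one] at this
    exact ht this
  have hN := relIndex_UL h hfree
  rw [← he, ← hq'] at hN
  set N0 := H.relIndex (UL h)
  have hN0n : N0 ≤ q ^ (e + 2) := (relIndex_mono H hU).trans hle
  set W := Wl h H
  -- the left side is trivial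
  have hleft : ∀ α, (α, (0 : V)) ∈ W → α = 0 := by
    rintro α ⟨hα, -, t, ht⟩
    obtain ⟨a1, a2, a3, a4, -⟩ := mid4 (show α ∈ M from hα)
    rw [uel, eg_zero h.h2.qv, mul_one] at ht
    obtain ⟨c, hc⟩ := hflat v _ h.h1.ne_left h.h1.qv (by rw [polar_add_right, a1, polar_smul_right, p1, smul_zero, add_zero]) ht
    have e1 := congrArg (polar Q x') hc
    have e2 := congrArg (polar Q v') hc
    simp only [polar_add_right, polar_smul_right, a4, h.h2.wv, p4, a2, p5, h.h1.wv, smul_eq_mul, mul_one, mul_zero,
      zero_add] at e1 e2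
    rw [e1, zero_smul, add_zero, ← e2, zero_smul] at hc
    exact hc
  have huniq : ∀ α α' β, (α, β) ∈ W → (α', β) ∈ W → α = α' := fun α α' β h1 h2 => sub_eq_zero.1 (hleft _ (by
    have := sub_mem h1 h2
    rwa [Prod.mk_sub_mk, sub_self] at this))
  -- the right projection
  let π : W →+ M := AddMonoidHom.mk' (fun p => ⟨p.1.2, p.2.2.1⟩) fun a b => rfl
  have hπ : Function.Injective π := fun a b e => by
    have e2 : a.1.2 = b.1.2 := congrArg Subtype.val e
    refine Subtype.ext (Prod.ext (huniq _ _ b.1.2 ?_ b.2) e2)
    have := a.2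
    rwa [show a.1 = (a.1.1, b.1.2) from Prod.ext rfl e2] at this
  have hMcard : Nat.card M = q ^ e := by rw [Module.natCard_eq_pow_finrank (K := F), Nat.card_eq_fintype_card]
  have hWr : Nat.card π.range = Nat.card W := Nat.card_congr (Equiv.ofBijective π.rangeRestrict
    ⟨fun a b e => hπ (congrArg Subtype.val e :), π.rangeRestrict_surjective⟩).symm
  have hWlow : q ^ (e - 1) ≤ Nat.card W := by
    refine Nat.le_of_mul_le_mul_left ?_ (pow_pos (show 0 < q by omega) (e + 2))
    rw [← pow_add, show e + 2 + (e - 1) = 2 * e + 1 by omega, ← hN]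
    exact Nat.mul_le_mul_right _ hN0n
  have hsurj : Function.Surjective π := by
    by_contra hns
    have hidx : 2 ≤ π.range.index := by
      have h0 : π.range.index ≠ 0 := AddSubgroup.index_ne_zero_of_finite
      by_contra hc
      exact hns (AddMonoidHom.range_eq_top.1 (AddSubgroup.index_eq_one.1 (show π.range.index = 1 by omega)))
    have hm := π.range.card_mul_index
    rw [hWr, hMcard] at hm
    have hprime : q.Prime := by
      rcases (show q = 2 ∨ q = 3 by omega) with h | h <;> rw [h]
      exacts [Nat.prime_two, Nat.prime_three]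
    obtain ⟨k, hk, hk'⟩ := (Nat.dvd_prime_pow hprime).1 (Dvd.intro _ hm)
    have hklt : k < e := by
      by_contra hc
      have : k = e := by omega
      rw [hk', this] at hm
      have := Nat.eq_of_mul_eq_mul_left (pow_pos (show 0 < q by omega) e) (hm.trans (mul_one _).symm)
      omega
    have hWeq : Nat.card W = q ^ (e - 1) := le_antisymm
      (hk' ▸ Nat.pow_le_pow_right (by omega) (by omega)) hWlow
    have hN0eq : q ^ (e + 2) ≤ N0 := by
      refine Nat.le_of_mul_le_mul_right ?_ (pow_pos (show 0 < q by omega) (e - 1))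
      rw [← pow_add, show e + 2 + (e - 1) = 2 * e + 1 by omega, ← hN, hWeq]
    -- nothing moves the image
    have hfix : shiftL (1 : F) '' (W : Set (V × V)) = (W : Set (V × V)) := by
      by_contra hne
      have := line_bound h hQ H hU (ι := Bool) (fun i => if i then eg Q v ((1 : F) • x') else 1)
        (fun i => if i then shiftL (1 : F) else LinearMap.id)
        (fun i => by cases i <;> simp [one_mem, eg_mem Q hQ (by omega) h.h1.qv p2])
        (fun i => by
          cases i
          · simpa using Acts.one h
          · simpa using acts_left h (1 : F))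
        (fun i j hij => by
          cases i <;> cases j <;> simp at hij ⊢
          · exact hne hij.symm
          · exact hne hij)
      rw [Nat.card_eq_fintype_card, Fintype.card_bool] at this
      have hpos : 0 < q ^ (e + 2) := pow_pos (by omega) _
      change N0 * 2 ≤ _ at this
      omega
    have hone : Nat.card W = 1 := by
      refine Nat.card_eq_one_iff_unique.2 ⟨⟨fun a b => ?_⟩, ⟨0⟩⟩
      have z : ∀ p : W, p.1.2 = 0 := fun p => by
        have hs : shiftL (1 : F) p.1 ∈ W := by
          have : shiftL (1 : F) p.1 ∈ (W : Set (V × V)) := hfix ▸ ⟨p.1, p.2, rfl⟩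
          exact this
        have := sub_mem p.2 hs
        rw [shiftL_apply, one_smul, show p.1 - (p.1.1 - p.1.2, p.1.2) = (p.1.2, (0 : V)) by ext <;> simp] at this
        exact hleft _ this
      exact hπ (Subtype.ext (show a.1.2 = b.1.2 by rw [z a, z b]))
    rw [hone] at hWeq
    have := Nat.one_lt_pow (show e - 1 ≠ 0 by omega) (show 1 < q by omega)
    omega
  have hWcard : Nat.card W = q ^ e := by rw [← hWr, AddMonoidHom.range_eq_top.2 hsurj, AddSubgroup.card_top, hMcard]
  have hN0 : q ^ (e + 1) = N0 := by
    refine Nat.eq_of_mul_eq_mul_right (pow_pos (show 0 < q by omega) e) ?_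
    rw [← pow_add, ← hWcard, show e + 1 + e = 2 * e + 1 by omega, hN]
  -- the map
  choose f hf using fun β : M => hsurj β
  let Cf : M → M := fun β => ⟨(f β).1.1, (f β).2.1⟩
  have hCmem : ∀ β : M, ((Cf β).1, β.1) ∈ W := fun β => by
    have e2 : (f β).1.2 = β.1 := congrArg Subtype.val (hf β)
    have := (f β).2
    rwa [show (f β).1 = ((Cf β).1, β.1) from Prod.ext rfl e2] at this
  have hCuniq : ∀ (β : M) α, (α, β.1) ∈ W → α = (Cf β).1 := fun β α hα => huniq _ _ _ hα (hCmem β)
  have hCadd : ∀ a b, Cf (a + b) = Cf a + Cf b := fun a b =>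
    Subtype.ext (hCuniq (a + b) _ (show ((Cf a).1 + (Cf b).1, a.1 + b.1) ∈ W from add_mem (hCmem a) (hCmem b))).symm
  let C : M →ₗ[F] M :=
    { toFun := Cf
      map_add' := hCadd
      map_smul' := fun c b => by
        refine Subtype.ext (hCuniq (c • b) _ ?_).symm
        show (c • (Cf b).1, c • b.1) ∈ W
        rw [← Prod.smul_mk]
        exact small_smul hq c (hCmem b) }
  have hnd := h.mid_nondeg hQ
  refine no_twisted_map hnd (show 3 ≤ finrank F M by omega) hq C (fun a b => ?_) (fun p c hp => ?_) (fun u z hu huz => ?_)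
  · rw [sub_polar, sub_polar]
    exact h.isotropic hfree (hCmem b) (hCmem a) |>.symm
  · -- no eigenvectors
    have hpm := p.2
    obtain ⟨q1, q2, q3, q4, q5, q6, q7, q8⟩ := mid4 (show p.1 ∈ M from hpm)
    have hm : (c • p.1, p.1) ∈ W := by
      have := hCmem p
      rwa [show (Cf p).1 = c • p.1 from congrArg Subtype.val hp] at this
    obtain ⟨-, -, t, ht⟩ := hm
    set r := t + c * Q p.1 with hr
    have hu : Q (c • v + x) = 0 := by
      rw [QuadraticMap.map_add Q (c • v), QuadraticMap.map_smul, h.h1.qv, h.h2.qv, polar_smul_left, p1]; simp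
    have qv : Q (c • v) = 0 := by rw [QuadraticMap.map_smul, h.h1.qv, smul_zero]
    have qcx : polar Q (c • v) x = 0 := by rw [polar_smul_left, p1, smul_zero]
    have e1 : eg Q (c • v + x) p.1 = uel Q v x (c • p.1) p.1 (-(c * Q p.1)) := by
      rw [eg_add_left qv h.h2.qv qcx (by rw [polar_smul_left, q1, smul_zero]) q3, ← mul_assoc, uel,
        eg_smul_left h.h1.qv (by rw [polar_smul_right, p1, smul_zero]), eg_smul_left h.h1.qv q1, smul_smul,
        ← eg_add h.h1.qv (by rw [polar_smul_right, p1, smul_zero]) (by rw [polar_smul_right, q1, smul_zero]),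
        add_comm, mul_neg]
    have e2 : eg Q (c • v + x) (-r • v) = uel Q v x 0 0 r := by
      have hq0 : Q (-r • v) = 0 := by rw [QuadraticMap.map_smul, h.h1.qv, smul_zero]
      rw [eg_add_left qv h.h2.qv qcx (by rw [polar_smul_left, polar_smul_right, pol_sing Q h.h1.qv, smul_zero, smul_zero])
        (by rw [polar_smul_right, p3, smul_zero]), hq0, neg_zero, zero_smul, eg_zero qv, one_mul,
        eg_smul_left h.h1.qv (by rw [polar_smul_right, pol_sing Q h.h1.qv, smul_zero]), smul_smul, eg_line h.h1.qv,
        one_mul, root_swap h, neg_neg, uel_r h]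
    have h3 : eg Q (c • v + x) (-r • v + p.1) ∈ H := by
      rw [eg_add hu (by rw [polar_add_left, polar_smul_left, polar_smul_right, polar_smul_right, pol_sing Q h.h1.qv, p3]; simp)
        (by rw [polar_add_left, polar_smul_left, q1, q3]; simp), e1, e2,
        uel_mul h (zero_mem _) (zero_mem _) (Submodule.smul_mem _ _ hpm) hpm, polar_zero_left, zero_add, zero_add,
        show r + -(c * Q p.1) - 0 = t by rw [hr]; ring]
      exact ht
    obtain ⟨k, hk⟩ := hflat _ _ (fun e => by
      have := congrArg (polar Q x') e
      rw [polar_add_right, polar_smul_right, p4, h.h2.wv, polar_zero_right, smul_zero, zero_add] at this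
      exact one_ne_zero this) hu
      (by rw [polar_add_left, polar_smul_left, polar_add_right, polar_add_right, polar_smul_right, polar_smul_right,
        pol_sing Q h.h1.qv, q1, p3, q3]; simp) h3
    have k1 := congrArg (polar Q x') hk
    simp only [polar_add_right, polar_smul_right, p4, q4, h.h2.wv, smul_eq_mul, mul_zero, mul_one, zero_add] at k1
    rw [← k1, zero_smul] at hk
    have k2 := congrArg (polar Q v') hk
    simp only [polar_add_right, polar_smul_right, h.h1.wv, q2, polar_zero_right, smul_eq_mul, mul_one, add_zero] at k2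
    rw [k2, zero_smul, zero_add] at hk
    exact Subtype.ext hk
  · -- twisted commutation
    have hu' : Q u.1 = 0 := hu
    rw [sub_polar] at huz
    obtain ⟨f1, f2, f3, f4⟩ := eg_frame h hu' huz u.2 z.2
    set g := eg Q u.1 z.1 with hg
    have hres : ∀ b : M, ((eg (Q.comp M.subtype) u z).1 b).1 = g.1 b.1 := fun b => by
      rw [hg, eg_app hu' huz, eg_app hu (by rw [sub_polar]; exact huz), sub_polar, sub_polar]
      rfl
    let Ls : Option F → (V × V →ₗ[F] V × V) := fun o =>
      o.elim (LinearMap.prodMap (g.1 : V →ₗ[F] V) (g.1 : V →ₗ[F] V)) shiftL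
    obtain ⟨b0, hb0⟩ : ∃ b : M, b ≠ 0 := by
      obtain ⟨a, a', ha⟩ := exists_hyp hnd (show 3 ≤ finrank F M by omega)
      exact ⟨a, ha.ne_left⟩
    have hshift : ∀ s t : F, shiftL s '' (W : Set (V × V)) = shiftL t '' (W : Set (V × V)) → s = t := by
      intro s t est
      have hm : shiftL s ((Cf b0).1, b0.1) ∈ shiftL t '' (W : Set (V × V)) := est ▸ ⟨_, hCmem b0, rfl⟩
      obtain ⟨p, hp, ep⟩ := hm
      rw [shiftL_apply, shiftL_apply, Prod.mk.injEq] at ep
      have hp1 : p.1 = (Cf b0).1 := hCuniq b0 p.1 (by
        have e : p = (p.1, b0.1) := Prod.ext rfl ep.2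
        exact e ▸ hp)
      rw [ep.2, hp1, sub_right_inj] at ep
      by_contra hne
      refine hb0 (Subtype.ext ((smul_eq_zero.1 (show (t - s) • b0.1 = 0 by rw [sub_smul, ep.1, sub_self])).resolve_left
        (sub_ne_zero.2 (Ne.symm hne))))
    obtain ⟨s, hs⟩ : ∃ s : F, LinearMap.prodMap (g.1 : V →ₗ[F] V) (g.1 : V →ₗ[F] V) '' (W : Set (V × V)) =
        shiftL s '' (W : Set (V × V)) := by
      by_contra hc
      push Not at hc
      have := line_bound h hQ H hU (ι := Option F) (fun o => o.elim g fun s => eg Q v (s • x')) Ls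
        (fun o => by
          rcases o with - | s
          · exact eg_mem Q hQ (by omega) hu' huz
          · exact eg_mem Q hQ (by omega) h.h1.qv (eg_sx'_ok h s))
        (fun o => by
          rcases o with - | s
          · exact acts_fix h f1 f2 f3 f4
          · exact acts_left h s)
        (fun i j hij => by
          rcases i with - | si <;> rcases j with - | sj
          · rfl
          · exact absurd hij (hc sj)
          · exact absurd hij.symm (hc si)
          · exact congrArg some (hshift si sj hij))
      rw [Nat.card_eq_fintype_card, Fintype.card_option, ← hq'] at this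
      change N0 * (q + 1) ≤ _ at this
      rw [← hN0] at this
      have e2 : q ^ (e + 1) * (q + 1) = q ^ (e + 2) + q ^ (e + 1) := by ring
      have hpos : 0 < q ^ (e + 1) := pow_pos (by omega) _
      omega
    refine ⟨s, fun b => Subtype.ext ?_⟩
    show ((eg (Q.comp M.subtype) u z).1 (C b)).1 =
      (C ((eg (Q.comp M.subtype) u z).1 b)).1 - s • ((eg (Q.comp M.subtype) u z).1 b).1
    rw [hres, hres]
    have hm : (g.1 (Cf b).1, g.1 b.1) ∈ shiftL s '' (W : Set (V × V)) := hs ▸ ⟨_, hCmem b, rfl⟩
    obtain ⟨p, hp, ep⟩ := hm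
    rw [shiftL_apply, Prod.mk.injEq] at ep
    have hp1 : p.1 = (Cf ((eg (Q.comp M.subtype) u z).1 b)).1 := hCuniq _ p.1 (by rw [hres, ← ep.2]; exact hp)
    show g.1 (Cf b).1 = (Cf ((eg (Q.comp M.subtype) u z).1 b)).1 - s • g.1 b.1
    rw [← hp1, ← ep.1, ep.2]

end CfsgLib.OmegaMin
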