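import Mathlib
import Cfsg.Agent.Lib.OmegaMin.SmallTrans
import Cfsg.Agent.Lib.OmegaMin.Main

/-! The bound over two or three field elements. -/

set_option autoImplicit false
set_option maxHeartbeats 1000000

namespace CfsgLib.OmegaMin

open QuadraticMap CfsgLib.WittExtension Module CfsgLib.SpinorNorm CfsgLib.Eichler CfsgLib.OmegaSimple

universe uF uV

variable {F : Type uF} {V : Type uV} [Field F] [Fintype F] [AddCommGroup V] [Module F V] [FiniteDimensional F V]
  {Q : QuadraticForm F V} {v w : V}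

theorem level_eq_cnt {c : F} (hc : c ≠ 0) :
    {y : V | y ∈ perp Q v w ∧ y ≠ 0 ∧ Q y = c}.ncard = cnt (Q.comp (perp Q v w).subtype) c := by
  rw [cnt, ← Nat.card_coe_set_eq]
  exact Nat.card_congr
    { toFun := fun y => ⟨⟨y.1, y.2.1⟩, y.2.2.2⟩
      invFun := fun y => ⟨y.1.1, y.1.2, fun e => hc (by
        rw [← show Q y.1.1 = c from y.2, e, QuadraticMap.map_zero]), y.2⟩
      left_inv := fun _ => rfl
      right_inv := fun _ => rfl }

theorem level_eq_sing :
    {y : V | y ∈ perp Q v w ∧ y ≠ 0 ∧ Q y = 0}.ncard + 1 = cnt (Q.comp (perp Q v w).subtype) (0 : F) := by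
  rw [← sing_card, ← Set.ncard_image_of_injective (Sing (Q.comp (perp Q v w).subtype)) Subtype.val_injective]
  congr 2
  ext y
  exact ⟨fun hy => ⟨⟨y, hy.1⟩, ⟨fun e => hy.2.1 (congrArg Subtype.val e), hy.2.2⟩, rfl⟩,
    fun ⟨z, ⟨z0, zQ⟩, ez⟩ => ez ▸ ⟨z.2, fun e => z0 (Subtype.ext e), zQ⟩⟩

variable (hQ : (polarBilin Q).Nondegenerate) (hn : 7 ≤ finrank F V)
include hQ hn

/-- The index of a complemented point stabiliser. -/
theorem levi_index (h : Hyp Q v w) {H : Subgroup (quadIso Q)} (hL : Levi h H) :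
    H.relIndex (Pst Q v) = Fintype.card F ^ finrank F (perp Q v w) := by
  haveI : Finite V := finite_space F V
  have hn5 : 5 ≤ finrank F V := by omega
  have hE := relIndex_EG h H
  rw [hL.1, AddSubgroup.card_bot, mul_one] at hE
  refine le_antisymm ?_ (hE ▸ relIndex_mono H (EG_le hQ hn5 h))
  rw [Subgroup.relIndex, Subgroup.index, ← Nat.card_eq_fintype_card (α := F),
    ← Module.natCard_eq_pow_finrank (K := F) (V := perp Q v w)]
  refine Nat.card_le_card_of_surjective (fun y : perp Q v w =>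
    ((⟨eg Q v y.1, EG_le hQ hn5 h ⟨y.1, y.2, rfl⟩⟩ : Pst Q v) : Pst Q v ⧸ H.subgroupOf (Pst Q v))) fun z => ?_
  obtain ⟨⟨g, hg⟩, rfl⟩ := QuotientGroup.mk_surjective z
  obtain ⟨y, hy, hgy⟩ := levi_decomp hQ hn5 h hL (inv_mem hg)
  refine ⟨⟨y, hy⟩, ((QuotientGroup.eq).2 ?_).symm⟩
  rw [Subgroup.mem_subgroupOf]
  exact hgy

/-- A Levi point gives the bound. -/
theorem levi_small (hq : Fintype.card F ≤ 3) (H : Subgroup (quadIso Q)) (hH : H ≤ Om Q) (hne : ¬ Om Q ≤ H)
    (h : Hyp Q v w) (hL : Levi h H) {Mb : ℕ} (hM1 : Mb ≤ Nat.card (SPt Q))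
    (hM2 : Mb ≤ 2 * Fintype.card F ^ (finrank F V - 2))
    (hMc : ∀ c : F, c ≠ 0 → (Fintype.card F - 1) * Mb ≤ cnt Q c) : Mb ≤ H.relIndex (Om Q) := by
  classical
  haveI : Finite V := finite_space F V
  haveI := finite_spt (Q := Q)
  by_contra hbad
  push Not at hbad
  have hn5 : 5 ≤ finrank F V := by omega
  have hd2 := h.finrank_perp
  set q := Fintype.card F with hq'
  have hq2 : 2 ≤ q := Fintype.one_lt_card
  set d := finrank F V - 2 with hd'
  have hcv : H.relIndex (Pst Q v) = q ^ d := by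
    rw [levi_index hQ hn h hL, ← hq', hd', show finrank F V - 2 = finrank F (perp Q v w) by omega]
  have hflatv : ∀ z, polar Q v z = 0 → eg Q v z ∈ H → ∃ c : F, z = c • v := fun z hz hm => by
    rw [eg_proj h hz] at hm
    have h0 : proj Q v w z ∈ Wp Q h H := ⟨h.proj_mem z, hm⟩
    rw [hL.1, AddSubgroup.mem_bot] at h0
    refine ⟨polar Q w z, ?_⟩
    conv_lhs => rw [h.decomp z, h0, hz, zero_smul, add_zero, zero_add]
  set P : SPt Q := pt h.ne_left h.qv with hP
  have htr : ∀ x, x ∈ MulAction.orbit (Om Q) P := fun x => spt_transitive hQ hn5 P x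
  have hoc := orbit_count H (Om Q) hH P
  rw [Nat.card_congr (Equiv.subtypeUnivEquiv htr), hP, pst_stab h.ne_left h.qv, hcv, ← hP] at hoc
  by_cases hall : ∀ x, x ∈ MulAction.orbit H P
  · -- one orbit
    rw [Nat.card_congr (Equiv.subtypeUnivEquiv hall)] at hoc
    have hidx : H.relIndex (Om Q) = q ^ d := by
      haveI : Nonempty (SPt Q) := ⟨P⟩
      exact Nat.eq_of_mul_eq_mul_left (Nat.card_pos (α := SPt Q)) (by rw [mul_comm]; exact hoc)
    obtain ⟨x, hx0, hxQ⟩ := FiniteForms.exists_singular (Q.comp (perp Q v w).subtype)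
      (show 3 ≤ finrank F (perp Q v w) by omega)
    obtain ⟨x', hfr⟩ := exists_fr hQ h x.2 (fun e => hx0 (Subtype.ext e)) hxQ
    refine flat_absurd hQ hn hq hfr H (fun u z hu0 hu huz hm => ?_) (by rw [hidx, hd'])
    obtain ⟨⟨k, hk⟩, e⟩ := hall (pt hu0 hu)
    have e' : k • P = pt hu0 hu := e
    rw [hP, smul_pt] at e'
    have e'' : Submodule.span F {k.1 v} = Submodule.span F {u} := congrArg Subtype.val e'
    obtain ⟨c, hc⟩ := Submodule.mem_span_singleton.1 (e'' ▸ Submodule.mem_span_singleton_self (k.1 v))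
    have hc0 : c ≠ 0 := fun e => h.ne_left (k.1.injective (by rw [← hc, e, zero_smul, map_zero]))
    have hki : k⁻¹.1 u = c⁻¹ • v :=
      inv_app_eq k (by rw [map_smul, ← hc, smul_smul, inv_mul_cancel₀ hc0, one_smul])
    have h2 : polar Q v (k⁻¹.1 z) = 0 := by
      have h3 := polar_iso Q k⁻¹ u z
      rw [hki, polar_smul_left, huz, smul_eq_mul] at h3
      exact (mul_eq_zero.1 h3).resolve_left (inv_ne_zero hc0)
    have h3 := mul_mem (mul_mem (inv_mem hk) hm) (inv_mem (inv_mem hk))
    rw [eg_conj hu huz, hki, eg_smul_left h.qv h2] at h3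
    obtain ⟨t, ht⟩ := hflatv _ (by rw [polar_smul_right, h2, smul_zero]) h3
    refine ⟨c * t * c, ?_⟩
    have h4 := congrArg (fun y => k.1 (c • y)) ht
    simp only [map_smul, app_inv_app] at h4
    rw [smul_smul, mul_inv_cancel₀ hc0, one_smul, ← hc, smul_smul, smul_smul] at h4
    exact h4
  -- a second orbit
  push Not at hall
  obtain ⟨y0, hy0⟩ := hall
  obtain ⟨y, hyne, hyQ, rfl⟩ := pt_surj y0
  have htwo := two_orbits H (Om Q) hH P (pt hyne hyQ) htr hy0
  rw [hP, pst_stab h.ne_left h.qv, pst_stab hyne hyQ, hcv] at htwo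
  obtain ⟨y', hy', hyy⟩ := exists_partner Q hQ hyne hyQ
  have hy : Hyp Q y y' := ⟨hyQ, hy', hyy⟩
  have hdy := hy.finrank_perp
  by_cases hout : ∃ z ∈ perp Q y y', eg Q y z ∉ H
  · have hdd : finrank F (perp Q y y') = d := by omega
    rcases second_bound hQ hn hq hy H hout with hb | ⟨c, hb⟩
    · rw [← hq', hdd] at hb
      omega
    · rw [← hq'] at hb
      have h1 := Nat.mul_le_mul_left (q - 1) htwo
      rw [mul_add] at h1
      by_cases hc : c = 0
      · subst hc
        have hs := level_eq_sing (Q := Q) (v := y) (w := y')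
        have hsplit := hy.cnt_split (0 : F)
        rw [hdd, ← hs, ← hq', mul_add, mul_one] at hsplit
        have hN := sing_card (Q := Q)
        rw [sing_card_spt, ← hq'] at hN
        set n := H.relIndex (Om Q)
        have hN1 : Nat.card (SPt Q) ≤ n + 1 := by
          refine Nat.le_of_mul_le_mul_left ?_ (show 0 < q - 1 by omega)
          rw [mul_add, mul_one]
          omega
        have hNeq : Nat.card (SPt Q) = n + 1 := by omega
        have hdvd : n ∣ q ^ d := by
          have hco : Nat.Coprime n (n + 1) := Nat.coprime_self_add_right.2 (Nat.coprime_one_right n)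
          refine hco.dvd_of_dvd_mul_left ?_
          rw [← hNeq, ← hoc]
          exact Dvd.intro _ rfl
        have := Nat.le_of_dvd (pow_pos (by omega) d) hdvd
        have := relIndex_pos H (Pst Q y)
        omega
      · have hs := level_eq_cnt (Q := Q) (v := y) (w := y') hc
        have hsplit := hy.cnt_split c
        rw [hdd, ← hq', ← hs] at hsplit
        have := hMc c hc
        have h5 : (q - 1) * Mb ≤ (q - 1) * H.relIndex (Om Q) := by omega
        have := Nat.le_of_mul_le_mul_left h5 (show 0 < q - 1 by omega)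
        omega
  -- the whole radical at `y`
  push Not at hout
  let Full : V → Prop := fun u => u ≠ 0 ∧ Q u = 0 ∧ ∀ z, polar Q u z = 0 → eg Q u z ∈ H
  have hyF : Full y := ⟨hyne, hyQ, fun z hz => by rw [eg_proj hy hz]; exact hout _ (hy.proj_mem z)⟩
  have hvnot : ¬ Full v := fun hv => by
    obtain ⟨z, hz0, -⟩ := FiniteForms.exists_singular (Q.comp (perp Q v w).subtype)
      (show 3 ≤ finrank F (perp Q v w) by omega)
    obtain ⟨z1, z2⟩ := (mem_perp Q).1 z.2
    obtain ⟨c, hc⟩ := hflatv z.1 z1 (hv.2.2 z.1 z1)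
    have := congrArg (polar Q w) hc
    rw [z2, polar_smul_right, h.wv, smul_eq_mul, mul_one] at this
    rw [← this, zero_smul] at hc
    exact hz0 (Subtype.ext hc)
  have hvF : ∀ u, Full u → polar Q v u ≠ 0 := by
    rintro u ⟨hu0, hu, hfull⟩ e
    have h1 := hfull (-v) (by rw [polar_neg_right, pol_symm, e, neg_zero])
    rw [eg_swap h.qv hu e] at h1
    obtain ⟨c, hc⟩ := hflatv u e h1
    have hc0 : c ≠ 0 := fun e => hu0 (by rw [hc, e, zero_smul])
    refine hvnot ⟨h.ne_left, h.qv, fun z hz => ?_⟩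
    have h2 := hfull (c⁻¹ • z) (by rw [hc, polar_smul_left, polar_smul_right, hz, smul_zero, smul_zero])
    rwa [hc, eg_smul_left h.qv (by rw [polar_smul_right, hz, smul_zero]), smul_smul, mul_inv_cancel₀ hc0,
      one_smul] at h2
  have hpair : ∀ a b, Full a → Full b → polar Q a b = 0 := by
    rintro a b ⟨-, ha, hfa⟩ ⟨-, hb, hfb⟩
    by_contra hab
    have hh : Hyp Q a ((polar Q a b)⁻¹ • b) := ⟨ha, by rw [QuadraticMap.map_smul, hb, smul_zero],
      by rw [polar_smul_right, smul_eq_mul, inv_mul_cancel₀ hab]⟩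
    refine hne (two_radicals hQ hn5 hh H ?_ ?_)
    · rintro g ⟨z, hz, rfl⟩
      exact hfa z ((mem_perp Q).1 hz).1
    · rintro g ⟨z, hz, rfl⟩
      have h1 : polar Q b z = 0 := by
        have := ((mem_perp Q).1 hz).1
        rw [polar_smul_left, smul_eq_mul] at this
        exact (mul_eq_zero.1 this).resolve_left (inv_ne_zero hab)
      rw [eg_smul_left hb h1]
      exact hfb _ (by rw [polar_smul_right, h1, smul_zero])
  have hmapF : ∀ k ∈ H, ∀ u, Full u → Full (k.1 u) := by
    rintro k hk u ⟨hu0, hu, hfull⟩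
    refine ⟨fun e => hu0 (k.1.injective (by rw [e, map_zero])), by rw [k.2, hu], fun z hz => ?_⟩
    have h1 : polar Q u (k⁻¹.1 z) = 0 := by rw [← polar_iso Q k, app_inv_app]; exact hz
    have := mul_mem (mul_mem hk (hfull _ h1)) (inv_mem hk)
    rwa [eg_conj hu h1, app_inv_app] at this
  set U0 := Submodule.span F {u | Full u} with hU0
  have hU0iso : ∀ a ∈ U0, ∀ b ∈ U0, polar Q a b = 0 := by
    intro a ha b hb
    induction ha, hb using Submodule.span_induction₂ with
    | mem_mem a b ha hb => exact hpair a b ha hb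
    | zero_left b => simp
    | zero_right a => simp
    | add_left a b c ha hb hc h1 h2 => rw [polar_add_left, h1, h2, add_zero]
    | add_right a b c ha hb hc h1 h2 => rw [polar_add_right, h1, h2, add_zero]
    | smul_left r a b ha hb h1 => rw [polar_smul_left, h1, smul_zero]
    | smul_right r a b ha hb h1 => rw [polar_smul_right, h1, smul_zero]
  have hU0Q : ∀ a ∈ U0, Q a = 0 := by
    intro a ha
    induction ha using Submodule.span_induction with
    | mem a ha => exact ha.2.1
    | zero => exact QuadraticMap.map_zero Q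
    | add a b ha hb h1 h2 => rw [QuadraticMap.map_add Q a, h1, h2, hU0iso a ha b hb]; simp
    | smul c a ha h1 => rw [QuadraticMap.map_smul, h1, smul_zero]
  have hU0map : ∀ k ∈ H, ∀ a ∈ U0, k.1 a ∈ U0 := by
    intro k hk a ha
    induction ha using Submodule.span_induction with
    | mem a ha => exact Submodule.subset_span (hmapF k hk a ha)
    | zero => rw [map_zero]; exact zero_mem _
    | add a b _ _ h1 h2 => rw [map_add]; exact add_mem h1 h2
    | smul c a _ h1 => rw [map_smul]; exact Submodule.smul_mem _ _ h1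
  have hyU : y ∈ U0 := Submodule.subset_span hyF
  by_cases hline : ∀ u, Full u → ∃ c : F, u = c • y
  · have := fix_point_bound hQ hn5 hyne hyQ H hH fun k hk => by
      obtain ⟨c, hc⟩ := hline _ (hmapF k hk y hyF)
      exact ⟨c, hc⟩
    omega
  push Not at hline
  obtain ⟨u, huF, huy⟩ := hline
  have hvy := hvF y hyF
  set z := polar Q v u • y - polar Q v y • u with hz
  have hzU : z ∈ U0 := sub_mem (Submodule.smul_mem _ _ hyU) (Submodule.smul_mem _ _ (Submodule.subset_span huF))
  have hzv : polar Q v z = 0 := by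
    rw [hz, sub_eq_add_neg, polar_add_right, polar_neg_right, polar_smul_right, polar_smul_right]
    simp [mul_comm]
  have hz0 : z ≠ 0 := fun e => huy ((polar Q v y)⁻¹ * polar Q v u) (by
    rw [mul_smul, sub_eq_zero.1 e, smul_smul, inv_mul_cancel₀ hvy, one_smul])
  set p := proj Q v w z with hp
  have hzdec : z = p + polar Q w z • v := by
    conv_lhs => rw [h.decomp z, hzv, zero_smul, add_zero]
  have hp0 : p ≠ 0 := fun e => by
    rw [e, zero_add] at hzdec
    have ha : polar Q w z ≠ 0 := fun e => hz0 (by rw [hzdec, e, zero_smul])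
    have hvU : v ∈ U0 := (Submodule.smul_mem_iff _ ha).1 (hzdec ▸ hzU)
    exact hvy (hU0iso v hvU y hyU)
  have hpQ : Q p = 0 := by
    have := (h.parts (h.proj_mem z) (polar Q w z) (polar Q v z)).2.2
    rw [← h.decomp, hU0Q z hzU, hzv, mul_zero, add_zero] at this
    exact this.symm
  obtain ⟨b, hbQ, hpb⟩ := exists_partner (Q.comp (perp Q v w).subtype) (perp_nondeg Q hQ h.qv h.qw h.vw)
    (e := ⟨p, h.proj_mem z⟩) (fun e => hp0 (congrArg Subtype.val e)) hpQ
  rw [sub_polar] at hpb
  have hb0 : b.1 ≠ 0 := fun e => by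
    have hpb' : polar Q p b.1 = 1 := hpb
    rw [e, polar_zero_right] at hpb'
    exact zero_ne_one hpb'
  obtain ⟨g, hg, -, -, -, hgact⟩ := perp_move hQ hn5 h (show 5 ≤ finrank F (perp Q v w) by omega) (h.proj_mem z) b.2
    hp0 hb0 (hpQ.trans (show Q b.1 = 0 from hbQ).symm)
  obtain ⟨s, hs, hk⟩ := levi_decomp hQ hn5 h hL hg
  set k := g * eg Q v s with hkdef
  have hkL : k ∈ Line Q v := mul_mem hg.1 (eg_mem_line h hs)
  have hkp : act Q v w k p = b.1 := by
    rw [hkdef, act_mul h hg.1 (eg_mem_line h hs) (h.proj_mem z), act_eg h hs (h.proj_mem z), hgact]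
  have hkz := hU0map k hk z hzU
  have h0 := hU0iso z hzU _ hkz
  obtain ⟨ek, hk0⟩ := line_scalar h hkL
  have e2 : polar Q z (k.1 z) = polar Q p (proj Q v w (k.1 p)) := by
    have hkv : polar Q v (k.1 z) = 0 := by
      conv_lhs => rw [hzdec, map_add, map_smul, ek, polar_add_right, perp_map h hkL (h.proj_mem z)]
      simp [polar_smul_right, pol_sing Q h.qv]
    have e3 : proj Q v w (k.1 z) = proj Q v w (k.1 p) := by
      conv_lhs => rw [hzdec, map_add, map_smul, ek, smul_smul, proj_add, proj_line h, add_zero]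
    obtain ⟨p1, p2⟩ := (mem_perp Q).1 (h.proj_mem z)
    rw [← e3]
    generalize k.1 z = y0 at hkv ⊢
    conv_lhs => rw [h.decomp y0, hkv, zero_smul, add_zero, hzdec]
    simp [polar_add_left, polar_add_right, polar_smul_left, polar_smul_right, pol_symm Q (proj Q v w z) v,
      pol_sing Q h.qv, ((mem_perp Q).1 (h.proj_mem y0)).1, p1, hp]
  rw [e2] at h0
  have h5 : polar Q p b.1 = 0 := by
    rw [← hkp, act, polar_smul_right, h0, smul_zero]
  exact one_ne_zero (hpb.symm.trans h5)

/-- The bound over two or three field elements. -/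
theorem main_small (hq : Fintype.card F ≤ 3) (H : Subgroup (quadIso Q)) (hH : H ≤ Om Q) (hne : ¬ Om Q ≤ H) {Mb : ℕ}
    (hM1 : Mb ≤ Nat.card (SPt Q)) (hM2 : Mb ≤ 2 * Fintype.card F ^ (finrank F V - 2))
    (hMc : ∀ c : F, c ≠ 0 → (Fintype.card F - 1) * Mb ≤ cnt Q c)
    (hsp : ∀ v x v' x', ∀ h : Fr Q v x v' x', Free Q v x H → Special h H → Mb ≤ H.relIndex (Om Q)) :
    Mb ≤ H.relIndex (Om Q) := by
  obtain ⟨v, x, v', x', h, hf⟩ := exists_free hQ hn H hne
  have hd1 := h.h1.finrank_perp
  have hd2 := h.h2.finrank_perp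
  by_cases hlt : H.relIndex (Om Q) < 2 * Fintype.card F ^ (finrank F V - 2)
  swap
  · omega
  have e1 : finrank F (perp Q v v') = finrank F V - 2 := by omega
  have e2 : finrank F (perp Q x x') = finrank F V - 2 := by omega
  rcases line_step hQ hn h H hf (by rw [e1]; exact hlt) with hs | hs | hs
  · have hL := small_levi hQ hn h.h1 H hs
      (lt_of_le_of_lt (pst_index_le hQ H v) (by rw [e1]; exact hlt))
    exact levi_small hQ hn hq H hH hne h.h1 hL hM1 hM2 hMc
  · have hL := small_levi hQ hn h.h2 H hs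
      (lt_of_le_of_lt (pst_index_le hQ H x) (by rw [e2]; exact hlt))
    exact levi_small hQ hn hq H hH hne h.h2 hL hM1 hM2 hMc
  · exact hsp v x v' x' h hf hs

/-- The stabiliser of a nonsingular point over two or three elements. -/
theorem pst_nonsing (hq : Fintype.card F ≤ 3) {a : V} (ha : Q a ≠ 0) :
    (Fintype.card F - 1) * (Pst Q a).relIndex (Om Q) = cnt Q (Q a) := by
  classical
  haveI : Finite V := finite_space F V
  have hn5 : 5 ≤ finrank F V := by omega
  have ha0 : a ≠ 0 := fun e => ha (by rw [e, QuadraticMap.map_zero])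
  set S := MulAction.stabilizer (quadIso Q) a
  have key : ∀ K : Subgroup (quadIso Q), S.relIndex K = Nat.card (MulAction.orbit K a) := fun K => by
    have h := Subgroup.index_eq_card (MulAction.stabilizer K a)
    rw [← Nat.card_congr (MulAction.orbitEquivQuotientStabilizer K a)] at h
    rw [← h]
    rfl
  have hlev : ∀ b, b ≠ 0 → Q b = Q a → ∃ g ∈ Om Q, g.1 a = b := fun b hb hQb => by
    obtain ⟨e₁, w₁, e₂, w₂, q1, p1, q2, p2, e⟩ := level_move hQ (show 5 ≤ finrank F V by omega) ha0 hb hQb.symm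
    exact ⟨eg Q e₂ w₂ * eg Q e₁ w₁, mul_mem (eg_mem Q hQ hn5 q2 p2) (eg_mem Q hQ hn5 q1 p1), e⟩
  have h1 : S.relIndex (Om Q) = cnt Q (Q a) := by
    rw [key, cnt]
    refine Nat.card_congr (Equiv.subtypeEquivRight fun b => ⟨?_, fun hb => ?_⟩)
    · rintro ⟨⟨g, hg⟩, rfl⟩
      exact g.2 a
    · obtain ⟨g, hg, e⟩ := hlev b (fun e => ha (by rw [← hb, e, QuadraticMap.map_zero])) hb
      exact ⟨⟨g, hg⟩, e⟩
  have h2 : S.relIndex (Pst Q a) = Fintype.card F - 1 := by
    rw [key, ← Fintype.card_units, ← Nat.card_eq_fintype_card]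
    refine (Nat.card_congr (Equiv.ofBijective
      (fun c : Fˣ => (⟨(c : F) • a, ?_⟩ : MulAction.orbit (Pst Q a) a)) ⟨?_, ?_⟩)).symm
    · obtain ⟨g, hg, e⟩ := hlev ((c : F) • a) (smul_ne_zero c.ne_zero ha0)
        (by rw [QuadraticMap.map_smul, small_sq hq c.ne_zero, one_smul])
      exact ⟨⟨g, ⟨c, e⟩, hg⟩, e⟩
    · exact fun c c' e => Units.ext (smul_left_injective F ha0 (congrArg Subtype.val e :))
    · rintro ⟨b, ⟨g, hg⟩, rfl⟩
      obtain ⟨c, hc⟩ := hg.1
      have hc0 : c ≠ 0 := fun e => ha0 (g.1.injective (by rw [hc, e, zero_smul, map_zero]))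
      exact ⟨Units.mk0 c hc0, Subtype.ext hc.symm⟩
  have hle : S ⊓ Om Q ≤ Pst Q a := fun g hg => ⟨⟨1, by rw [one_smul]; exact hg.1⟩, hg.2⟩
  have h3 := Subgroup.relIndex_mul_relIndex (S ⊓ Om Q) (Pst Q a) (Om Q) hle inf_le_right
  rw [Subgroup.inf_relIndex_right, h1] at h3
  rw [← h3]
  congr 1
  rw [← h2, ← Subgroup.inf_relIndex_right (S ⊓ Om Q) (Pst Q a), inf_assoc,
    inf_eq_right.2 (show Pst Q a ≤ Om Q from inf_le_right), Subgroup.inf_relIndex_right]

end CfsgLib.OmegaMin
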