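import Mathlib
import Cfsg.Agent.Lib.OmegaMin.SpecialPoint
import Cfsg.Agent.Lib.OmegaMin.Main

/-! The bound in the special configuration in dimension eight. -/

set_option autoImplicit false
set_option maxHeartbeats 1000000

namespace CfsgLib.OmegaMin

open QuadraticMap CfsgLib.WittExtension Module CfsgLib.SpinorNorm CfsgLib.Eichler CfsgLib.OmegaSimple

universe uF uV

variable {F : Type uF} {V : Type uV} [Field F] [AddCommGroup V] [Module F V] {Q : QuadraticForm F V} {v x v' x' : V}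

theorem norm_ev (h : Fr Q v x v' x') {A : Submodule F V} {H : Subgroup (quadIso Q)} (N : Norm h A H) :
    (∀ y ∈ A, eg Q v y ∈ H) ∧ (∀ y ∈ A, eg Q x y ∈ H) :=
  ⟨fun y hy => by rw [← uel_left h]; exact N.mem y hy 0 (zero_mem _),
    fun y hy => by rw [← uel_right h]; exact N.mem 0 (zero_mem _) y hy⟩

theorem norm_ker_left (h : Fr Q v x v' x') {A : Submodule F V} {H : Subgroup (quadIso Q)}
    (hA : A ≤ Mid Q v x v' x') (N : Norm h A H) : ∀ y ∈ Wp Q h.h1 H, polar Q x y = 0 → y ∈ A := by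
  intro y hy hxy
  obtain ⟨hy1, hy2⟩ := hy
  have hm : proj Q x x' y ∈ Mid Q v x v' x' :=
    ⟨sub_mem (sub_mem hy1 (Submodule.smul_mem _ _ h.hx)) (Submodule.smul_mem _ _ h.hx'), h.h2.proj_mem _⟩
  have e : y = proj Q x x' y + polar Q x' y • x := by
    conv_lhs => rw [h.h2.decomp y, hxy, zero_smul, add_zero]
  have hu : uel Q v x (proj Q x x' y) 0 (polar Q x' y) ∈ H := by
    rw [uel, eg_zero h.h2.qv, mul_one, ← e]; exact hy2
  have hα := (N.sub (_, 0) ⟨hm, zero_mem _, _, hu⟩).1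
  have ht := h.free_unique N.free (hA hα) (zero_mem _) hu (N.mem _ hα 0 (zero_mem _))
  rw [e, ht, zero_smul, add_zero]
  exact hα

theorem norm_ker_right (h : Fr Q v x v' x') {A : Submodule F V} {H : Subgroup (quadIso Q)}
    (hA : A ≤ Mid Q v x v' x') (N : Norm h A H) : ∀ y ∈ Wp Q h.symm.h1 H, polar Q v y = 0 → y ∈ A := by
  intro y hy hvy
  obtain ⟨hy1, hy2⟩ := hy
  have hm : proj Q v v' y ∈ Mid Q v x v' x' :=
    ⟨h.h1.proj_mem _, sub_mem (sub_mem hy1 (Submodule.smul_mem _ _ h.symm.hx)) (Submodule.smul_mem _ _ h.symm.hx')⟩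
  have e : y = proj Q v v' y + polar Q v' y • v := by
    conv_lhs => rw [h.h1.decomp y, hvy, zero_smul, add_zero]
  have hu : uel Q v x 0 (proj Q v v' y) (-polar Q v' y) ∈ H := by
    rw [e, add_comm, eg_add h.h2.qv (by rw [polar_smul_right, h.pol.2.2.1, smul_zero]) (mid4 hm).2.2.1,
      root_swap h] at hy2
    rw [uel, zero_add]; exact hy2
  have hβ := (N.sub (0, _) ⟨zero_mem _, hm, _, hu⟩).2
  have ht := h.free_unique N.free (zero_mem _) (hA hβ) hu (N.mem 0 (zero_mem _) _ hβ)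
  rw [e, neg_eq_zero.1 ht, zero_smul, add_zero]
  exact hβ

variable [Fintype F] [FiniteDimensional F V]
variable (hQ : (polarBilin Q).Nondegenerate)
include hQ

/-- The special configuration fixes the dimension and the number of points. -/
theorem special_count (h : Fr Q v x v' x') {H : Subgroup (quadIso Q)} (hs : Special h H) :
    finrank F V = 8 ∧ Nat.card (SPt Q) =
      (Fintype.card F ^ 3 + 1) * (Fintype.card F ^ 3 + Fintype.card F ^ 2 + Fintype.card F + 1) := by
  obtain ⟨A, hA, hs', h2, h4, -⟩ := hs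
  obtain ⟨a, b, a', b', D⟩ := exists_dual hQ h hA hs' h2 h4
  have := h.finrank_mid
  exact ⟨by omega, (count8 hQ h D h4).2⟩

variable (hn : 7 ≤ finrank F V)
include hn

theorem special_bound (h : Fr Q v x v' x') {H : Subgroup (quadIso Q)} (hH : H ≤ Om Q) (hf : Free Q v x H)
    (hs : Special h H) {Mb : ℕ} (hMN : Mb ≤ Nat.card (SPt Q)) (hM2 : Mb ≤ 2 * Fintype.card F ^ 6)
    (hsmall : Fintype.card F < 4 →
      Mb ≤ Fintype.card F ^ 3 * (Fintype.card F ^ 3 + Fintype.card F ^ 2 + Fintype.card F + 1)) :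
    Mb ≤ H.relIndex (Om Q) := by
  classical
  haveI : Finite V := finite_space F V
  by_contra hbad
  push Not at hbad
  set q := Fintype.card F with hq'
  set S3 := q ^ 3 + q ^ 2 + q + 1 with hS3
  have hlt : H.relIndex (Om Q) < 2 * q ^ 6 := lt_of_lt_of_le hbad hM2
  obtain ⟨A, hA, hs', h2, h4, hsp⟩ := hs
  obtain ⟨a, b, a', b', D⟩ := exists_dual hQ h hA hs' h2 h4
  obtain ⟨H1, hi1, N1, step2⟩ := normalise hQ hn h D hA hs' hH hf hsp h2 h4 hlt
  have hd6 : finrank F (perp Q v v') = 6 := by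
    have := h.finrank_mid; have := h.h1.finrank_perp; omega
  by_cases hq4 : q < 4
  · obtain ⟨hev, hex⟩ := norm_ev h N1
    obtain ⟨-, -, hcv, -⟩ := point_solid hQ hn h D hs' h4 hev hex (norm_ker_left h hA N1) (by rw [hi1]; exact hlt)
    have := pst_index_le hQ H1 v
    have := hsmall hq4
    rw [← hq', ← hS3] at hcv
    omega
  push Not at hq4
  obtain ⟨s, hs0, hs2⟩ := SympSimple.field_cond (F := F) hq4
  obtain ⟨K, hi, N, T, hT, tv, tw, ty⟩ := step2 s hs0 (by rw [← pow_two]; exact hs2)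
  obtain ⟨hev, hex⟩ := norm_ev h N
  have hltK : K.relIndex (Om Q) < 2 * q ^ 6 := by rw [hi]; exact hlt
  obtain ⟨hW, hPcard, hcv, hlift⟩ := point_solid hQ hn h D hs' h4 hev hex (norm_ker_left h hA N) hltK
  obtain ⟨hWx, -, -, -⟩ := point_solid hQ hn h.symm D.symm hs' (by rw [mid_symm]; exact h4) hex hev
    (norm_ker_right h hA N) hltK
  set P := Submodule.span F ({a, b, x'} : Set V)
  set U := perp Q v v'
  have hPU : P ≤ U := Submodule.span_le.2 (by rintro z (rfl | rfl | rfl); exacts [D.ma.1, D.mb.1, h.hx'])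
  have hxP : x' ∈ P := Submodule.subset_span (Set.mem_insert_of_mem _ (Set.mem_insert_of_mem _ rfl))
  have hxv : eg Q x v' ∈ K :=
    ((hWx v').2 (Submodule.subset_span (Set.mem_insert_of_mem _ (Set.mem_insert_of_mem _ rfl)))).2
  have hPev : ∀ y ∈ P, eg Q v y ∈ K := fun y hy => ((hW y).2 hy).2
  have hQa := D.fr.h1.qv
  have hQb := D.fr.h2.qv
  obtain ⟨c1, -⟩ := D.fr.pol
  have hQP : ∀ y ∈ P, Q y = 0 := fun y hy => by
    obtain ⟨r, z, hz, rfl⟩ := Submodule.mem_span_insert.1 hy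
    obtain ⟨e, t, rfl⟩ := Submodule.mem_span_pair.1 hz
    rw [QuadraticMap.map_add Q (r • a), QuadraticMap.map_add Q (e • b), QuadraticMap.map_smul, QuadraticMap.map_smul,
      QuadraticMap.map_smul, hQa, hQb, h.h2.qw]
    simp [polar_smul_left, polar_smul_right, polar_add_right, c1, (mid4 D.ma).2.2.2.2.2.2.2,
      (mid4 D.mb).2.2.2.2.2.2.2]
  have hPiso : ∀ y ∈ P, ∀ z ∈ P, polar Q y z = 0 := fun y hy z hz => by
    simp only [QuadraticMap.polar, hQP _ (add_mem hy hz), hQP y hy, hQP z hz, sub_zero]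
  set lam := s * s with hlam
  have hl1 : (1 : F) - lam ≠ 0 := sub_ne_zero.2 fun e => hs2 (by rw [pow_two]; exact e.symm)
  -- root groups meeting the plane
  have hroot : ∀ u ∈ P, ∀ w ∈ U, polar Q u w = 0 → eg Q u w ∈ K := by
    intro u hu w hw huw
    obtain ⟨hg, gv, gw⟩ := eg_fix_pair hQ (by omega) (hQP u hu) huw (hPU hu) hw
    set g := eg Q u w with hgdef
    have hact : ∀ y ∈ U, act Q v v' g y = g.1 y := fun y hy => (act_fix h.h1 gv gw hy).1
    have gP : ∀ y ∈ P, g.1 y ∈ P := fun y hy => by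
      rw [hgdef, eg_app (hQP u hu) huw, hPiso u hu y hy, zero_smul, zero_add]
      exact add_mem hy (Submodule.smul_mem _ _ hu)
    obtain ⟨y, hy, hk⟩ := hlift g hg fun z hz => by rw [hact z (hPU hz)]; exact gP z hz
    have hyv : polar Q v y = 0 := hy.1
    have Ty : T * eg Q v y * T⁻¹ = eg Q v (lam • y) := by
      rw [eg_conj h.h1.qv hyv, tv, ty y hy, eg_smul_left h.h1.qv hyv]
    have Tg : T * g * T⁻¹ = g := by rw [hgdef, eg_conj (hQP u hu) huw, ty u (hPU hu), ty w hw]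
    have hm := mul_mem hk (inv_mem (mul_mem (mul_mem hT hk) (inv_mem hT)))
    rw [show T * (g * eg Q v y) * T⁻¹ = (T * g * T⁻¹) * (T * eg Q v y * T⁻¹) by group, Tg, Ty, mul_inv_rev,
      eg_inv h.h1.qv (by rw [polar_smul_right, hyv, smul_zero]),
      show g * eg Q v y * (eg Q v (-(lam • y)) * g⁻¹) = g * (eg Q v y * eg Q v (-(lam • y))) * g⁻¹ by group,
      ← eg_add h.h1.qv hyv (by rw [polar_neg_right, polar_smul_right, hyv, smul_zero, neg_zero]),
      show y + -(lam • y) = (1 - lam) • y by rw [sub_smul, one_smul]; abel,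
      conj_eg h.h1 hg.1 (Submodule.smul_mem _ _ hy), hact _ (Submodule.smul_mem _ _ hy)] at hm
    have hgy : g.1 ((1 - lam) • y) ∈ P :=
      (hW _).1 ⟨(act_fix h.h1 gv gw (Submodule.smul_mem _ _ hy)).2, hm⟩
    have hyP : y ∈ P := by
      have e := gP _ hgy
      have h0 : polar Q u (g.1 ((1 - lam) • y)) = 0 := hPiso u hu _ hgy
      have h1 : polar Q u ((1 - lam) • y) = 0 := by
        rw [← polar_iso Q g, hgdef, eg_self (hQP u hu) huw]; exact h0
      rw [hgdef, eg_app (hQP u hu) huw, h1, zero_smul, zero_add] at hgy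
      have := sub_mem hgy (Submodule.smul_mem _ (-(polar Q w ((1 - lam) • y)) - Q w * 0) hu)
      rw [add_sub_cancel_right] at this
      exact (Submodule.smul_mem_iff _ hl1).1 this
    have := mul_mem hk (inv_mem (hPev y hyP))
    rwa [mul_inv_cancel_right] at this
  -- the points of the plane are not conjugate to `v`
  have hout : ∀ p (hp : p ∈ P) (hp0 : p ≠ 0),
      pt hp0 (hQP p hp) ∉ MulAction.orbit K (pt h.h1.ne_left h.h1.qv : SPt Q) := by
    rintro p hp hp0 ⟨⟨k, hk⟩, e⟩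
    have e' : k • (pt h.h1.ne_left h.h1.qv : SPt Q) = pt hp0 (hQP p hp) := e
    rw [smul_pt] at e'
    have e'' : Submodule.span F {k.1 v} = Submodule.span F {p} := congrArg Subtype.val e'
    obtain ⟨c, hc⟩ := Submodule.mem_span_singleton.1 (e'' ▸ Submodule.mem_span_singleton_self (k.1 v))
    have hc0 : c ≠ 0 := fun e => h.h1.ne_left (k.1.injective (by rw [← hc, e, zero_smul, map_zero]))
    have hki : k⁻¹.1 p = c⁻¹ • v := inv_app_eq k (by rw [map_smul, ← hc, smul_smul, inv_mul_cancel₀ hc0, one_smul])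
    obtain ⟨p', hfr⟩ := exists_fr hQ h.h1 (hPU hp) hp0 (hQP p hp)
    have hMp := hfr.finrank_mid
    set Mp := Mid Q v p v' p'
    have hw : ∀ w : Mp, eg Q p w.1 ∈ K ∧ polar Q v (k⁻¹.1 w.1) = 0 ∧ eg Q v (proj Q v v' (c⁻¹ • k⁻¹.1 w.1)) ∈ K ∧
        k⁻¹ * eg Q p w.1 * k = eg Q v (proj Q v v' (c⁻¹ • k⁻¹.1 w.1)) := by
      intro w
      have hpw : polar Q p w.1 = 0 := (mid4 w.2).2.2.1
      have h1 := hroot p hp w.1 w.2.1 hpw
      have h2 : polar Q v (k⁻¹.1 w.1) = 0 := by
        have h3 := polar_iso Q k⁻¹ p w.1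
        rw [hki, polar_smul_left, hpw, smul_eq_mul] at h3
        exact (mul_eq_zero.1 h3).resolve_left (inv_ne_zero hc0)
      have h3 := mul_mem (mul_mem (inv_mem hk) h1) (inv_mem (inv_mem hk))
      have h4 : k⁻¹ * eg Q p w.1 * k = eg Q v (proj Q v v' (c⁻¹ • k⁻¹.1 w.1)) := by
        conv_lhs => rw [← inv_inv k]; rw [inv_inv k⁻¹]
        rw [← eg_proj h.h1 (by rw [polar_smul_right, h2, smul_zero]), ← eg_smul_left h.h1.qv h2, ← hki]
        have := eg_conj (hQP p hp) hpw k⁻¹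
        rwa [inv_inv] at this
      rw [inv_inv] at h3
      exact ⟨h1, h2, h4 ▸ h3, h4⟩
    have hle : Nat.card Mp ≤ Nat.card P :=
      Nat.card_le_card_of_injective (fun w : Mp => (⟨proj Q v v' (c⁻¹ • k⁻¹.1 w.1),
        (hW _).1 ⟨h.h1.proj_mem _, (hw w).2.2.1⟩⟩ : P)) fun w1 w2 e => by
        have e1 : proj Q v v' (c⁻¹ • k⁻¹.1 w1.1) = proj Q v v' (c⁻¹ • k⁻¹.1 w2.1) := congrArg Subtype.val e
        have e2 := (hw w1).2.2.2
        rw [e1, ← (hw w2).2.2.2] at e2
        exact Subtype.ext (eg_injective (hQP p hp) hfr.h2.vw (mid4 w1.2).2.2.1 (mid4 w2.2).2.2.1 (mid4 w1.2).2.2.2.1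
          (mid4 w2.2).2.2.2.1 (mul_left_cancel (mul_right_cancel e2)))
    rw [hPcard, Module.natCard_eq_pow_finrank (K := F), Nat.card_eq_fintype_card, ← hq',
      show finrank F Mp = 4 by have := h.finrank_mid; omega] at hle
    have := Nat.pow_lt_pow_right (show 1 < q by omega) (show 3 < 4 by norm_num)
    omega
  -- an excluded solid
  haveI := finite_spt (Q := Q)
  set QP := Q.comp P.subtype with hQPdef
  haveI := finite_spt (Q := QP)
  set O := MulAction.orbit K (pt h.h1.ne_left h.h1.qv : SPt Q)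
  have hy0 : ∀ y : P, v' + y.1 ≠ 0 ∧ Q (v' + y.1) = 0 ∧ polar Q v (v' + y.1) = 1 := by
    intro y
    obtain ⟨y1, y2⟩ := (mem_perp Q).1 (hPU y.2)
    refine ⟨fun e => ?_, ?_, ?_⟩
    · have := congrArg (polar Q v) e
      rw [polar_add_right, h.h1.vw, y1, polar_zero_right, add_zero] at this
      exact one_ne_zero this
    · rw [QuadraticMap.map_add Q v', h.h1.qw, hQP y.1 y.2, y2]; simp
    · rw [polar_add_right, h.h1.vw, y1, add_zero]
  choose rep hrep0 hrepQ hrep using fun z : SPt QP => pt_surj z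
  let f : SPt QP ⊕ P → SPt Q := fun i => i.elim
    (fun z => pt (e := (rep z).1) (fun e => hrep0 z (Subtype.ext e)) (hQP _ (rep z).2))
    (fun y => pt (hy0 y).1 (hy0 y).2.1)
  have hfinj : Function.Injective f := by
    have key : ∀ e1 e2 : V, Submodule.span F {e1} = Submodule.span F {e2} → ∃ c : F, e1 = c • e2 := fun e1 e2 e' => by
      obtain ⟨c, hc⟩ := Submodule.mem_span_singleton.1 (e' ▸ Submodule.mem_span_singleton_self e1)
      exact ⟨c, hc.symm⟩
    have hv : ∀ z : P, polar Q v z.1 = 0 := fun z => (hPU z.2).1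
    rintro (z | y) (z' | y') e
    · obtain ⟨c, hc⟩ := key (rep z).1 (rep z').1 (congrArg Subtype.val e :)
      exact congrArg Sum.inl (by rw [hrep z, hrep z']; exact pt_eq _ _ _ _ c (Subtype.ext hc))
    · obtain ⟨c, hc⟩ := key (rep z).1 (v' + y'.1) (congrArg Subtype.val e :)
      have := congrArg (polar Q v) hc
      rw [hv, polar_smul_right, (hy0 y').2.2, smul_eq_mul, mul_one] at this
      exact absurd (by rw [hc, ← this, zero_smul] : (rep z).1 = 0) (fun e => hrep0 z (Subtype.ext e))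
    · obtain ⟨c, hc⟩ := key (v' + y.1) (rep z').1 (congrArg Subtype.val e :)
      have := congrArg (polar Q v) hc
      rw [(hy0 y).2.2, polar_smul_right, hv, smul_zero] at this
      exact absurd this one_ne_zero
    · obtain ⟨c, hc⟩ := key (v' + y.1) (v' + y'.1) (congrArg Subtype.val e :)
      have := congrArg (polar Q v) hc
      rw [(hy0 y).2.2, polar_smul_right, (hy0 y').2.2, smul_eq_mul, mul_one] at this
      rw [← this, one_smul] at hc
      exact congrArg Sum.inr (Subtype.ext (add_left_cancel hc))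
  have hmiss : ∀ i, f i ∉ O := by
    rintro (z | y)
    · exact hout _ (rep z).2 (fun e => hrep0 z (Subtype.ext e))
    · intro hm
      set k := eg Q v (y.1 - x') * eg Q x v' with hk
      have hkK : k ∈ K := mul_mem (hPev _ (sub_mem y.2 hxP)) hxv
      have hzv : polar Q v (y.1 - x') = 0 := (hPU (sub_mem y.2 hxP)).1
      have hkx : k.1 x' = (1 : F) • (v' + y.1) := by
        obtain ⟨p1, p2, p3, p4, p5, p6, p7, p8⟩ := h.pol
        have e1 : (eg Q x v').1 x' = x' + v' := by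
          rw [eg_app h.h2.qv p7, h.h2.vw, p6, h.h1.qw]; simp
        have hz : polar Q (y.1 - x') v' = 0 := by
          rw [pol_symm]; exact (hPU (sub_mem y.2 hxP)).2
        have hzx : polar Q (y.1 - x') x' = 0 := hPiso _ (sub_mem y.2 hxP) _ hxP
        rw [hk, mul_app, e1, map_add, eg_app h.h1.qv hzv, eg_app h.h1.qv hzv, p2, h.h1.vw, hzx, hz,
          hQP _ (sub_mem y.2 hxP)]
        module
      refine hout x' hxP h.h2.ne_right ?_
      have e : (⟨k, hkK⟩ : K) • (pt h.h2.ne_right (hQP x' hxP) : SPt Q) = f (Sum.inr y) :=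
        smul_pt_eq k _ _ (hy0 y).1 (hy0 y).2.1 one_ne_zero hkx
      rw [← e] at hm
      obtain ⟨g, hg⟩ := hm
      exact ⟨(⟨k, hkK⟩ : K)⁻¹ * g, by
        show ((⟨k, hkK⟩ : K)⁻¹ * g) • _ = _
        rw [mul_smul, inv_smul_eq_iff]; exact hg⟩
  have hcardP : Nat.card (SPt QP) = q ^ 2 + q + 1 := by
    have hcnt : cnt QP (0 : F) = q ^ 3 := by
      rw [← hPcard, cnt]
      exact Nat.card_congr (Equiv.subtypeUnivEquiv fun y : P => hQP y.1 y.2)
    refine spt_count hcnt ?_
    obtain ⟨r, hr⟩ : ∃ r, q = r + 1 := ⟨q - 1, by omega⟩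
    rw [← hq', hr, Nat.add_sub_cancel]; ring
  have hO : Nat.card O + S3 ≤ Nat.card (SPt Q) := by
    have h1 : (Set.range f).ncard = S3 := by
      rw [← Nat.card_coe_set_eq, Nat.card_range_of_injective hfinj, Nat.card_sum, hcardP, hPcard, hS3]; ring
    have hd : Disjoint O (Set.range f) := by
      rw [Set.disjoint_left]; rintro z hz ⟨i, rfl⟩; exact hmiss i hz
    rw [← h1, Nat.card_coe_set_eq, ← Set.ncard_union_eq hd, ← Set.ncard_univ]
    exact Set.ncard_le_ncard (Set.subset_univ _) Set.finite_univ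
  -- counting
  have hoc := orbit_count K (Om Q) N.le (pt h.h1.ne_left h.h1.qv : SPt Q)
  rw [Nat.card_congr (Equiv.subtypeUnivEquiv fun x => spt_transitive hQ (by omega) (pt h.h1.ne_left h.h1.qv) x),
    pst_stab h.h1.ne_left h.h1.qv] at hoc
  have hN := (count8 hQ h D h4).2
  rw [← hq', ← hS3] at hN
  rw [← hq', ← hS3] at hcv
  rw [hN] at hO hoc hMN
  have hO' : Nat.card O ≤ q ^ 3 * S3 := by
    have : (q ^ 3 + 1) * S3 = q ^ 3 * S3 + S3 := by ring
    omega
  have h5 : (q ^ 3 + 1) * S3 * (q ^ 3 * S3) ≤ K.relIndex (Om Q) * (q ^ 3 * S3) :=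
    calc (q ^ 3 + 1) * S3 * (q ^ 3 * S3) ≤ (q ^ 3 + 1) * S3 * K.relIndex (Pst Q v) := Nat.mul_le_mul_left _ hcv
      _ = K.relIndex (Om Q) * Nat.card O := hoc.symm
      _ ≤ _ := Nat.mul_le_mul_left _ hO'
  have h6 := Nat.le_of_mul_le_mul_right h5 (Nat.mul_pos (pow_pos (by omega) 3) (by omega))
  omega

end CfsgLib.OmegaMin
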